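import Cfsg.Agent.Lib.Steiner.Ico.Group
import Cfsg.Agent.Lib.Steiner.J2.Main

/-!
# The quotient of the icosian reflection group is the presented group of order 604800
-/

set_option autoImplicit false
set_option maxRecDepth 100000

namespace Cfsg.Agent.Steiner.Ico

open Quaternion Cfsg.Spor Cfsg.Agent.CosetEnum
open V8

/-- A word of reflections, in the quotient by the centre. -/
noncomputable def toJ2 (w : List ℕ) : Spor.J2 :=
  QuotientGroup.mk' _ (⟨reflProd w, reflProd_mem w⟩ : twoJ2)

theorem toJ2_nil : toJ2 [] = 1 := by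
  rw [toJ2, show (⟨reflProd [], reflProd_mem []⟩ : twoJ2) = 1 from Subtype.ext rfl, map_one]

theorem toJ2_append (u v : List ℕ) : toJ2 (u ++ v) = toJ2 u * toJ2 v := by
  rw [toJ2, toJ2, toJ2, ← map_mul]
  refine congrArg _ (Subtype.ext ?_)
  simp [reflProd]

/-- The image of a generator. -/
noncomputable def genImage (x : J2.Gen) : Spor.J2 :=
  toJ2 (genWord (J2.genList.idxOf x))

theorem evalWord_genImage : ∀ W : List ℕ, (∀ l ∈ W, l < 5) →
    evalWord (letterVal J2.pres.gens genImage) W = toJ2 (W.flatMap genWord)
  | [], _ => toJ2_nil.symm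
  | l :: W, h => by
    have hl := h l List.mem_cons_self
    show letterVal J2.pres.gens genImage l * evalWord _ W = _
    rw [evalWord_genImage W fun i hi => h i (List.mem_cons_of_mem _ hi), List.flatMap_cons,
      toJ2_append]
    congr 1
    interval_cases l <;> rfl

/-- The check on a relator: the product of reflections is plus or minus the identity. -/
noncomputable def relCheck (W : List ℕ) : Bool :=
  W.all (fun l => Nat.blt l 5) &&
    (([0, 1, 2] : List (Fin 3)).all (fun t =>
        decide (applyW (W.flatMap genWord) (axisC t) = axisC t)) ||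
      ([0, 1, 2] : List (Fin 3)).all (fun t =>
        decide (applyW (W.flatMap genWord) (axisC t) = smulC (V8.neg cOne) (axisC t))))

theorem rels_ok : J2.pres.relWords.all relCheck = true := by decide +kernel

theorem genImage_rel : ∀ W ∈ J2.pres.relWords,
    evalWord (letterVal J2.pres.gens genImage) W = 1 := by
  intro W hW
  have h := List.all_eq_true.mp rels_ok W hW
  simp only [relCheck, Bool.and_eq_true, Bool.or_eq_true, List.all_eq_true, decide_eq_true_eq] at h
  rw [evalWord_genImage W fun l hl => by simpa using h.1 l hl, toJ2]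
  refine (QuotientGroup.eq_one_iff _).mpr ?_
  have hlin := isLin_of_mem (reflProd_mem (W.flatMap genWord))
  rcases h.2 with h2 | h2
  · rw [show (⟨reflProd (W.flatMap genWord), reflProd_mem _⟩ : twoJ2) = 1 from
      Subtype.ext (perm_ext hlin isLin_one fun t => Subtype.ext (by
        rw [reflProd_apply (W.flatMap genWord) (t := axisC t) rfl,
          h2 t (by fin_cases t <;> decide)]
        rfl))]
    exact one_mem _
  · rw [show (⟨reflProd (W.flatMap genWord), reflProd_mem _⟩ : twoJ2) = negOne from
      Subtype.ext (perm_ext hlin (isLin_of_mem negPerm_mem) fun t => Subtype.ext (by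
        rw [reflProd_apply (W.flatMap genWord) (t := axisC t) rfl,
          h2 t (by fin_cases t <;> decide), vecOf_smulC, ico_neg, ico_one, neg_one_smul]
        exact (negPerm_apply (axisV t)).symm))]
    exact negOne_central

/-- The map from the presented group. -/
noncomputable def presHom : J2.pres.Gp →* Spor.J2 :=
  PresentedGroup.toGroup (J2.pres.kills genImage genImage_rel)

theorem presHom_of (x : J2.Gen) : presHom (PresentedGroup.of x) = genImage x :=
  PresentedGroup.toGroup.of _

theorem presHom_surjective : Function.Surjective presHom := by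
  intro y
  obtain ⟨⟨g, hg⟩, rfl⟩ := QuotientGroup.mk'_surjective _ y
  suffices h : ∀ g ∈ genGroup, ∃ hg : g ∈ twoJ2,
      QuotientGroup.mk' (Subgroup.center twoJ2) ⟨g, hg⟩ ∈ presHom.range by
    obtain ⟨_, h'⟩ := h g (genGroup_eq ▸ hg)
    exact h'
  intro g hg
  induction hg using Subgroup.closure_induction with
  | mem x hx =>
    obtain ⟨i, rfl⟩ := hx
    refine ⟨reflProd_mem _, ?_⟩
    change toJ2 (genWord i) ∈ presHom.range
    rcases lt_or_ge i 5 with hi | hi
    · interval_cases i
      exacts [⟨PresentedGroup.of .a, presHom_of _⟩, ⟨PresentedGroup.of .b, presHom_of _⟩,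
        ⟨PresentedGroup.of .c, presHom_of _⟩, ⟨PresentedGroup.of .d, presHom_of _⟩,
        ⟨PresentedGroup.of .e, presHom_of _⟩]
    · rw [genWord, List.getD_eq_default _ _ (le_trans (by decide) hi), toJ2_nil]
      exact one_mem _
  | one => exact ⟨one_mem _, by exact one_mem _⟩
  | mul x y _ _ hx hy =>
    obtain ⟨hx, hx'⟩ := hx
    obtain ⟨hy, hy'⟩ := hy
    exact ⟨mul_mem hx hy, mul_mem hx' hy'⟩
  | inv x _ hx =>
    obtain ⟨hx, hx'⟩ := hx
    exact ⟨inv_mem hx, inv_mem hx'⟩

theorem noncomm_ok : applyW (genWord 0 ++ genWord 1) (axisC 1) ≠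
    applyW (genWord 1 ++ genWord 0) (axisC 1) := by
  decide +kernel

theorem refl_noncomm : ∃ a b : twoJ2, a * b ≠ b * a := by
  refine ⟨⟨reflProd (genWord 0), reflProd_mem _⟩, ⟨reflProd (genWord 1), reflProd_mem _⟩, fun h => ?_⟩
  refine noncomm_ok (vecOf_injective ?_)
  rw [← reflProd_apply _ (t := axisC 1) (x := axisV 1) rfl,
    ← reflProd_apply _ (t := axisC 1) (x := axisV 1) rfl]
  have e := congrArg Subtype.val h
  simp only [Subgroup.coe_mul] at e
  simp only [reflProd, List.map_append, List.prod_append] at e ⊢
  rw [e]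

theorem presHom_injective : Function.Injective presHom := by
  rw [← MonoidHom.ker_eq_bot_iff]
  haveI := J2.simple
  refine (Subgroup.Normal.eq_bot_or_eq_top presHom.normal_ker).resolve_right fun h => ?_
  obtain ⟨a, b, hab⟩ := refl_noncomm
  apply hab
  obtain ⟨x, hx⟩ := presHom_surjective (QuotientGroup.mk' _ a)
  have hx1 : presHom x = 1 := presHom.mem_ker.mp (h ▸ Subgroup.mem_top x)
  rw [hx1] at hx
  exact ((Subgroup.mem_center_iff.mp ((QuotientGroup.eq_one_iff a).mp hx.symm)) b).symm

/-- The icosian model of the Hall–Janko group. -/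
noncomputable def presEquiv : J2.pres.Gp ≃* Spor.J2 :=
  MulEquiv.ofBijective presHom ⟨presHom_injective, presHom_surjective⟩

theorem card_J2 : Nat.card Spor.J2 = 604800 :=
  (Nat.card_congr presEquiv.toEquiv).symm.trans J2.card_eq.1

theorem card_twoJ2 : Nat.card twoJ2 = 1209600 := by
  rw [Subgroup.card_eq_card_quotient_mul_card_subgroup (Subgroup.center twoJ2), card_center]
  exact (congrArg (· * 2) card_J2).trans (by norm_num)

theorem simple_J2 : IsSimpleGroup Spor.J2 := presEquiv.isSimpleGroup_congr.mp J2.simple

theorem noncomm_J2 : ∃ a b : Spor.J2, a * b ≠ b * a := by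
  by_contra h
  push Not at h
  obtain ⟨x, y, hxy⟩ : ∃ x y : J2.pres.Gp, x * y ≠ y * x := by
    by_contra h'
    push Not at h'
    letI : CommGroup J2.pres.Gp := { (inferInstance : Group J2.pres.Gp) with mul_comm := h' }
    haveI := J2.simple
    haveI := J2.finite
    have hp := IsSimpleGroup.prime_card (α := J2.pres.Gp)
    rw [J2.card_eq.1] at hp
    norm_num at hp
  exact hxy (presEquiv.injective (by rw [map_mul, map_mul, h]))

end Cfsg.Agent.Steiner.Ico
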