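import Cfsg.Agent.Lib.Steiner.Ico.Model
import Cfsg.Agent.Lib.CosetEnum.Pack

/-!
# Data of the minimal vectors of the icosian Leech lattice
-/

set_option autoImplicit false
set_option maxRecDepth 100000

namespace Cfsg.Agent.Steiner.Ico

open Cfsg.Agent.CosetEnum

/-- The possible norms of components. -/
def abList : List (ℤ × ℤ) :=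
  [(0, 0), (16, 0), (24, -8), (24, 8), (32, 0), (40, -8), (40, 8), (48, -16), (48, 0), (48, 16), (56, -24), (56, -8), (56, 8), (56, 24), (64, -16), (64, 0), (64, 16)]

/-- States present, by class. -/
def presentBy : List (List ℕ) :=
  [[0, 1025, 1026, 1027, 1028, 1029, 1030, 1031, 1032, 1033, 1034, 1035, 1036, 1037, 1038, 1039, 1793, 1794, 1795, 1796, 1797, 1798, 1799, 1800, 1801, 1802, 1803, 1804, 1805, 1806, 1807, 2305, 2306, 2307, 2308, 2309, 2310, 2311, 2312, 2313, 2314, 2315, 2316, 2317, 2318, 2319, 3840, 3841, 3842, 3843, 3844, 3845, 3846, 3847, 3848, 3849, 3850, 3851, 3852, 3853, 3854, 3855],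
   [274, 278, 281, 285, 531, 535, 536, 540, 785, 789, 794, 798, 1040, 1044, 1051, 1055, 1297, 1301, 1306, 1310, 1555, 1559, 1560, 1564, 1808, 1812, 1819, 1823, 2066, 2070, 2073, 2077, 2320, 2324, 2331, 2335, 2577, 2581, 2586, 2590, 2835, 2839, 2840, 2844, 3089, 3093, 3098, 3102, 3347, 3351, 3352, 3356, 3602, 3606, 3609, 3613, 3856, 3860, 3867, 3871, 4114, 4118, 4121, 4125],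
   [292, 294, 300, 302, 549, 551, 557, 559, 801, 803, 809, 811, 1056, 1058, 1064, 1066, 1313, 1315, 1321, 1323, 1573, 1575, 1581, 1583, 1824, 1826, 1832, 1834, 2084, 2086, 2092, 2094, 2336, 2338, 2344, 2346, 2593, 2595, 2601, 2603, 2853, 2855, 2861, 2863, 3105, 3107, 3113, 3115, 3365, 3367, 3373, 3375, 3620, 3622, 3628, 3630, 3872, 3874, 3880, 3882, 4132, 4134, 4140, 4142],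
   [306, 307, 308, 309, 568, 569, 574, 575, 826, 827, 828, 829, 1072, 1073, 1078, 1079, 1338, 1339, 1340, 1341, 1592, 1593, 1598, 1599, 1840, 1841, 1846, 1847, 2098, 2099, 2100, 2101, 2352, 2353, 2358, 2359, 2618, 2619, 2620, 2621, 2872, 2873, 2878, 2879, 3130, 3131, 3132, 3133, 3384, 3385, 3390, 3391, 3634, 3635, 3636, 3637, 3888, 3889, 3894, 3895, 4146, 4147, 4148, 4149],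
   [323, 326, 330, 335, 578, 583, 587, 590, 833, 836, 840, 845, 1088, 1093, 1097, 1100, 1345, 1348, 1352, 1357, 1602, 1607, 1611, 1614, 1856, 1861, 1865, 1868, 2115, 2118, 2122, 2127, 2368, 2373, 2377, 2380, 2625, 2628, 2632, 2637, 2882, 2887, 2891, 2894, 3137, 3140, 3144, 3149, 3394, 3399, 3403, 3406, 3651, 3654, 3658, 3663, 3904, 3909, 3913, 3916, 4163, 4166, 4170, 4175],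
   [344, 345, 350, 351, 602, 603, 604, 605, 850, 851, 852, 853, 1104, 1105, 1110, 1111, 1362, 1363, 1364, 1365, 1626, 1627, 1628, 1629, 1872, 1873, 1878, 1879, 2136, 2137, 2142, 2143, 2384, 2385, 2390, 2391, 2642, 2643, 2644, 2645, 2906, 2907, 2908, 2909, 3154, 3155, 3156, 3157, 3418, 3419, 3420, 3421, 3672, 3673, 3678, 3679, 3920, 3921, 3926, 3927, 4184, 4185, 4190, 4191],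
   [362, 363, 364, 365, 610, 611, 612, 613, 872, 873, 878, 879, 1120, 1121, 1126, 1127, 1384, 1385, 1390, 1391, 1634, 1635, 1636, 1637, 1888, 1889, 1894, 1895, 2154, 2155, 2156, 2157, 2400, 2401, 2406, 2407, 2664, 2665, 2670, 2671, 2914, 2915, 2916, 2917, 3176, 3177, 3182, 3183, 3426, 3427, 3428, 3429, 3690, 3691, 3692, 3693, 3936, 3937, 3942, 3943, 4202, 4203, 4204, 4205],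
   [373, 374, 376, 379, 628, 631, 633, 634, 881, 882, 892, 895, 1136, 1139, 1149, 1150, 1393, 1394, 1404, 1407, 1652, 1655, 1657, 1658, 1904, 1907, 1917, 1918, 2165, 2166, 2168, 2171, 2416, 2419, 2429, 2430, 2673, 2674, 2684, 2687, 2932, 2935, 2937, 2938, 3185, 3186, 3196, 3199, 3444, 3447, 3449, 3450, 3701, 3702, 3704, 3707, 3952, 3955, 3965, 3966, 4213, 4214, 4216, 4219],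
   [385, 388, 392, 397, 643, 646, 650, 655, 898, 903, 907, 910, 1152, 1157, 1161, 1164, 1410, 1415, 1419, 1422, 1667, 1670, 1674, 1679, 1920, 1925, 1929, 1932, 2177, 2180, 2184, 2189, 2432, 2437, 2441, 2444, 2690, 2695, 2699, 2702, 2947, 2950, 2954, 2959, 3202, 3207, 3211, 3214, 3459, 3462, 3466, 3471, 3713, 3716, 3720, 3725, 3968, 3973, 3977, 3980, 4225, 4228, 4232, 4237],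
   [404, 407, 409, 410, 657, 658, 668, 671, 917, 918, 920, 923, 1168, 1171, 1181, 1182, 1429, 1430, 1432, 1435, 1681, 1682, 1692, 1695, 1936, 1939, 1949, 1950, 2196, 2199, 2201, 2202, 2448, 2451, 2461, 2462, 2709, 2710, 2712, 2715, 2961, 2962, 2972, 2975, 3221, 3222, 3224, 3227, 3473, 3474, 3484, 3487, 3732, 3735, 3737, 3738, 3984, 3987, 3997, 3998, 4244, 4247, 4249, 4250],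
   [419, 423, 424, 428, 673, 677, 682, 686, 930, 934, 937, 941, 1184, 1188, 1195, 1199, 1442, 1446, 1449, 1453, 1697, 1701, 1706, 1710, 1952, 1956, 1963, 1967, 2211, 2215, 2216, 2220, 2464, 2468, 2475, 2479, 2722, 2726, 2729, 2733, 2977, 2981, 2986, 2990, 3234, 3238, 3241, 3245, 3489, 3493, 3498, 3502, 3747, 3751, 3752, 3756, 4000, 4004, 4011, 4015, 4259, 4263, 4264, 4268],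
   [433, 437, 442, 446, 690, 694, 697, 701, 947, 951, 952, 956, 1200, 1204, 1211, 1215, 1459, 1463, 1464, 1468, 1714, 1718, 1721, 1725, 1968, 1972, 1979, 1983, 2225, 2229, 2234, 2238, 2480, 2484, 2491, 2495, 2739, 2743, 2744, 2748, 2994, 2998, 3001, 3005, 3251, 3255, 3256, 3260, 3506, 3510, 3513, 3517, 3761, 3765, 3770, 3774, 4016, 4020, 4027, 4031, 4273, 4277, 4282, 4286],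
   [450, 455, 459, 462, 705, 708, 712, 717, 963, 966, 970, 975, 1216, 1221, 1225, 1228, 1475, 1478, 1482, 1487, 1729, 1732, 1736, 1741, 1984, 1989, 1993, 1996, 2242, 2247, 2251, 2254, 2496, 2501, 2505, 2508, 2755, 2758, 2762, 2767, 3009, 3012, 3016, 3021, 3267, 3270, 3274, 3279, 3521, 3524, 3528, 3533, 3778, 3783, 3787, 3790, 4032, 4037, 4041, 4044, 4290, 4295, 4299, 4302],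
   [465, 467, 473, 475, 724, 726, 732, 734, 981, 983, 989, 991, 1232, 1234, 1240, 1242, 1493, 1495, 1501, 1503, 1748, 1750, 1756, 1758, 2000, 2002, 2008, 2010, 2257, 2259, 2265, 2267, 2512, 2514, 2520, 2522, 2773, 2775, 2781, 2783, 3028, 3030, 3036, 3038, 3285, 3287, 3293, 3295, 3540, 3542, 3548, 3550, 3793, 3795, 3801, 3803, 4048, 4050, 4056, 4058, 4305, 4307, 4313, 4315],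
   [481, 482, 492, 495, 741, 742, 744, 747, 996, 999, 1001, 1002, 1248, 1251, 1261, 1262, 1508, 1511, 1513, 1514, 1765, 1766, 1768, 1771, 2016, 2019, 2029, 2030, 2273, 2274, 2284, 2287, 2528, 2531, 2541, 2542, 2788, 2791, 2793, 2794, 3045, 3046, 3048, 3051, 3300, 3303, 3305, 3306, 3557, 3558, 3560, 3563, 3809, 3810, 3820, 3823, 4064, 4067, 4077, 4078, 4321, 4322, 4332, 4335],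
   [501, 503, 509, 511, 753, 755, 761, 763, 1012, 1014, 1020, 1022, 1264, 1266, 1272, 1274, 1524, 1526, 1532, 1534, 1777, 1779, 1785, 1787, 2032, 2034, 2040, 2042, 2293, 2295, 2301, 2303, 2544, 2546, 2552, 2554, 2804, 2806, 2812, 2814, 3057, 3059, 3065, 3067, 3316, 3318, 3324, 3326, 3569, 3571, 3577, 3579, 3829, 3831, 3837, 3839, 4080, 4082, 4088, 4090, 4341, 4343, 4349, 4351]]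

/-- The index of the third norm, for two norms. -/
def thirdTree : PTree :=
  .node 144 (.node 72 (.node 36 (.leaf 0x19a318c6318c4118c42219111046318c621888642990f) (.leaf 0x8c4248c6318c6318c6208c4222c6318c6318c6208c431)) (.node 36 (.leaf 0x8c62088a318c6318c6318c6208c4718c6318c6318c620) (.leaf 0x8c6318c4018c6318c6318c6318c6318c6318c6318c631))) (.node 72 (.node 36 (.leaf 0x8c6318c6318c6318c6318c6318c6318c6318c6318c631) (.leaf 0x8c6318c6318c6318c6318c6318c6318c6318c6318c631)) (.node 36 (.leaf 0x8c6318c6318c6318c6318c6318c6318c6318c6318c631) (.leaf 0x118c6318c6318c6318c6318c6318c6318c6318c63104631)))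

/-- The status of each state. -/
def stateTree : PTree :=
  .node 2176 (.node 1088 (.node 544 (.node 272 (.node 136 (.node 68 (.node 34 (.leaf 0x2) (.leaf 0x0)) (.node 34 (.leaf 0x0) (.leaf 0x0))) (.node 68 (.node 34 (.leaf 0x0) (.leaf 0x0)) (.node 34 (.leaf 0x0) (.leaf 0x0)))) (.node 136 (.node 68 (.node 34 (.leaf 0x280009000000000000200007000000000000000c00000000a000001000000000c0000) (.leaf 0x2400000000011000000010000001e0000000000000000000000000000007034180b)) (.node 34 (.leaf 0x36000000000000000034190c05c00000000000000000000000b0540000000002813000000000) (.leaf 0x48000008c00000000000001100000000008400000008000000f8000000000003c0000074001c))) (.node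 68 (.node 34 (.leaf 0x580000000560000000002a000000029140000000138000000000000000000984a00) (.leaf 0x6c001a800000000000680019800003200000620000000600000000002f00000002e00000002d)) (.node 34 (.leaf 0x7a000000000001e00076000000000001d0000039000000000000000000000e06e00000000000) (.leaf 0x1080000001048000000007e00000000000000000000000000000000000000000007c00))))) (.node 272 (.node 136 (.node 68 (.node 34 (.leaf 0x251240000000009047000000000000000000230008a00000000000220008600000000000) (.leaf 0xa85300000000029144a04f00000000000000000000000004e000009a0000000980000000004b)) (.node 34 (.leaf 0x2d800000000000000000168b2002c000005700000000000000000000000000000000ac55)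 (.leaf 0x32000000031800c4000018400000000000000000000602f800bc0000000005d00000005c))) (.node 68 (.node 34 (.leaf 0x6d00000006c00000d60000000d40000000d200001a000000019c0000001980000001940000) (.leaf 0xec00001d40074398000000000000072001c40000000000070001bc0000000000000370000000)) (.node 34 (.leaf 0x3d000f2000000000003c000ee00000000000) (.leaf 0x104004080000000000100003f800007e00000007d0000000003e00000003d8000000)))) (.node 136 (.node 68 (.node 34 (.leaf 0x11400000000089000000088000010e00000010c854220c0000000000000000000000) (.leaf 0x944980124910000000004823c000000000000000000000000000000000000000047235188b)) (.node 34 (.leaf 0x136000000000000026800004c80000004c00000000025c00004b0000095000000000000000000)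 (.leaf 0x148000000146000000000005100000005080000a000000009f000000000000013c0000274009c))) (.node 68 (.node 34 (.leaf 0x560015600000000000550000000002a40000002a000005380000000000000a60000000a5) (.leaf 0xb4002cc00000000000000000000b2588016000002bc0000000015c00568000000)) (.node 34 (.leaf 0x6400000000000000c70000000c662b1186c260b017ebe5eaf176ba5cae16e00002d800b5) (.leaf 0x1a2d000000000067b3800000000000cd0033000000000000cb003299200)))))) (.node 544 (.node 272 (.node 136 (.node 68 (.node 34 (.leaf 0x1b6da0000000000000000006cb60000000001aed60000000d500001a80000001a6000000000d2) (.leaf 0x38800e170000000000000000000001be0000378000000000000000001badc000000000)) (.node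 34 (.leaf 0xeb0000000ea003a5d0000000000000000000007380000e60000000e500001c80000001c600) (.leaf 0x798000000003c9e20000001e000000000000003bc0000003b9da0000001d800000000000))) (.node 68 (.node 34 (.leaf 0x7d80000fa000000000003e400f8000000000003dc00f60000000f500001e800) (.leaf 0x1010040000000000000ff003f800fd7e0000000)) (.node 34 (.leaf 0x8000200000000000008000200000040000000040000000000200000000200000000000) (.leaf 0x8000000000040000000040000008000000008040201000000000000000000000000000)))) (.node 136 (.node 68 (.node 34 (.leaf 0x200008040000000000201000000000000000000000000000000000000000000201008040000) (.leaf 0x1000000200000000200000000001000000200000040000000000000000000001))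 (.node 34 (.leaf 0x8000000000000200000000200000040000000040000000000000008000001000040200) (.leaf 0x200008000000000000200000000001000000001000000200000000000000040000000040200))) (.node 68 (.node 34 (.leaf 0x40001000000000000000000000040200008000001000000000008000200000000000) (.leaf 0x40200000000200000000000000000000000000000000000000000000001000040000)) (.node 34 (.leaf 0x201000000000000000000008000200000000000008000200000000000000000001) (.leaf 0x8040201000000000000000000000000001000000200000000200000000001000000201))))) (.node 272 (.node 136 (.node 68 (.node 34 (.leaf 0x40200008000001000000000000000000000000000000000201008040000) (.leaf 0x8000200000040000000000000000000001008000200000000001000000001000000200))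 (.node 34 (.leaf 0x1000000200000000200000000200000040000000040000000040000000040000000000200) (.leaf 0x1008000000000000001000040000000000001000040000000000000008000000000040000))) (.node 68 (.node 34 (.leaf 0x201008040201008040200000000000008000200000000000008000200000000000008000001) (.leaf 0x1000040000000000001000040200000000200000000000000040000000040201008040201)) (.node 34 (.leaf 0x1000000200000000200000000001000000000000000000008040000000000201000000000) (.leaf 0x201000000000008040000000000000000000201000000000008040000)))) (.node 136 (.node 68 (.node 34 (.leaf 0x1000000001000000200000000200000000001000040200000000000000000000008000001) (.leaf 0x40200000000200000000000000040000000040001008000000000000000000000200))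 (.node 34 (.leaf 0x40001000000001000000200000000200000000001008000000008000000000000001) (.leaf 0x1000040001008000000000000000000000200000040000000000001000040000))) (.node 68 (.node 34 (.leaf 0x200000040000000040000000000000000000000000000000000000000000000000000040001) (.leaf 0x8040201000000001000040000000000001000040000000000000008000000)) (.node 34 (.leaf 0x201000000000000000000008000000000040000000040000008000000000000000) (.leaf 0x200000040001008000000000000000008040201000000000000000000000000201))))))) (.node 1088 (.node 544 (.node 272 (.node 136 (.node 68 (.node 34 (.leaf 0x40200008000001000000000000000200000000001000000001000000200) (.leaf 0x1000000001000000001000000000008000000008000000000040000000040200000000200))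 (.node 34 (.leaf 0x40200000000000008000200000000000008000200000040000008000000008000000) (.leaf 0x201008040201008000200008000000000000200008000000000000200000040000000000000))) (.node 68 (.node 34 (.leaf 0x1000000000000040001008000000008000000000000001000000001008040201008040201) (.leaf 0x8000000008000000000040000000000000000000201000000000008040000000000001)) (.node 34 (.leaf 0x8040000000000201000000000000000000008040000000000201000000001) (.leaf 0x40000008000000008000000000040001008000000000000000000000200000040000)))) (.node 136 (.node 68 (.node 34 (.leaf 0x1008000000008000000000000001000000001000040200000000000000000000008000001) (.leaf 0x1000040000000040000008000000008000000000040200000000200000000000000040000))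 (.node 34 (.leaf 0x40001000040200000000000000000000008000001000000000000040001000000000) (.leaf 0x8000000008000000000000000000000000000000000000000000000000001000040000))) (.node 68 (.node 34 (.leaf 0x8000200000000000008000200000040000000040000) (.leaf 0x8040201000000000008000000000040000000040000008000000008040201)) (.node 34 (.leaf 0x1000000000000000000000040200008040000000000201000000000000000000000000000) (.leaf 0x200000040001008000000000000001000000200000000200000000001000000200))))) (.node 272 (.node 136 (.node 68 (.node 34 (.leaf 0x1000000001008000000008000000000000200000000200000040000000040000) (.leaf 0x200008000000000000200008000000000000200000000001000000001000000200))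 (.node 34 (.leaf 0x40001000000000000040001000000000000000000000040200008000001) (.leaf 0x200008000000000000000000040000000040200000000200000000000000000000000000000))) (.node 68 (.node 34 (.leaf 0x8000000000040000008040000000000201000000000000000000008000200000000000) (.leaf 0x8040201000000000008040201000000000000000000000000001000000200)) (.node 34 (.leaf 0x40000000040000008000000000000000000040200008000001000000000000000000) (.leaf 0x1000000001000000000008000000008000200000040000000000000000000001008000200)))) (.node 136 (.node 68 (.node 34 (.leaf 0x200000000001000000001000000200000000200000000200000040000000040000) (.leaf 0x200008000000000000200000040001008000000000000001000040000000000001000040000))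 (.node 34 (.leaf 0x200000000200000000000000000000000000000000000000000000000008000200000000000) (.leaf 0x200008000000000000200008000001000000001000000000))) (.node 68 (.node 34 (.leaf 0x201008040000000000200000000001000000001000000200000000201008040000) (.leaf 0x1008000201000000000008040000000000000000000000000000000)) (.node 34 (.leaf 0x8000001000040200000000000000040000008000000008000000000040000008000001) (.leaf 0x40000000040200000000200000000000008000000008000001000000001000000000)))))) (.node 544 (.node 272 (.node 136 (.node 68 (.node 34 (.leaf 0x8000200000000000008000200000000000008000000000040000000040000008000000) (.leaf 0x1000040000000000001000040000000000000000000001008000200000040000))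 (.node 34 (.leaf 0x200000000000000000001000000001008000000008000000000000000000000000000000000) (.leaf 0x200000000001000000201000000000008040000000000000000000200008000000000000200))) (.node 68 (.node 34 (.leaf 0x201008040000000000201008040000000000000000000000000040000008000000) (.leaf 0x1000000001000000200000000000000000001008000200000040000000000000000000000)) (.node 34 (.leaf 0x40000000000200000000200008000001000000000000000000000040200008000000) (.leaf 0x8000000000040000000040000008000000008000000008000001000000001000000001)))) (.node 136 (.node 68 (.node 34 (.leaf 0x200000000000008000001000040200000000000000040001000000000000040001000000000) (.leaf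 0x1000000000000000000000000000000000000000000000000000200008000000000000200)) (.node 34 (.leaf 0x201008040000000040001000000000000040001000000000000000200000000200000040000) (.leaf 0x200000000001000000001000000200000000000000000000000000000))) (.node 68 (.node 34 (.leaf 0x1000040200000000000000000201008040000000000000000000000008040000000000201) (.leaf 0x1008000200000040000000000000008000000000040000000040000008000000000000200)) (.node 34 (.leaf 0x40000000000200000000200000000001000000001008000000008000000000000000) (.leaf 0x200008000000000000200008000001000000200000000200000000001000000001))))) (.node 272 (.node 136 (.node 68 (.node 34 (.leaf 0x302008000200000000000008000200000000000008000001000000000000000000000040200)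 (.leaf 0x1000040200000000200000000000000040000000040201008040201008040201008040201)) (.node 34 (.leaf 0x200000000001000000000000000000008040000000000201000000000000040001000000000) (.leaf 0x201000000000008040000000000000000000201000000000008040000000040000008000000))) (.node 68 (.node 34 (.leaf 0x200000000200000000001000040200000000000000000000008000001000000000000000000) (.leaf 0x200000000000000040000000040001008000000000000000000000200000040000000040000)) (.node 34 (.leaf 0x1000000200000000200000000001008000000008000000000000001000000001008000000) (.leaf 0x1008000000000000000000000200000040000000000001000040000000000001000040000)))) (.node 136 (.node 68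 (.node 34 (.leaf 0x40001000000000000040001) (.leaf 0x201000000001000040000000000001000040000000000000008000000008000001000000001)) (.node 34 (.leaf 0x8000000000040000000040000008000000000000000000000000000000201) (.leaf 0x1008000000000000000008040201000000000000000000000000201000000000008040000))) (.node 68 (.node 34 (.leaf 0x200008000001000000000000000200000000001000000001000000200000000000008000001) (.leaf 0x1000000000008000000008000000000040000000040200000000200000000000000000001)) (.node 34 (.leaf 0x8000200000000000008000200000040000008000000008000000000040000000040000) (.leaf 0x200008000000000000200008000000000000200000040000000000000000000001008000000)))))))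

/-- Width of `stateTree`. -/
def stateWidth : ℕ := 9

/-- The components occurring, by state. -/
def buckets : DTree (List V8) :=
  .node 128
 (.node 64
 (.node 32
 (.node 16
 (.node 8
 (.node 4
 (.node 2
 (.node 1
 (.leaf [⟨0, 0, 0, 0, 0, 0, 0, 0⟩])
 (.leaf [⟨-1, 1, -1, -1, 2, -1, 0, 0⟩, ⟨1, -1, 1, 1, -2, 1, 0, 0⟩]))
 (.node 1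
 (.leaf [⟨-1, 0, 3, 1, -1, 0, -1, -1⟩, ⟨1, 0, -3, -1, 1, 0, 1, 1⟩])
 (.leaf [⟨0, 0, -2, -1, 2, -1, 2, 1⟩, ⟨0, 0, 2, 1, -2, 1, -2, -1⟩])))
 (.node 2
 (.node 1
 (.leaf [⟨-2, 1, 2, 1, -1, 0, 1, 0⟩, ⟨2, -1, -2, -1, 1, 0, -1, 0⟩])
 (.leaf [⟨0, 0, -1, 0, 0, 0, 0, 0⟩, ⟨0, 0, 1, 0, 0, 0, 0, 0⟩]))
 (.node 1
 (.leaf [⟨-1, 1, 0, 0, 2, -1, 0, 0⟩, ⟨1, -1, 0, 0, -2, 1, 0, 0⟩])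
 (.leaf [⟨-2, 1, 3, 2, -2, 1, -1, 0⟩, ⟨2, -1, -3, -2, 2, -1, 1, 0⟩]))))
 (.node 4
 (.node 2
 (.node 1
 (.leaf [⟨-1, 0, 0, 0, 0, 0, 1, 0⟩, ⟨1, 0, 0, 0, 0, 0, -1, 0⟩])
 (.leaf [⟨-1, 0, 2, 1, -1, 0, -1, -1⟩, ⟨1, 0, -2, -1, 1, 0, 1, 1⟩]))
 (.node 1
 (.leaf [⟨-1, 1, 2, 1, -1, 0, 0, 0⟩, ⟨1, -1, -2, -1, 1, 0, 0, 0⟩])
 (.leaf [⟨0, 0, -1, -1, 0, 0, 0, 0⟩, ⟨0, 0, 1, 1, 0, 0, 0, 0⟩])))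
 (.node 2
 (.node 1
 (.leaf [⟨-2, 1, 1, 1, 0, 0, 1, 1⟩, ⟨2, -1, -1, -1, 0, 0, -1, -1⟩])
 (.leaf [⟨-2, 1, 0, 0, 0, 0, 2, 1⟩, ⟨2, -1, 0, 0, 0, 0, -2, -1⟩]))
 (.node 1
 (.leaf [⟨-2, 1, 4, 2, -3, 1, -2, -1⟩, ⟨2, -1, -4, -2, 3, -1, 2, 1⟩])
 (.leaf [⟨-2, 1, 0, 0, 2, -1, 0, 0⟩, ⟨2, -1, 0, 0, -2, 1, 0, 0⟩])))))
 (.node 8
 (.node 4
 (.node 2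
 (.node 1
 (.leaf [⟨-2, 1, 4, 2, -1, 0, 0, 0⟩, ⟨2, -1, -4, -2, 1, 0, 0, 0⟩])
 (.leaf [⟨-1, 0, 1, 1, 0, 0, 0, 0⟩, ⟨1, 0, -1, -1, 0, 0, 0, 0⟩]))
 (.node 1
 (.leaf [⟨-1, 1, 1, 1, 0, 0, 1, 1⟩, ⟨1, -1, -1, -1, 0, 0, -1, -1⟩])
 (.leaf [⟨0, 0, -2, -1, 1, 0, 1, 1⟩, ⟨0, 0, 2, 1, -1, 0, -1, -1⟩])))
 (.node 2
 (.node 1
 (.leaf [⟨-2, 1, 2, 1, -1, 0, 0, 0⟩, ⟨2, -1, -2, -1, 1, 0, 0, 0⟩])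
 (.leaf [⟨0, 0, -1, 0, 1, 0, 1, 1⟩, ⟨0, 0, 1, 0, -1, 0, -1, -1⟩]))
 (.node 1
 (.leaf [⟨-2, 1, 3, 2, -1, 0, 0, 0⟩, ⟨2, -1, -3, -2, 1, 0, 0, 0⟩])
 (.leaf [⟨-1, 0, 0, 0, 0, 0, 0, 0⟩, ⟨1, 0, 0, 0, 0, 0, 0, 0⟩]))))
 (.node 4
 (.node 2
 (.node 1
 (.leaf [⟨-1, 1, 0, 0, 0, 0, 1, 1⟩, ⟨1, -1, 0, 0, 0, 0, -1, -1⟩])
 (.leaf [⟨-1, 0, 2, 1, -2, 1, -2, -1⟩, ⟨1, 0, -2, -1, 2, -1, 2, 1⟩]))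
 (.node 1
 (.leaf [⟨0, 0, -1, -1, 0, 0, 1, 0⟩, ⟨0, 0, 1, 1, 0, 0, -1, 0⟩])
 (.leaf [⟨-1, 1, -2, -1, 3, -1, 1, 1⟩, ⟨1, -1, 2, 1, -3, 1, -1, -1⟩])))
 (.node 2
 (.node 1
 (.leaf [⟨-2, 1, 3, 1, -1, 0, 0, 0⟩, ⟨2, -1, -3, -1, 1, 0, 0, 0⟩])
 (.leaf [⟨0, 0, 0, 0, -2, 1, 0, 0⟩, ⟨0, 0, 0, 0, 2, -1, 0, 0⟩]))
 (.node 1
 (.leaf [⟨-4, 2, 4, 2, -1, 0, 0, 0⟩, ⟨4, -2, -4, -2, 1, 0, 0, 0⟩])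
 (.leaf [⟨0, 0, 0, 0, 0, 0, -2, -1⟩, ⟨0, 0, 0, 0, 0, 0, 2, 1⟩]))))))
 (.node 16
 (.node 8
 (.node 4
 (.node 2
 (.node 1
 (.leaf [⟨0, 0, -4, -2, 3, -1, 2, 1⟩, ⟨0, 0, 4, 2, -3, 1, -2, -1⟩])
 (.leaf [⟨0, 0, -2, -1, 1, 0, 0, 0⟩, ⟨0, 0, 2, 1, -1, 0, 0, 0⟩]))
 (.node 1
 (.leaf [⟨-1, 0, 3, 1, -3, 1, -1, -1⟩, ⟨1, 0, -3, -1, 3, -1, 1, 1⟩])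
 (.leaf [⟨-2, 1, 2, 1, 0, 0, -1, 0⟩, ⟨2, -1, -2, -1, 0, 0, 1, 0⟩])))
 (.node 2
 (.node 1
 (.leaf [⟨-1, 1, -1, -1, 2, -1, 2, 1⟩, ⟨1, -1, 1, 1, -2, 1, -2, -1⟩])
 (.leaf [⟨-1, 0, 4, 2, -3, 1, -1, -1⟩, ⟨1, 0, -4, -2, 3, -1, 1, 1⟩]))
 (.node 1
 (.leaf [⟨-1, 1, 0, 0, 0, 0, 0, 0⟩, ⟨1, -1, 0, 0, 0, 0, 0, 0⟩])
 (.leaf [⟨-2, 1, 1, 0, 1, -1, 1, 0⟩, ⟨2, -1, -1, 0, -1, 1, -1, 0⟩]))))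
 (.node 4
 (.node 2
 (.node 1
 (.leaf [⟨0, 0, -1, 0, 0, 0, 2, 1⟩, ⟨0, 0, 1, 0, 0, 0, -2, -1⟩])
 (.leaf [⟨-2, 1, 3, 1, -1, 0, -1, -1⟩, ⟨2, -1, -3, -1, 1, 0, 1, 1⟩]))
 (.node 1
 (.leaf [⟨0, 0, -1, -1, 2, -1, 0, 0⟩, ⟨0, 0, 1, 1, -2, 1, 0, 0⟩])
 (.leaf [⟨-1, 0, 2, 1, -1, 0, 1, 0⟩, ⟨1, 0, -2, -1, 1, 0, -1, 0⟩])))
 (.node 2
 (.node 1
 (.leaf [⟨-1, 1, -2, -1, 2, -1, 2, 1⟩, ⟨1, -1, 2, 1, -2, 1, -2, -1⟩])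
 (.leaf [⟨-2, 1, 0, 0, 2, -1, 2, 1⟩, ⟨2, -1, 0, 0, -2, 1, -2, -1⟩]))
 (.node 1
 (.leaf [⟨-2, 1, 4, 2, -1, 0, -2, -1⟩, ⟨2, -1, -4, -2, 1, 0, 2, 1⟩])
 (.leaf [⟨-2, 1, 0, 0, 0, 0, 0, 0⟩, ⟨2, -1, 0, 0, 0, 0, 0, 0⟩])))))
 (.node 8
 (.node 4
 (.node 2
 (.node 1
 (.leaf [⟨-2, 1, 4, 2, -3, 1, 0, 0⟩, ⟨2, -1, -4, -2, 3, -1, 0, 0⟩])
 (.leaf [⟨-1, 1, 1, 1, 0, 0, -1, 0⟩, ⟨1, -1, -1, -1, 0, 0, 1, 0⟩]))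
 (.node 1
 (.leaf [⟨0, 0, -2, -1, 2, -1, 1, 0⟩, ⟨0, 0, 2, 1, -2, 1, -1, 0⟩])
 (.leaf [⟨-1, 0, 1, 1, -2, 1, 0, 0⟩, ⟨1, 0, -1, -1, 2, -1, 0, 0⟩])))
 (.node 2
 (.node 1
 (.leaf [⟨-2, 1, 2, 1, 0, 0, 0, 0⟩, ⟨2, -1, -2, -1, 0, 0, 0, 0⟩])
 (.leaf [⟨-1, 0, 4, 2, -3, 1, -2, -1⟩, ⟨1, 0, -4, -2, 3, -1, 2, 1⟩]))
 (.node 1
 (.leaf [⟨0, 0, -1, 0, 1, 0, -1, 0⟩, ⟨0, 0, 1, 0, -1, 0, 1, 0⟩])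
 (.leaf [⟨-1, 1, 0, 0, 2, -1, 1, 1⟩, ⟨1, -1, 0, 0, -2, 1, -1, -1⟩]))))
 (.node 4
 (.node 2
 (.node 1
 (.leaf [⟨-2, 1, 1, 0, 0, 0, 0, 0⟩, ⟨2, -1, -1, 0, 0, 0, 0, 0⟩])
 (.leaf [⟨-1, 1, 2, 1, 0, 0, -1, 0⟩, ⟨1, -1, -2, -1, 0, 0, 1, 0⟩]))
 (.node 1
 (.leaf [⟨0, 0, -1, -1, 2, -1, 1, 0⟩, ⟨0, 0, 1, 1, -2, 1, -1, 0⟩])
 (.leaf [⟨-1, 0, 2, 1, -2, 1, 0, 0⟩, ⟨1, 0, -2, -1, 2, -1, 0, 0⟩])))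
 (.node 2
 (.node 1
 (.leaf [⟨-2, 1, 1, 1, 0, 0, 0, 0⟩, ⟨2, -1, -1, -1, 0, 0, 0, 0⟩])
 (.leaf [⟨-3, 2, 1, 1, 2, -1, 1, 1⟩, ⟨3, -2, -1, -1, -2, 1, -1, -1⟩]))
 (.node 1
 (.leaf [⟨-1, 1, 3, 1, -1, 0, 0, 0⟩, ⟨1, -1, -3, -1, 1, 0, 0, 0⟩])
 (.leaf [⟨-2, 1, 2, 1, -2, 1, -1, 0⟩, ⟨2, -1, -2, -1, 2, -1, 1, 0⟩])))))))
 (.node 32
 (.node 16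
 (.node 8
 (.node 4
 (.node 2
 (.node 1
 (.leaf [⟨0, 0, -2, -1, 1, 0, 2, 1⟩, ⟨0, 0, 2, 1, -1, 0, -2, -1⟩])
 (.leaf [⟨-2, 1, 5, 2, -2, 0, -1, -1⟩, ⟨2, -1, -5, -2, 2, 0, 1, 1⟩]))
 (.node 1
 (.leaf [⟨-3, 2, 0, 0, 2, -1, 1, 1⟩, ⟨3, -2, 0, 0, -2, 1, -1, -1⟩])
 (.leaf [⟨0, 0, -1, 0, 2, -1, 2, 1⟩, ⟨0, 0, 1, 0, -2, 1, -2, -1⟩])))
 (.node 2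
 (.node 1
 (.leaf [⟨-1, 1, 0, 0, 0, 0, 2, 1⟩, ⟨1, -1, 0, 0, 0, 0, -2, -1⟩])
 (.leaf [⟨0, 0, -3, -1, 1, 0, 2, 1⟩, ⟨0, 0, 3, 1, -1, 0, -2, -1⟩]))
 (.node 1
 (.leaf [⟨-2, 1, 3, 1, -1, 0, 1, 0⟩, ⟨2, -1, -3, -1, 1, 0, -1, 0⟩])
 (.leaf [⟨-3, 2, 2, 1, 0, 0, -1, 0⟩, ⟨3, -2, -2, -1, 0, 0, 1, 0⟩]))))
 (.node 4
 (.node 2
 (.node 1
 (.leaf [⟨-1, 1, -2, -1, 4, -2, 2, 1⟩, ⟨1, -1, 2, 1, -4, 2, -2, -1⟩])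
 (.leaf [⟨0, 0, 0, 0, 0, 0, -1, 0⟩, ⟨0, 0, 0, 0, 0, 0, 1, 0⟩]))
 (.node 1
 (.leaf [⟨0, 0, 0, 0, -1, 1, -1, 0⟩, ⟨0, 0, 0, 0, 1, -1, 1, 0⟩])
 (.leaf [⟨-2, 2, 0, 0, 2, -1, 1, 1⟩, ⟨2, -2, 0, 0, -2, 1, -1, -1⟩])))
 (.node 2
 (.node 1
 (.leaf [⟨0, 0, -2, 0, 1, 0, 1, 1⟩, ⟨0, 0, 2, 0, -1, 0, -1, -1⟩])
 (.leaf [⟨-2, 1, 2, 1, -2, 1, 0, 0⟩, ⟨2, -1, -2, -1, 2, -1, 0, 0⟩]))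
 (.node 1
 (.leaf [⟨0, 0, -2, -1, 2, -1, 3, 1⟩, ⟨0, 0, 2, 1, -2, 1, -3, -1⟩])
 (.leaf [⟨-1, 1, -3, -1, 3, -1, 1, 1⟩, ⟨1, -1, 3, 1, -3, 1, -1, -1⟩])))))
 (.node 8
 (.node 4
 (.node 2
 (.node 1
 (.leaf [⟨-3, 2, 3, 1, 1, -1, 0, 0⟩, ⟨3, -2, -3, -1, -1, 1, 0, 0⟩])
 (.leaf [⟨-2, 1, 5, 2, -3, 1, -2, -1⟩, ⟨2, -1, -5, -2, 3, -1, 2, 1⟩]))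
 (.node 1
 (.leaf [⟨0, 0, -1, 0, -1, 1, -1, 0⟩, ⟨0, 0, 1, 0, 1, -1, 1, 0⟩])
 (.leaf [⟨-1, 1, 0, 0, 2, -1, -1, 0⟩, ⟨1, -1, 0, 0, -2, 1, 1, 0⟩])))
 (.node 2
 (.node 1
 (.leaf [⟨-3, 2, 0, 0, 2, -1, 2, 1⟩, ⟨3, -2, 0, 0, -2, 1, -2, -1⟩])
 (.leaf [⟨-1, 1, 2, 1, -2, 1, -1, 0⟩, ⟨1, -1, -2, -1, 2, -1, 1, 0⟩]))
 (.node 1
 (.leaf [⟨-2, 1, 1, 1, 0, 0, 2, 1⟩, ⟨2, -1, -1, -1, 0, 0, -2, -1⟩])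
 (.leaf [⟨-3, 2, 2, 1, 1, -1, 0, 0⟩, ⟨3, -2, -2, -1, -1, 1, 0, 0⟩]))))
 (.node 4
 (.node 2
 (.node 1
 (.leaf [⟨0, 0, -3, -1, 1, 0, 1, 1⟩, ⟨0, 0, 3, 1, -1, 0, -1, -1⟩])
 (.leaf [⟨-1, 1, 1, 0, 0, 0, 0, 0⟩, ⟨1, -1, -1, 0, 0, 0, 0, 0⟩]))
 (.node 1
 (.leaf [⟨-1, 1, 1, 0, 1, -1, 0, 0⟩, ⟨1, -1, -1, 0, -1, 1, 0, 0⟩])
 (.leaf [⟨-1, 1, -1, 0, 2, -1, 2, 1⟩, ⟨1, -1, 1, 0, -2, 1, -2, -1⟩])))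
 (.node 2
 (.node 1
 (.leaf [⟨-1, 1, -1, 0, 1, 0, 0, 1⟩, ⟨1, -1, 1, 0, -1, 0, 0, -1⟩])
 (.leaf [⟨0, 0, -2, -1, 2, -1, 0, 0⟩, ⟨0, 0, 2, 1, -2, 1, 0, 0⟩]))
 (.node 1
 (.leaf [⟨-3, 2, 1, 1, 0, 0, 1, 1⟩, ⟨3, -2, -1, -1, 0, 0, -1, -1⟩])
 (.leaf [⟨-2, 1, 2, 1, 1, -1, 1, 0⟩, ⟨2, -1, -2, -1, -1, 1, -1, 0⟩]))))))
 (.node 16
 (.node 8
 (.node 4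
 (.node 2
 (.node 1
 (.leaf [⟨-1, 1, 3, 1, -1, 0, -2, -1⟩, ⟨1, -1, -3, -1, 1, 0, 2, 1⟩])
 (.leaf [⟨-2, 1, -1, 0, 1, 0, 1, 1⟩, ⟨2, -1, 1, 0, -1, 0, -1, -1⟩]))
 (.node 1
 (.leaf [⟨0, 0, -1, 0, 2, -1, 0, 0⟩, ⟨0, 0, 1, 0, -2, 1, 0, 0⟩])
 (.leaf [⟨-3, 2, 4, 2, -1, 0, -1, 0⟩, ⟨3, -2, -4, -2, 1, 0, 1, 0⟩])))
 (.node 2
 (.node 1
 (.leaf [⟨-1, 1, 0, 0, 2, -1, 2, 1⟩, ⟨1, -1, 0, 0, -2, 1, -2, -1⟩])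
 (.leaf [⟨-1, 1, 2, 1, 1, -1, 0, 0⟩, ⟨1, -1, -2, -1, -1, 1, 0, 0⟩]))
 (.node 1
 (.leaf [⟨-3, 2, 2, 1, 0, 0, 1, 1⟩, ⟨3, -2, -2, -1, 0, 0, -1, -1⟩])
 (.leaf [⟨0, 0, -3, -1, 3, -1, 2, 1⟩, ⟨0, 0, 3, 1, -3, 1, -2, -1⟩]))))
 (.node 4
 (.node 2
 (.node 1
 (.leaf [⟨-2, 1, 1, 1, 0, 0, -1, 0⟩, ⟨2, -1, -1, -1, 0, 0, 1, 0⟩])
 (.leaf [⟨-1, 1, 1, 0, 0, 0, -1, 0⟩, ⟨1, -1, -1, 0, 0, 0, 1, 0⟩]))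
 (.node 1
 (.leaf [⟨-1, 1, 1, 0, 1, -1, 1, 0⟩, ⟨1, -1, -1, 0, -1, 1, -1, 0⟩])
 (.leaf [⟨-1, 1, -1, 0, 2, -1, 1, 1⟩, ⟨1, -1, 1, 0, -2, 1, -1, -1⟩])))
 (.node 2
 (.node 1
 (.leaf [⟨-1, 1, -1, 0, 1, 0, 1, 1⟩, ⟨1, -1, 1, 0, -1, 0, -1, -1⟩])
 (.leaf [⟨-1, 1, -3, -1, 3, -1, 3, 2⟩, ⟨1, -1, 3, 1, -3, 1, -3, -2⟩]))
 (.node 1
 (.leaf [⟨0, 0, -2, -1, 1, 0, -1, 0⟩, ⟨0, 0, 2, 1, -1, 0, 1, 0⟩])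
 (.leaf [⟨-3, 2, 3, 1, -1, 0, 0, 0⟩, ⟨3, -2, -3, -1, 1, 0, 0, 0⟩])))))
 (.node 8
 (.node 4
 (.node 2
 (.node 1
 (.leaf [⟨-2, 1, 2, 1, 1, -1, 0, 0⟩, ⟨2, -1, -2, -1, -1, 1, 0, 0⟩])
 (.leaf [⟨-1, 1, 0, 0, 0, 0, -1, 0⟩, ⟨1, -1, 0, 0, 0, 0, 1, 0⟩]))
 (.node 1
 (.leaf [⟨-2, 1, -1, 0, 2, -1, 2, 1⟩, ⟨2, -1, 1, 0, -2, 1, -2, -1⟩])
 (.leaf [⟨-3, 2, 4, 2, -1, 0, 0, 0⟩, ⟨3, -2, -4, -2, 1, 0, 0, 0⟩])))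
 (.node 2
 (.node 1
 (.leaf [⟨0, 0, -1, 0, -1, 1, 1, 1⟩, ⟨0, 0, 1, 0, 1, -1, -1, -1⟩])
 (.leaf [⟨-3, 2, 2, 1, 1, -1, 2, 1⟩, ⟨3, -2, -2, -1, -1, 1, -2, -1⟩]))
 (.node 1
 (.leaf [⟨-2, 1, 3, 1, -1, 0, -2, -1⟩, ⟨2, -1, -3, -1, 1, 0, 2, 1⟩])
 (.leaf [⟨-1, 1, -2, -1, 1, 0, 1, 1⟩, ⟨1, -1, 2, 1, -1, 0, -1, -1⟩]))))
 (.node 4
 (.node 2
 (.node 1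
 (.leaf [⟨0, 0, -3, -1, 3, -1, 1, 1⟩, ⟨0, 0, 3, 1, -3, 1, -1, -1⟩])
 (.leaf [⟨-2, 1, 2, 1, 0, 0, 1, 1⟩, ⟨2, -1, -2, -1, 0, 0, -1, -1⟩]))
 (.node 1
 (.leaf [⟨0, 0, -2, -1, 3, -1, 0, 0⟩, ⟨0, 0, 2, 1, -3, 1, 0, 0⟩])
 (.leaf [⟨-1, 0, -1, -1, 0, 0, 1, 0⟩, ⟨1, 0, 1, 1, 0, 0, -1, 0⟩])))
 (.node 2
 (.node 1
 (.leaf [⟨-3, 1, 5, 3, -3, 1, -2, -1⟩, ⟨3, -1, -5, -3, 3, -1, 2, 1⟩])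
 (.leaf [⟨0, 0, -3, -2, 3, -1, 0, 0⟩, ⟨0, 0, 3, 2, -3, 1, 0, 0⟩]))
 (.node 1
 (.leaf [⟨-3, 1, 4, 2, -1, 0, 0, 0⟩, ⟨3, -1, -4, -2, 1, 0, 0, 0⟩])
 (.leaf [⟨-2, 1, 1, 0, -1, 0, 1, 0⟩, ⟨2, -1, -1, 0, 1, 0, -1, 0⟩]))))))))
 (.node 64
 (.node 32
 (.node 16
 (.node 8
 (.node 4
 (.node 2
 (.node 1
 (.leaf [⟨-1, 0, 4, 2, -3, 1, -3, -2⟩, ⟨1, 0, -4, -2, 3, -1, 3, 2⟩])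
 (.leaf [⟨-3, 1, 6, 3, -3, 1, -2, -1⟩, ⟨3, -1, -6, -3, 3, -1, 2, 1⟩]))
 (.node 1
 (.leaf [⟨-1, 0, 2, 1, -3, 1, 1, 0⟩, ⟨1, 0, -2, -1, 3, -1, -1, 0⟩])
 (.leaf [⟨-2, 1, -1, -1, 2, -1, 1, 0⟩, ⟨2, -1, 1, 1, -2, 1, -1, 0⟩])))
 (.node 2
 (.node 1
 (.leaf [⟨0, 0, -1, -1, 2, -1, 2, 1⟩, ⟨0, 0, 1, 1, -2, 1, -2, -1⟩])
 (.leaf [⟨-1, 0, 3, 2, -2, 1, -2, -1⟩, ⟨1, 0, -3, -2, 2, -1, 2, 1⟩]))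
 (.node 1
 (.leaf [⟨-1, 0, 1, 0, -1, 0, 0, -1⟩, ⟨1, 0, -1, 0, 1, 0, 0, 1⟩])
 (.leaf [⟨-1, 0, 1, 0, 0, 0, 0, 0⟩, ⟨1, 0, -1, 0, 0, 0, 0, 0⟩]))))
 (.node 4
 (.node 2
 (.node 1
 (.leaf [⟨-1, 0, 3, 2, -3, 1, 0, 0⟩, ⟨1, 0, -3, -2, 3, -1, 0, 0⟩])
 (.leaf [⟨0, 0, -2, -1, 0, 0, 1, 0⟩, ⟨0, 0, 2, 1, 0, 0, -1, 0⟩]))
 (.node 1
 (.leaf [⟨-2, 1, 2, 1, 0, 0, -2, -1⟩, ⟨2, -1, -2, -1, 0, 0, 2, 1⟩])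
 (.leaf [⟨-1, 0, 5, 3, -5, 2, -2, -1⟩, ⟨1, 0, -5, -3, 5, -2, 2, 1⟩])))
 (.node 2
 (.node 1
 (.leaf [⟨-3, 1, 3, 1, -1, 0, 1, 0⟩, ⟨3, -1, -3, -1, 1, 0, -1, 0⟩])
 (.leaf [⟨-3, 1, 4, 2, -3, 1, -1, -1⟩, ⟨3, -1, -4, -2, 3, -1, 1, 1⟩]))
 (.node 1
 (.leaf [⟨-1, 0, 4, 2, -3, 1, 0, 0⟩, ⟨1, 0, -4, -2, 3, -1, 0, 0⟩])
 (.leaf [⟨-2, 1, 1, 0, 2, -1, 0, 0⟩, ⟨2, -1, -1, 0, -2, 1, 0, 0⟩])))))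
 (.node 8
 (.node 4
 (.node 2
 (.node 1
 (.leaf [⟨0, 0, -3, -2, 2, -1, 3, 1⟩, ⟨0, 0, 3, 2, -2, 1, -3, -1⟩])
 (.leaf [⟨-3, 1, 2, 1, -1, 0, 1, 0⟩, ⟨3, -1, -2, -1, 1, 0, -1, 0⟩]))
 (.node 1
 (.leaf [⟨-2, 1, 5, 3, -3, 1, -2, -1⟩, ⟨2, -1, -5, -3, 3, -1, 2, 1⟩])
 (.leaf [⟨-1, 0, 2, 1, 0, 0, 0, 0⟩, ⟨1, 0, -2, -1, 0, 0, 0, 0⟩])))
 (.node 2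
 (.node 1
 (.leaf [⟨0, 0, -1, -1, 2, -1, -1, -1⟩, ⟨0, 0, 1, 1, -2, 1, 1, 1⟩])
 (.leaf [⟨-1, 0, 1, 0, 0, 0, -1, -1⟩, ⟨1, 0, -1, 0, 0, 0, 1, 1⟩]))
 (.node 1
 (.leaf [⟨-1, 0, 3, 2, -3, 1, -1, -1⟩, ⟨1, 0, -3, -2, 3, -1, 1, 1⟩])
 (.leaf [⟨-1, 0, 3, 2, -2, 1, -1, 0⟩, ⟨1, 0, -3, -2, 2, -1, 1, 0⟩]))))
 (.node 4
 (.node 2
 (.node 1
 (.leaf [⟨-1, 0, 1, 0, -1, 0, 1, 0⟩, ⟨1, 0, -1, 0, 1, 0, -1, 0⟩])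
 (.leaf [⟨-2, 1, 2, 1, -1, 0, -1, -1⟩, ⟨2, -1, -2, -1, 1, 0, 1, 1⟩]))
 (.node 1
 (.leaf [⟨-3, 1, 5, 3, -3, 1, 0, 0⟩, ⟨3, -1, -5, -3, 3, -1, 0, 0⟩])
 (.leaf [⟨0, 0, -2, -1, 0, 0, 2, 1⟩, ⟨0, 0, 2, 1, 0, 0, -2, -1⟩])))
 (.node 2
 (.node 1
 (.leaf [⟨-1, 0, -1, -1, 2, -1, 1, 0⟩, ⟨1, 0, 1, 1, -2, 1, -1, 0⟩])
 (.leaf [⟨-3, 1, 4, 2, -3, 1, 0, 0⟩, ⟨3, -1, -4, -2, 3, -1, 0, 0⟩]))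
 (.node 1
 (.leaf [⟨-1, 0, 0, 0, 0, 0, -1, -1⟩, ⟨1, 0, 0, 0, 0, 0, 1, 1⟩])
 (.leaf [⟨0, 0, -3, -2, 3, -1, 2, 1⟩, ⟨0, 0, 3, 2, -3, 1, -2, -1⟩]))))))
 (.node 16
 (.node 8
 (.node 4
 (.node 2
 (.node 1
 (.leaf [⟨-2, 1, 3, 2, 0, 0, -1, 0⟩, ⟨2, -1, -3, -2, 0, 0, 1, 0⟩])
 (.leaf [⟨-1, 0, 2, 1, -3, 1, -1, -1⟩, ⟨1, 0, -2, -1, 3, -1, 1, 1⟩]))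
 (.node 1
 (.leaf [⟨-3, 1, 2, 1, 0, 0, 0, 0⟩, ⟨3, -1, -2, -1, 0, 0, 0, 0⟩])
 (.leaf [⟨-2, 1, 5, 3, -3, 1, -1, 0⟩, ⟨2, -1, -5, -3, 3, -1, 1, 0⟩])))
 (.node 2
 (.node 1
 (.leaf [⟨0, 0, -1, -1, 0, 0, 2, 1⟩, ⟨0, 0, 1, 1, 0, 0, -2, -1⟩])
 (.leaf [⟨0, 0, -2, -2, 2, -1, 1, 0⟩, ⟨0, 0, 2, 2, -2, 1, -1, 0⟩]))
 (.node 1
 (.leaf [⟨0, 0, 0, 0, -1, 0, 1, 0⟩, ⟨0, 0, 0, 0, 1, 0, -1, 0⟩])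
 (.leaf [⟨0, 0, 0, 0, 0, 0, -1, -1⟩, ⟨0, 0, 0, 0, 0, 0, 1, 1⟩]))))
 (.node 4
 (.node 2
 (.node 1
 (.leaf [⟨-2, 0, 4, 2, -3, 1, -1, -1⟩, ⟨2, 0, -4, -2, 3, -1, 1, 1⟩])
 (.leaf [⟨-1, 0, 5, 3, -3, 1, -2, -1⟩, ⟨1, 0, -5, -3, 3, -1, 2, 1⟩]))
 (.node 1
 (.leaf [⟨-2, 1, 2, 1, -1, 0, 2, 1⟩, ⟨2, -1, -2, -1, 1, 0, -2, -1⟩])
 (.leaf [⟨-3, 1, 3, 1, -1, 0, -1, -1⟩, ⟨3, -1, -3, -1, 1, 0, 1, 1⟩])))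
 (.node 2
 (.node 1
 (.leaf [⟨0, 0, -2, -1, 3, -1, 1, 1⟩, ⟨0, 0, 2, 1, -3, 1, -1, -1⟩])
 (.leaf [⟨-1, 0, 0, 0, 0, 0, 2, 1⟩, ⟨1, 0, 0, 0, 0, 0, -2, -1⟩]))
 (.node 1
 (.leaf [⟨0, 0, -3, -2, 2, -1, 1, 0⟩, ⟨0, 0, 3, 2, -2, 1, -1, 0⟩])
 (.leaf [⟨-3, 1, 4, 2, -1, 0, -1, -1⟩, ⟨3, -1, -4, -2, 1, 0, 1, 1⟩])))))
 (.node 8
 (.node 4
 (.node 2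
 (.node 1
 (.leaf [⟨-2, 1, 3, 2, -3, 1, 0, 0⟩, ⟨2, -1, -3, -2, 3, -1, 0, 0⟩])
 (.leaf [⟨-1, 0, 2, 1, 0, 0, -2, -1⟩, ⟨1, 0, -2, -1, 0, 0, 2, 1⟩]))
 (.node 1
 (.leaf [⟨-2, 1, -1, -1, 2, -1, 2, 1⟩, ⟨2, -1, 1, 1, -2, 1, -2, -1⟩])
 (.leaf [⟨-3, 1, 6, 3, -4, 1, -1, -1⟩, ⟨3, -1, -6, -3, 4, -1, 1, 1⟩])))
 (.node 2
 (.node 1
 (.leaf [⟨0, 0, -1, -1, 0, 0, -1, -1⟩, ⟨0, 0, 1, 1, 0, 0, 1, 1⟩])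
 (.leaf [⟨-2, 1, 0, 0, 0, 0, 1, 1⟩, ⟨-2, 1, 2, 2, 0, 0, 1, 1⟩, ⟨-2, 1, 4, 2, -2, 0, -1, -1⟩, ⟨0, -1, 0, 0, 0, 0, -1, -1⟩, ⟨0, 1, 0, 0, 0, 0, 1, 1⟩, ⟨2, -1, -4, -2, 2, 0, 1, 1⟩, ⟨2, -1, -2, -2, 0, 0, -1, -1⟩, ⟨2, -1, 0, 0, 0, 0, -1, -1⟩]))
 (.node 1
 (.leaf [⟨-3, 1, 3, 2, -2, 1, 0, 0⟩, ⟨-1, 1, -1, 0, 2, -1, 0, 0⟩, ⟨-1, 1, 1, 0, 2, -1, 0, 0⟩, ⟨-1, 1, 3, 2, -2, 1, -2, 0⟩, ⟨1, -1, -3, -2, 2, -1, 2, 0⟩, ⟨1, -1, -1, 0, -2, 1, 0, 0⟩, ⟨1, -1, 1, 0, -2, 1, 0, 0⟩, ⟨3, -1, -3, -2, 2, -1, 0, 0⟩])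
 (.leaf [⟨-3, 2, 1, 0, 2, -1, 1, 1⟩, ⟨-1, 0, 1, 0, -2, 1, -1, -1⟩, ⟨-1, 0, 3, 2, -2, 1, -3, -1⟩, ⟨-1, 0, 5, 2, -4, 1, -1, -1⟩, ⟨1, 0, -5, -2, 4, -1, 1, 1⟩, ⟨1, 0, -3, -2, 2, -1, 3, 1⟩, ⟨1, 0, -1, 0, 2, -1, 1, 1⟩, ⟨3, -2, -1, 0, -2, 1, -1, -1⟩]))))
 (.node 4
 (.node 2
 (.node 1
 (.leaf [⟨-2, 1, 0, 0, 1, -1, 3, 1⟩, ⟨-2, 1, 2, 0, 1, -1, -1, -1⟩, ⟨-2, 1, 4, 2, -3, 1, -1, -1⟩, ⟨0, -1, 4, 2, -3, 1, -1, -1⟩, ⟨0, 1, -4, -2, 3, -1, 1, 1⟩, ⟨2, -1, -4, -2, 3, -1, 1, 1⟩, ⟨2, -1, -2, 0, -1, 1, 1, 1⟩, ⟨2, -1, 0, 0, -1, 1, -3, -1⟩])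
 (.leaf [⟨-4, 2, 4, 2, -3, 1, 0, 0⟩, ⟨-4, 2, 4, 2, 1, -1, 0, 0⟩, ⟨0, 0, -4, -2, 3, -1, 0, 0⟩, ⟨0, 0, -4, -2, 3, -1, 4, 2⟩, ⟨0, 0, 4, 2, -3, 1, -4, -2⟩, ⟨0, 0, 4, 2, -3, 1, 0, 0⟩, ⟨4, -2, -4, -2, -1, 1, 0, 0⟩, ⟨4, -2, -4, -2, 3, -1, 0, 0⟩]))
 (.node 1
 (.leaf [⟨-3, 2, 3, 2, -1, 0, 1, 1⟩, ⟨-1, 0, -1, 0, 1, 0, 1, 1⟩, ⟨-1, 0, 1, 0, -1, 0, -1, -1⟩, ⟨-1, 0, 3, 2, -1, 0, -1, -1⟩, ⟨1, 0, -3, -2, 1, 0, 1, 1⟩, ⟨1, 0, -1, 0, 1, 0, 1, 1⟩, ⟨1, 0, 1, 0, -1, 0, -1, -1⟩, ⟨3, -2, -3, -2, 1, 0, -1, -1⟩])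
 (.leaf [⟨-3, 1, 3, 2, -1, 0, 0, 0⟩, ⟨-1, 1, -1, 0, 1, 0, 2, 2⟩, ⟨-1, 1, 1, 0, -1, 0, 0, 0⟩, ⟨-1, 1, 3, 2, -1, 0, 0, 0⟩, ⟨1, -1, -3, -2, 1, 0, 0, 0⟩, ⟨1, -1, -1, 0, 1, 0, 0, 0⟩, ⟨1, -1, 1, 0, -1, 0, -2, -2⟩, ⟨3, -1, -3, -2, 1, 0, 0, 0⟩])))
 (.node 2
 (.node 1
 (.leaf [⟨-2, 1, 0, 0, 2, -1, 1, 0⟩, ⟨-2, 1, 2, 2, -2, 1, -1, 0⟩, ⟨-2, 1, 4, 2, -2, 1, -1, 0⟩, ⟨0, -1, 0, 0, -2, 1, 1, 0⟩, ⟨0, 1, 0, 0, 2, -1, -1, 0⟩, ⟨2, -1, -4, -2, 2, -1, 1, 0⟩, ⟨2, -1, -2, -2, 2, -1, 1, 0⟩, ⟨2, -1, 0, 0, -2, 1, -1, 0⟩])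
 (.leaf [⟨-4, 2, 0, 0, 2, -1, 2, 1⟩, ⟨-4, 2, 8, 4, -4, 1, -2, -1⟩, ⟨0, 0, 0, 0, -2, 1, -2, -1⟩, ⟨0, 0, 0, 0, -2, 1, 2, 1⟩, ⟨0, 0, 0, 0, 2, -1, -2, -1⟩, ⟨0, 0, 0, 0, 2, -1, 2, 1⟩, ⟨4, -2, -8, -4, 4, -1, 2, 1⟩, ⟨4, -2, 0, 0, -2, 1, -2, -1⟩]))
 (.node 1
 (.leaf [⟨-3, 2, 3, 2, 0, 0, -1, 0⟩, ⟨-1, 0, -1, 0, 0, 0, 1, 0⟩, ⟨-1, 0, 1, 0, 0, 0, 1, 0⟩, ⟨-1, 0, 3, 2, -4, 2, -1, 0⟩, ⟨1, 0, -3, -2, 4, -2, 1, 0⟩, ⟨1, 0, -1, 0, 0, 0, -1, 0⟩, ⟨1, 0, 1, 0, 0, 0, -1, 0⟩, ⟨3, -2, -3, -2, 0, 0, 1, 0⟩])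
 (.leaf [⟨-3, 1, 5, 2, -2, 0, 0, -1⟩, ⟨-1, 1, -3, -2, 4, -2, 2, 1⟩, ⟨-1, 1, -1, 0, 0, 0, 2, 1⟩, ⟨-1, 1, 1, 0, 0, 0, -2, -1⟩, ⟨1, -1, -1, 0, 0, 0, 2, 1⟩, ⟨1, -1, 1, 0, 0, 0, -2, -1⟩, ⟨1, -1, 3, 2, -4, 2, -2, -1⟩, ⟨3, -1, -5, -2, 2, 0, 0, 1⟩])))))))
 (.node 32
 (.node 16
 (.node 8
 (.node 4
 (.node 2
 (.node 1
 (.leaf [⟨-4, 2, 4, 2, -1, 0, -2, -1⟩, ⟨-4, 2, 4, 2, -1, 0, 2, 1⟩, ⟨0, 0, -4, -2, 1, 0, 2, 1⟩, ⟨0, 0, -4, -2, 5, -2, 2, 1⟩, ⟨0, 0, 4, 2, -5, 2, -2, -1⟩, ⟨0, 0, 4, 2, -1, 0, -2, -1⟩, ⟨4, -2, -4, -2, 1, 0, -2, -1⟩, ⟨4, -2, -4, -2, 1, 0, 2, 1⟩])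
 (.leaf [⟨-2, 1, 0, 0, 1, 0, -1, 0⟩, ⟨-2, 1, 2, 0, -1, 0, 1, 0⟩, ⟨-2, 1, 4, 2, -1, 0, -1, 0⟩, ⟨0, -1, 4, 2, -5, 2, -3, -2⟩, ⟨0, 1, -4, -2, 5, -2, 3, 2⟩, ⟨2, -1, -4, -2, 1, 0, 1, 0⟩, ⟨2, -1, -2, 0, 1, 0, -1, 0⟩, ⟨2, -1, 0, 0, -1, 0, 1, 0⟩]))
 (.node 1
 (.leaf [⟨-3, 1, 5, 2, -3, 1, -2, -1⟩, ⟨-1, 1, -3, -2, 3, -1, 2, 1⟩, ⟨-1, 1, -1, 0, 3, -1, 0, 1⟩, ⟨-1, 1, 1, 0, 1, -1, 2, 1⟩, ⟨1, -1, -1, 0, -1, 1, -2, -1⟩, ⟨1, -1, 1, 0, -3, 1, 0, -1⟩, ⟨1, -1, 3, 2, -3, 1, -2, -1⟩, ⟨3, -1, -5, -2, 3, -1, 2, 1⟩])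
 (.leaf [⟨-3, 2, 1, 0, 1, -1, 1, 0⟩, ⟨-1, 0, 1, 0, 1, -1, 1, 0⟩, ⟨-1, 0, 3, 2, -3, 1, 1, 0⟩, ⟨-1, 0, 5, 2, -3, 1, -3, -2⟩, ⟨1, 0, -5, -2, 3, -1, 3, 2⟩, ⟨1, 0, -3, -2, 3, -1, -1, 0⟩, ⟨1, 0, -1, 0, -1, 1, -1, 0⟩, ⟨3, -2, -1, 0, -1, 1, -1, 0⟩])))
 (.node 2
 (.node 1
 (.leaf [⟨-4, 2, 2, 1, 0, 0, 0, 0⟩, ⟨-4, 2, 6, 3, -2, 0, 0, 0⟩, ⟨0, 0, -2, -1, 0, 0, 0, 0⟩, ⟨0, 0, 0, -1, 0, 0, 0, 0⟩, ⟨0, 0, 0, 1, 0, 0, 0, 0⟩, ⟨0, 0, 2, 1, 0, 0, 0, 0⟩, ⟨4, -2, -6, -3, 2, 0, 0, 0⟩, ⟨4, -2, -2, -1, 0, 0, 0, 0⟩])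
 (.leaf [⟨-2, 1, -2, -1, 3, -1, 1, 1⟩, ⟨-2, 1, 2, 1, 1, -1, -1, -1⟩, ⟨-2, 1, 6, 3, -3, 1, -3, -1⟩, ⟨0, -1, 2, 1, -3, 1, -1, -1⟩, ⟨0, 1, -2, -1, 3, -1, 1, 1⟩, ⟨2, -1, -6, -3, 3, -1, 3, 1⟩, ⟨2, -1, -2, -1, -1, 1, 1, 1⟩, ⟨2, -1, 2, 1, -3, 1, -1, -1⟩]))
 (.node 1
 (.leaf [⟨-3, 1, 1, 1, 0, 0, 2, 1⟩, ⟨-1, 1, -1, -1, 0, 0, 2, 1⟩, ⟨-1, 1, -1, -1, 4, -2, 2, 1⟩, ⟨-1, 1, 1, 1, 0, 0, 0, 1⟩, ⟨1, -1, -1, -1, 0, 0, 0, -1⟩, ⟨1, -1, 1, 1, -4, 2, -2, -1⟩, ⟨1, -1, 1, 1, 0, 0, -2, -1⟩, ⟨3, -1, -1, -1, 0, 0, -2, -1⟩])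
 (.leaf [⟨-3, 2, 5, 3, -3, 1, -1, 0⟩, ⟨-1, 0, 1, 1, -1, 1, -1, 0⟩, ⟨-1, 0, 3, 1, -3, 1, -3, -2⟩, ⟨-1, 0, 3, 1, -3, 1, 1, 0⟩, ⟨1, 0, -3, -1, 3, -1, -1, 0⟩, ⟨1, 0, -3, -1, 3, -1, 3, 2⟩, ⟨1, 0, -1, -1, 1, -1, 1, 0⟩, ⟨3, -2, -5, -3, 3, -1, 1, 0⟩]))))
 (.node 4
 (.node 2
 (.node 1
 (.leaf [⟨-2, 1, -1, 0, 3, -1, 1, 1⟩, ⟨-2, 1, 1, 0, 1, -1, -1, -1⟩, ⟨-2, 1, 1, 0, 1, -1, 3, 1⟩, ⟨0, -1, 3, 2, -3, 1, -1, -1⟩, ⟨0, 1, -3, -2, 3, -1, 1, 1⟩, ⟨2, -1, -1, 0, -1, 1, -3, -1⟩, ⟨2, -1, -1, 0, -1, 1, 1, 1⟩, ⟨2, -1, 1, 0, -3, 1, -1, -1⟩])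
 (.leaf [⟨-3, 2, 4, 2, -1, 0, 1, 1⟩, ⟨-1, 0, 2, 0, -1, 0, -1, -1⟩, ⟨-1, 0, 4, 2, -5, 2, -1, -1⟩, ⟨-1, 0, 4, 2, -1, 0, -1, -1⟩, ⟨1, 0, -4, -2, 1, 0, 1, 1⟩, ⟨1, 0, -4, -2, 5, -2, 1, 1⟩, ⟨1, 0, -2, 0, 1, 0, 1, 1⟩, ⟨3, -2, -4, -2, 1, 0, -1, -1⟩]))
 (.node 1
 (.leaf [⟨-4, 2, 3, 2, -1, 0, 2, 1⟩, ⟨-4, 2, 5, 2, -1, 0, -2, -1⟩, ⟨0, 0, -3, -2, 1, 0, 2, 1⟩, ⟨0, 0, -1, 0, 1, 0, 0, 1⟩, ⟨0, 0, 1, 0, -1, 0, 0, -1⟩, ⟨0, 0, 3, 2, -1, 0, -2, -1⟩, ⟨4, -2, -5, -2, 1, 0, 2, 1⟩, ⟨4, -2, -3, -2, 1, 0, -2, -1⟩])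
 (.leaf [⟨-3, 1, 4, 2, -3, 1, -2, -1⟩, ⟨-1, 1, -4, -2, 3, -1, 2, 1⟩, ⟨-1, 1, 0, 0, 1, -1, 2, 1⟩, ⟨-1, 1, 4, 2, -3, 1, -2, -1⟩, ⟨1, -1, -4, -2, 3, -1, 2, 1⟩, ⟨1, -1, 0, 0, -1, 1, -2, -1⟩, ⟨1, -1, 4, 2, -3, 1, -2, -1⟩, ⟨3, -1, -4, -2, 3, -1, 2, 1⟩])))
 (.node 2
 (.node 1
 (.leaf [⟨-2, 1, 3, 1, -3, 1, -1, -1⟩, ⟨-2, 1, 3, 1, 1, -1, -1, -1⟩, ⟨-2, 1, 5, 3, -3, 1, -3, -1⟩, ⟨0, -1, 3, 1, -3, 1, -1, -1⟩, ⟨0, 1, -3, -1, 3, -1, 1, 1⟩, ⟨2, -1, -5, -3, 3, -1, 3, 1⟩, ⟨2, -1, -3, -1, -1, 1, 1, 1⟩, ⟨2, -1, -3, -1, 3, -1, 1, 1⟩])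
 (.leaf [⟨-4, 2, 3, 1, 1, -1, 0, 0⟩, ⟨-4, 2, 5, 3, -3, 1, 0, 0⟩, ⟨0, 0, -3, -1, 3, -1, 0, 0⟩, ⟨0, 0, -1, -1, 1, -1, 2, 0⟩, ⟨0, 0, 1, 1, -1, 1, -2, 0⟩, ⟨0, 0, 3, 1, -3, 1, 0, 0⟩, ⟨4, -2, -5, -3, 3, -1, 0, 0⟩, ⟨4, -2, -3, -1, -1, 1, 0, 0⟩]))
 (.node 1
 (.leaf [⟨-3, 1, 2, 1, -2, 1, 0, 0⟩, ⟨-1, 1, -2, -1, 2, -1, 0, 0⟩, ⟨-1, 1, -2, -1, 2, -1, 4, 2⟩, ⟨-1, 1, 0, -1, 2, -1, 0, 0⟩, ⟨1, -1, 0, 1, -2, 1, 0, 0⟩, ⟨1, -1, 2, 1, -2, 1, -4, -2⟩, ⟨1, -1, 2, 1, -2, 1, 0, 0⟩, ⟨3, -1, -2, -1, 2, -1, 0, 0⟩])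
 (.leaf [⟨-3, 2, 2, 1, 2, -1, 1, 1⟩, ⟨-1, 0, -2, -1, 2, -1, 3, 1⟩, ⟨-1, 0, 2, 1, -2, 1, -1, -1⟩, ⟨-1, 0, 6, 3, -4, 1, -1, -1⟩, ⟨1, 0, -6, -3, 4, -1, 1, 1⟩, ⟨1, 0, -2, -1, 2, -1, 1, 1⟩, ⟨1, 0, 2, 1, -2, 1, -3, -1⟩, ⟨3, -2, -2, -1, -2, 1, -1, -1⟩])))))
 (.node 8
 (.node 4
 (.node 2
 (.node 1
 (.leaf [⟨-3, 1, 3, 2, -2, 1, -1, 0⟩, ⟨-1, 1, -1, 0, 2, -1, 3, 2⟩, ⟨-1, 1, 1, 0, 2, -1, -1, 0⟩, ⟨-1, 1, 3, 2, -2, 1, -1, 0⟩, ⟨1, -1, -3, -2, 2, -1, 1, 0⟩, ⟨1, -1, -1, 0, -2, 1, 1, 0⟩, ⟨1, -1, 1, 0, -2, 1, -3, -2⟩, ⟨3, -1, -3, -2, 2, -1, 1, 0⟩])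
 (.leaf [⟨-3, 1, 3, 2, -1, 0, 1, 0⟩, ⟨-1, 1, -1, 0, 1, 0, -1, 0⟩, ⟨-1, 1, 1, 0, -1, 0, 1, 0⟩, ⟨-1, 1, 3, 2, -1, 0, -1, 0⟩, ⟨1, -1, -3, -2, 1, 0, 1, 0⟩, ⟨1, -1, -1, 0, 1, 0, -1, 0⟩, ⟨1, -1, 1, 0, -1, 0, 1, 0⟩, ⟨3, -1, -3, -2, 1, 0, -1, 0⟩]))
 (.node 1
 (.leaf [⟨-3, 1, 5, 2, -2, 0, -1, -1⟩, ⟨-1, 1, -3, -2, 4, -2, 3, 1⟩, ⟨-1, 1, -1, 0, 0, 0, 1, 1⟩, ⟨-1, 1, 1, 0, 0, 0, 1, 1⟩, ⟨1, -1, -1, 0, 0, 0, -1, -1⟩, ⟨1, -1, 1, 0, 0, 0, -1, -1⟩, ⟨1, -1, 3, 2, -4, 2, -3, -1⟩, ⟨3, -1, -5, -2, 2, 0, 1, 1⟩])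
 (.leaf [⟨-3, 1, 5, 2, -3, 1, -1, -1⟩, ⟨-1, 1, -3, -2, 3, -1, 1, 1⟩, ⟨-1, 1, -1, 0, 3, -1, 1, 1⟩, ⟨-1, 1, 1, 0, 1, -1, -1, -1⟩, ⟨1, -1, -1, 0, -1, 1, 1, 1⟩, ⟨1, -1, 1, 0, -3, 1, -1, -1⟩, ⟨1, -1, 3, 2, -3, 1, -1, -1⟩, ⟨3, -1, -5, -2, 3, -1, 1, 1⟩])))
 (.node 2
 (.node 1
 (.leaf [⟨-3, 1, 7, 3, -4, 1, -3, -2⟩, ⟨-1, 1, -1, -1, 2, -1, 1, 0⟩, ⟨-1, 1, 1, 1, -2, 1, -1, 0⟩, ⟨-1, 1, 1, 1, 2, -1, -1, 0⟩, ⟨1, -1, -1, -1, -2, 1, 1, 0⟩, ⟨1, -1, -1, -1, 2, -1, 1, 0⟩, ⟨1, -1, 1, 1, -2, 1, -1, 0⟩, ⟨3, -1, -7, -3, 4, -1, 3, 2⟩])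
 (.leaf [⟨-3, 2, -1, -1, 2, -1, 2, 1⟩, ⟨-1, 0, 1, 1, -2, 1, -2, -1⟩, ⟨-1, 0, 1, 1, -2, 1, 2, 1⟩, ⟨-1, 0, 3, 1, -2, 1, -2, -1⟩, ⟨1, 0, -3, -1, 2, -1, 2, 1⟩, ⟨1, 0, -1, -1, 2, -1, -2, -1⟩, ⟨1, 0, -1, -1, 2, -1, 2, 1⟩, ⟨3, -2, 1, 1, -2, 1, -2, -1⟩]))
 (.node 1
 (.leaf [⟨-2, 1, -2, -1, 3, -1, 2, 1⟩, ⟨-2, 1, 2, 1, 1, -1, 2, 1⟩, ⟨-2, 1, 6, 3, -3, 1, -2, -1⟩, ⟨0, -1, 2, 1, -3, 1, 0, -1⟩, ⟨0, 1, -2, -1, 3, -1, 0, 1⟩, ⟨2, -1, -6, -3, 3, -1, 2, 1⟩, ⟨2, -1, -2, -1, -1, 1, -2, -1⟩, ⟨2, -1, 2, 1, -3, 1, -2, -1⟩])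
 (.leaf [⟨-4, 2, 2, 1, 1, -1, 1, 0⟩, ⟨-4, 2, 6, 3, -3, 1, -1, 0⟩, ⟨0, 0, -2, -1, 3, -1, -1, 0⟩, ⟨0, 0, 0, -1, 1, -1, 1, 0⟩, ⟨0, 0, 0, 1, -1, 1, -1, 0⟩, ⟨0, 0, 2, 1, -3, 1, 1, 0⟩, ⟨4, -2, -6, -3, 3, -1, 1, 0⟩, ⟨4, -2, -2, -1, -1, 1, -1, 0⟩]))))
 (.node 4
 (.node 2
 (.node 1
 (.leaf [⟨-3, 2, 4, 2, -1, 0, -2, -1⟩, ⟨-1, 0, 2, 0, -1, 0, 0, -1⟩, ⟨-1, 0, 4, 2, -5, 2, -2, -1⟩, ⟨-1, 0, 4, 2, -1, 0, -2, -1⟩, ⟨1, 0, -4, -2, 1, 0, 2, 1⟩, ⟨1, 0, -4, -2, 5, -2, 2, 1⟩, ⟨1, 0, -2, 0, 1, 0, 0, 1⟩, ⟨3, -2, -4, -2, 1, 0, 2, 1⟩])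
 (.leaf [⟨-3, 1, 4, 2, -1, 0, 1, 0⟩, ⟨-1, 1, -4, -2, 5, -2, 3, 2⟩, ⟨-1, 1, 0, 0, 1, 0, -1, 0⟩, ⟨-1, 1, 4, 2, -1, 0, -1, 0⟩, ⟨1, -1, -4, -2, 1, 0, 1, 0⟩, ⟨1, -1, 0, 0, -1, 0, 1, 0⟩, ⟨1, -1, 4, 2, -5, 2, -3, -2⟩, ⟨3, -1, -4, -2, 1, 0, -1, 0⟩]))
 (.node 1
 (.leaf [⟨-4, 2, 3, 2, 0, 0, -1, 0⟩, ⟨-4, 2, 5, 2, -2, 0, 1, 0⟩, ⟨0, 0, -3, -2, 4, -2, 1, 0⟩, ⟨0, 0, -1, 0, 0, 0, 1, 0⟩, ⟨0, 0, 1, 0, 0, 0, -1, 0⟩, ⟨0, 0, 3, 2, -4, 2, -1, 0⟩, ⟨4, -2, -5, -2, 2, 0, -1, 0⟩, ⟨4, -2, -3, -2, 0, 0, 1, 0⟩])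
 (.leaf [⟨-2, 1, -1, 0, 0, 0, 2, 1⟩, ⟨-2, 1, 1, 0, 0, 0, -2, -1⟩, ⟨-2, 1, 1, 0, 0, 0, 2, 1⟩, ⟨0, -1, 3, 2, -4, 2, -2, -1⟩, ⟨0, 1, -3, -2, 4, -2, 2, 1⟩, ⟨2, -1, -1, 0, 0, 0, -2, -1⟩, ⟨2, -1, -1, 0, 0, 0, 2, 1⟩, ⟨2, -1, 1, 0, 0, 0, -2, -1⟩])))
 (.node 2
 (.node 1
 (.leaf [⟨-3, 2, 2, 1, -1, 0, 2, 1⟩, ⟨-1, 0, -2, -1, 1, 0, 2, 1⟩, ⟨-1, 0, 2, 1, -1, 0, 0, -1⟩, ⟨-1, 0, 6, 3, -5, 2, -2, -1⟩, ⟨1, 0, -6, -3, 5, -2, 2, 1⟩, ⟨1, 0, -2, -1, 1, 0, 0, 1⟩, ⟨1, 0, 2, 1, -1, 0, -2, -1⟩, ⟨3, -2, -2, -1, 1, 0, -2, -1⟩])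
 (.leaf [⟨-4, 2, 3, 1, 1, -1, 1, 0⟩, ⟨-4, 2, 5, 3, -3, 1, -1, 0⟩, ⟨0, 0, -3, -1, 3, -1, 3, 2⟩, ⟨0, 0, -1, -1, 1, -1, 1, 0⟩, ⟨0, 0, 1, 1, -1, 1, -1, 0⟩, ⟨0, 0, 3, 1, -3, 1, -3, -2⟩, ⟨4, -2, -5, -3, 3, -1, 1, 0⟩, ⟨4, -2, -3, -1, -1, 1, -1, 0⟩]))
 (.node 1
 (.leaf [⟨-3, 1, 6, 3, -2, 0, -1, -1⟩, ⟨-1, 1, 0, 1, 0, 0, 1, 1⟩, ⟨-1, 1, 2, 1, 0, 0, -3, -1⟩, ⟨-1, 1, 2, 1, 0, 0, 1, 1⟩, ⟨1, -1, -2, -1, 0, 0, -1, -1⟩, ⟨1, -1, -2, -1, 0, 0, 3, 1⟩, ⟨1, -1, 0, -1, 0, 0, -1, -1⟩, ⟨3, -1, -6, -3, 2, 0, 1, 1⟩])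
 (.leaf [⟨-2, 1, -1, -1, 2, -1, 0, 0⟩, ⟨-2, 1, 1, 1, -2, 1, 0, 0⟩, ⟨-2, 1, 1, 1, 2, -1, 0, 0⟩, ⟨0, -1, 1, 1, -2, 1, 0, 0⟩, ⟨0, 1, -1, -1, 2, -1, 0, 0⟩, ⟨2, -1, -1, -1, -2, 1, 0, 0⟩, ⟨2, -1, -1, -1, 2, -1, 0, 0⟩, ⟨2, -1, 1, 1, -2, 1, 0, 0⟩]))))))
 (.node 16
 (.node 8
 (.node 4
 (.node 2
 (.node 1
 (.leaf [⟨-2, 1, 0, 0, 2, -1, 1, 1⟩, ⟨-2, 1, 2, 2, -2, 1, 1, 1⟩, ⟨-2, 1, 4, 2, -2, 1, -3, -1⟩, ⟨0, -1, 0, 0, -2, 1, -1, -1⟩, ⟨0, 1, 0, 0, 2, -1, 1, 1⟩, ⟨2, -1, -4, -2, 2, -1, 3, 1⟩, ⟨2, -1, -2, -2, 2, -1, -1, -1⟩, ⟨2, -1, 0, 0, -2, 1, -1, -1⟩])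
 (.leaf [⟨-2, 1, 0, 0, 1, 0, 1, 1⟩, ⟨-2, 1, 2, 0, -1, 0, -1, -1⟩, ⟨-2, 1, 4, 2, -1, 0, -1, -1⟩, ⟨0, -1, 4, 2, -5, 2, -1, -1⟩, ⟨0, 1, -4, -2, 5, -2, 1, 1⟩, ⟨2, -1, -4, -2, 1, 0, 1, 1⟩, ⟨2, -1, -2, 0, 1, 0, 1, 1⟩, ⟨2, -1, 0, 0, -1, 0, -1, -1⟩]))
 (.node 1
 (.leaf [⟨-2, 1, 0, 0, 0, 0, 1, 0⟩, ⟨-2, 1, 2, 2, 0, 0, -1, 0⟩, ⟨-2, 1, 4, 2, -2, 0, 1, 0⟩, ⟨0, -1, 0, 0, 0, 0, 1, 0⟩, ⟨0, 1, 0, 0, 0, 0, -1, 0⟩, ⟨2, -1, -4, -2, 2, 0, -1, 0⟩, ⟨2, -1, -2, -2, 0, 0, 1, 0⟩, ⟨2, -1, 0, 0, 0, 0, -1, 0⟩])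
 (.leaf [⟨-2, 1, 0, 0, 1, -1, 1, 0⟩, ⟨-2, 1, 2, 0, 1, -1, 1, 0⟩, ⟨-2, 1, 4, 2, -3, 1, -1, 0⟩, ⟨0, -1, 4, 2, -3, 1, -3, -2⟩, ⟨0, 1, -4, -2, 3, -1, 3, 2⟩, ⟨2, -1, -4, -2, 3, -1, 1, 0⟩, ⟨2, -1, -2, 0, -1, 1, -1, 0⟩, ⟨2, -1, 0, 0, -1, 1, -1, 0⟩])))
 (.node 2
 (.node 1
 (.leaf [⟨-2, 1, -2, -1, 2, -1, 3, 1⟩, ⟨-2, 1, 2, 1, -2, 1, 1, 1⟩, ⟨-2, 1, 6, 3, -4, 1, -1, -1⟩, ⟨0, -1, 2, 1, -2, 1, -1, -1⟩, ⟨0, 1, -2, -1, 2, -1, 1, 1⟩, ⟨2, -1, -6, -3, 4, -1, 1, 1⟩, ⟨2, -1, -2, -1, 2, -1, -1, -1⟩, ⟨2, -1, 2, 1, -2, 1, -3, -1⟩])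
 (.leaf [⟨-3, 1, 1, 1, 0, 0, 0, 0⟩, ⟨-1, 1, -1, -1, 0, 0, 0, 0⟩, ⟨-1, 1, -1, -1, 4, -2, 0, 0⟩, ⟨-1, 1, 1, 1, 0, 0, 0, 0⟩, ⟨1, -1, -1, -1, 0, 0, 0, 0⟩, ⟨1, -1, 1, 1, -4, 2, 0, 0⟩, ⟨1, -1, 1, 1, 0, 0, 0, 0⟩, ⟨3, -1, -1, -1, 0, 0, 0, 0⟩]))
 (.node 1
 (.leaf [⟨-4, 2, 2, 1, 1, -1, 2, 1⟩, ⟨-4, 2, 6, 3, -3, 1, -2, -1⟩, ⟨0, 0, -2, -1, 3, -1, 2, 1⟩, ⟨0, 0, 0, -1, 1, -1, 0, -1⟩, ⟨0, 0, 0, 1, -1, 1, 0, 1⟩, ⟨0, 0, 2, 1, -3, 1, -2, -1⟩, ⟨4, -2, -6, -3, 3, -1, 2, 1⟩, ⟨4, -2, -2, -1, -1, 1, -2, -1⟩])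
 (.leaf [⟨-3, 2, 5, 3, -1, 0, -1, 0⟩, ⟨-1, 0, 1, 1, -1, 0, 1, 0⟩, ⟨-1, 0, 3, 1, -1, 0, -3, -2⟩, ⟨-1, 0, 3, 1, -1, 0, 1, 0⟩, ⟨1, 0, -3, -1, 1, 0, -1, 0⟩, ⟨1, 0, -3, -1, 1, 0, 3, 2⟩, ⟨1, 0, -1, -1, 1, 0, -1, 0⟩, ⟨3, -2, -5, -3, 1, 0, 1, 0⟩]))))
 (.node 4
 (.node 2
 (.node 1
 (.leaf [⟨-4, 2, 3, 2, -1, 0, 0, 0⟩, ⟨-4, 2, 5, 2, -1, 0, 0, 0⟩, ⟨0, 0, -3, -2, 1, 0, 0, 0⟩, ⟨0, 0, -1, 0, 1, 0, 0, 0⟩, ⟨0, 0, 1, 0, -1, 0, 0, 0⟩, ⟨0, 0, 3, 2, -1, 0, 0, 0⟩, ⟨4, -2, -5, -2, 1, 0, 0, 0⟩, ⟨4, -2, -3, -2, 1, 0, 0, 0⟩])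
 (.leaf [⟨-2, 1, 3, 2, -2, 1, -3, -1⟩, ⟨-2, 1, 3, 2, -2, 1, 1, 1⟩, ⟨-2, 1, 5, 2, -4, 1, -1, -1⟩, ⟨0, -1, 1, 0, -2, 1, -1, -1⟩, ⟨0, 1, -1, 0, 2, -1, 1, 1⟩, ⟨2, -1, -5, -2, 4, -1, 1, 1⟩, ⟨2, -1, -3, -2, 2, -1, -1, -1⟩, ⟨2, -1, -3, -2, 2, -1, 3, 1⟩]))
 (.node 1
 (.leaf [⟨-3, 1, 4, 2, -1, 0, -2, -1⟩, ⟨-1, 1, -4, -2, 5, -2, 2, 1⟩, ⟨-1, 1, 0, 0, 1, 0, 0, 1⟩, ⟨-1, 1, 4, 2, -1, 0, -2, -1⟩, ⟨1, -1, -4, -2, 1, 0, 2, 1⟩, ⟨1, -1, 0, 0, -1, 0, 0, -1⟩, ⟨1, -1, 4, 2, -5, 2, -2, -1⟩, ⟨3, -1, -4, -2, 1, 0, 2, 1⟩])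
 (.leaf [⟨-3, 2, 0, 0, 2, -1, 3, 2⟩, ⟨-1, 0, 0, 0, -2, 1, 1, 0⟩, ⟨-1, 0, 0, 0, 2, -1, 1, 0⟩, ⟨-1, 0, 2, 2, -2, 1, -1, 0⟩, ⟨1, 0, -2, -2, 2, -1, 1, 0⟩, ⟨1, 0, 0, 0, -2, 1, -1, 0⟩, ⟨1, 0, 0, 0, 2, -1, -1, 0⟩, ⟨3, -2, 0, 0, -2, 1, -3, -2⟩])))
 (.node 2
 (.node 1
 (.leaf [⟨-4, 2, 3, 1, -1, 0, 0, 0⟩, ⟨-4, 2, 5, 3, -1, 0, 0, 0⟩, ⟨0, 0, -3, -1, 1, 0, 0, 0⟩, ⟨0, 0, -1, -1, 1, 0, 0, 0⟩, ⟨0, 0, 1, 1, -1, 0, 0, 0⟩, ⟨0, 0, 3, 1, -1, 0, 0, 0⟩, ⟨4, -2, -5, -3, 1, 0, 0, 0⟩, ⟨4, -2, -3, -1, 1, 0, 0, 0⟩])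
 (.leaf [⟨-2, 1, -1, -1, 2, -1, 3, 1⟩, ⟨-2, 1, 1, 1, -2, 1, 1, 1⟩, ⟨-2, 1, 1, 1, 2, -1, 1, 1⟩, ⟨0, -1, 1, 1, -2, 1, -1, -1⟩, ⟨0, 1, -1, -1, 2, -1, 1, 1⟩, ⟨2, -1, -1, -1, -2, 1, -1, -1⟩, ⟨2, -1, -1, -1, 2, -1, -1, -1⟩, ⟨2, -1, 1, 1, -2, 1, -3, -1⟩]))
 (.node 1
 (.leaf [⟨-3, 1, 6, 3, -5, 2, -2, -1⟩, ⟨-1, 1, 0, 1, 1, 0, 0, 1⟩, ⟨-1, 1, 2, 1, -1, 0, -2, -1⟩, ⟨-1, 1, 2, 1, -1, 0, 2, 1⟩, ⟨1, -1, -2, -1, 1, 0, -2, -1⟩, ⟨1, -1, -2, -1, 1, 0, 2, 1⟩, ⟨1, -1, 0, -1, -1, 0, 0, -1⟩, ⟨3, -1, -6, -3, 5, -2, 2, 1⟩])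
 (.leaf [⟨-3, 2, 2, 1, 2, -1, -1, 0⟩, ⟨-1, 0, -2, -1, 2, -1, 1, 0⟩, ⟨-1, 0, 2, 1, -2, 1, -1, 0⟩, ⟨-1, 0, 6, 3, -4, 1, -3, -2⟩, ⟨1, 0, -6, -3, 4, -1, 3, 2⟩, ⟨1, 0, -2, -1, 2, -1, 1, 0⟩, ⟨1, 0, 2, 1, -2, 1, -1, 0⟩, ⟨3, -2, -2, -1, -2, 1, 1, 0⟩])))))
 (.node 8
 (.node 4
 (.node 2
 (.node 1
 (.leaf [⟨-3, 2, 3, 2, 0, 0, 0, 1⟩, ⟨-1, 0, -1, 0, 0, 0, 2, 1⟩, ⟨-1, 0, 1, 0, 0, 0, -2, -1⟩, ⟨-1, 0, 3, 2, -4, 2, -2, -1⟩, ⟨1, 0, -3, -2, 4, -2, 2, 1⟩, ⟨1, 0, -1, 0, 0, 0, 2, 1⟩, ⟨1, 0, 1, 0, 0, 0, -2, -1⟩, ⟨3, -2, -3, -2, 0, 0, 0, -1⟩])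
 (.leaf [⟨-3, 2, 1, 0, 1, -1, 2, 1⟩, ⟨-1, 0, 1, 0, 1, -1, 0, -1⟩, ⟨-1, 0, 3, 2, -3, 1, -2, -1⟩, ⟨-1, 0, 5, 2, -3, 1, -2, -1⟩, ⟨1, 0, -5, -2, 3, -1, 2, 1⟩, ⟨1, 0, -3, -2, 3, -1, 2, 1⟩, ⟨1, 0, -1, 0, -1, 1, 0, 1⟩, ⟨3, -2, -1, 0, -1, 1, -2, -1⟩]))
 (.node 1
 (.leaf [⟨-3, 2, 1, 0, 2, -1, 0, 0⟩, ⟨-1, 0, 1, 0, -2, 1, 0, 0⟩, ⟨-1, 0, 3, 2, -2, 1, 0, 0⟩, ⟨-1, 0, 5, 2, -4, 1, -2, -2⟩, ⟨1, 0, -5, -2, 4, -1, 2, 2⟩, ⟨1, 0, -3, -2, 2, -1, 0, 0⟩, ⟨1, 0, -1, 0, 2, -1, 0, 0⟩, ⟨3, -2, -1, 0, -2, 1, 0, 0⟩])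
 (.leaf [⟨-3, 2, 3, 2, -1, 0, 0, 0⟩, ⟨-1, 0, -1, 0, 1, 0, 0, 0⟩, ⟨-1, 0, 1, 0, -1, 0, 2, 0⟩, ⟨-1, 0, 3, 2, -1, 0, 0, 0⟩, ⟨1, 0, -3, -2, 1, 0, 0, 0⟩, ⟨1, 0, -1, 0, 1, 0, -2, 0⟩, ⟨1, 0, 1, 0, -1, 0, 0, 0⟩, ⟨3, -2, -3, -2, 1, 0, 0, 0⟩])))
 (.node 2
 (.node 1
 (.leaf [⟨-3, 2, -1, -1, 4, -2, 2, 1⟩, ⟨-1, 0, 1, 1, 0, 0, -2, -1⟩, ⟨-1, 0, 1, 1, 0, 0, 2, 1⟩, ⟨-1, 0, 3, 1, -2, 0, 0, -1⟩, ⟨1, 0, -3, -1, 2, 0, 0, 1⟩, ⟨1, 0, -1, -1, 0, 0, -2, -1⟩, ⟨1, 0, -1, -1, 0, 0, 2, 1⟩, ⟨3, -2, 1, 1, -4, 2, -2, -1⟩])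
 (.leaf [⟨-2, 1, -2, -1, 2, -1, 2, 1⟩, ⟨-2, 1, 2, 1, -2, 1, -2, -1⟩, ⟨-2, 1, 6, 3, -4, 1, -2, -1⟩, ⟨0, -1, 2, 1, -2, 1, -2, -1⟩, ⟨0, 1, -2, -1, 2, -1, 2, 1⟩, ⟨2, -1, -6, -3, 4, -1, 2, 1⟩, ⟨2, -1, -2, -1, 2, -1, 2, 1⟩, ⟨2, -1, 2, 1, -2, 1, -2, -1⟩]))
 (.node 1
 (.leaf [⟨-3, 1, 7, 3, -4, 1, -1, -1⟩, ⟨-1, 1, -1, -1, 2, -1, 1, 1⟩, ⟨-1, 1, 1, 1, -2, 1, 1, 1⟩, ⟨-1, 1, 1, 1, 2, -1, 1, 1⟩, ⟨1, -1, -1, -1, -2, 1, -1, -1⟩, ⟨1, -1, -1, -1, 2, -1, -1, -1⟩, ⟨1, -1, 1, 1, -2, 1, -1, -1⟩, ⟨3, -1, -7, -3, 4, -1, 1, 1⟩])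
 (.leaf [⟨-4, 2, 2, 1, 0, 0, 1, 1⟩, ⟨-4, 2, 6, 3, -2, 0, -1, -1⟩, ⟨0, 0, -2, -1, 0, 0, 3, 1⟩, ⟨0, 0, 0, -1, 0, 0, -1, -1⟩, ⟨0, 0, 0, 1, 0, 0, 1, 1⟩, ⟨0, 0, 2, 1, 0, 0, -3, -1⟩, ⟨4, -2, -6, -3, 2, 0, 1, 1⟩, ⟨4, -2, -2, -1, 0, 0, -1, -1⟩]))))
 (.node 4
 (.node 2
 (.node 1
 (.leaf [⟨-3, 1, 4, 2, -3, 1, 1, 0⟩, ⟨-1, 1, -4, -2, 3, -1, 3, 2⟩, ⟨-1, 1, 0, 0, 1, -1, 1, 0⟩, ⟨-1, 1, 4, 2, -3, 1, -1, 0⟩, ⟨1, -1, -4, -2, 3, -1, 1, 0⟩, ⟨1, -1, 0, 0, -1, 1, -1, 0⟩, ⟨1, -1, 4, 2, -3, 1, -3, -2⟩, ⟨3, -1, -4, -2, 3, -1, -1, 0⟩])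
 (.leaf [⟨-2, 1, 3, 2, -1, 0, -2, -1⟩, ⟨-2, 1, 3, 2, -1, 0, 2, 1⟩, ⟨-2, 1, 5, 2, -1, 0, -2, -1⟩, ⟨0, -1, 1, 0, -1, 0, 0, -1⟩, ⟨0, 1, -1, 0, 1, 0, 0, 1⟩, ⟨2, -1, -5, -2, 1, 0, 2, 1⟩, ⟨2, -1, -3, -2, 1, 0, -2, -1⟩, ⟨2, -1, -3, -2, 1, 0, 2, 1⟩]))
 (.node 1
 (.leaf [⟨-3, 2, 0, 0, 2, -1, 0, 0⟩, ⟨-1, 0, 0, 0, -2, 1, 0, 0⟩, ⟨-1, 0, 0, 0, 2, -1, 0, 0⟩, ⟨-1, 0, 2, 2, -2, 1, 0, 0⟩, ⟨1, 0, -2, -2, 2, -1, 0, 0⟩, ⟨1, 0, 0, 0, -2, 1, 0, 0⟩, ⟨1, 0, 0, 0, 2, -1, 0, 0⟩, ⟨3, -2, 0, 0, -2, 1, 0, 0⟩])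
 (.leaf [⟨-4, 2, 3, 2, 0, 0, 1, 1⟩, ⟨-4, 2, 5, 2, -2, 0, -1, -1⟩, ⟨0, 0, -3, -2, 4, -2, 3, 1⟩, ⟨0, 0, -1, 0, 0, 0, 1, 1⟩, ⟨0, 0, 1, 0, 0, 0, -1, -1⟩, ⟨0, 0, 3, 2, -4, 2, -3, -1⟩, ⟨4, -2, -5, -2, 2, 0, 1, 1⟩, ⟨4, -2, -3, -2, 0, 0, -1, -1⟩])))
 (.node 2
 (.node 1
 (.leaf [⟨-3, 1, 2, 1, 1, -1, 1, 0⟩, ⟨-1, 1, -2, -1, 3, -1, -1, 0⟩, ⟨-1, 1, -2, -1, 3, -1, 3, 2⟩, ⟨-1, 1, 0, -1, 1, -1, 1, 0⟩, ⟨1, -1, 0, 1, -1, 1, -1, 0⟩, ⟨1, -1, 2, 1, -3, 1, -3, -2⟩, ⟨1, -1, 2, 1, -3, 1, 1, 0⟩, ⟨3, -1, -2, -1, -1, 1, -1, 0⟩])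
 (.leaf [⟨-4, 2, 3, 1, -1, 0, 1, 0⟩, ⟨-4, 2, 5, 3, -1, 0, -1, 0⟩, ⟨0, 0, -3, -1, 1, 0, 3, 2⟩, ⟨0, 0, -1, -1, 1, 0, -1, 0⟩, ⟨0, 0, 1, 1, -1, 0, 1, 0⟩, ⟨0, 0, 3, 1, -1, 0, -3, -2⟩, ⟨4, -2, -5, -3, 1, 0, 1, 0⟩, ⟨4, -2, -3, -1, 1, 0, -1, 0⟩]))
 (.node 1
 (.leaf [⟨-3, 2, 2, 1, -1, 0, 0, 0⟩, ⟨-1, 0, -2, -1, 1, 0, 0, 0⟩, ⟨-1, 0, 2, 1, -1, 0, 0, 0⟩, ⟨-1, 0, 6, 3, -5, 2, -4, -2⟩, ⟨1, 0, -6, -3, 5, -2, 4, 2⟩, ⟨1, 0, -2, -1, 1, 0, 0, 0⟩, ⟨1, 0, 2, 1, -1, 0, 0, 0⟩, ⟨3, -2, -2, -1, 1, 0, 0, 0⟩])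
 (.node 1
 (.leaf [⟨-2, 1, 3, 1, -3, 1, 0, 0⟩, ⟨-2, 1, 3, 1, 1, -1, 0, 0⟩, ⟨-2, 1, 5, 3, -3, 1, 0, 0⟩, ⟨0, -1, 3, 1, -3, 1, -2, -2⟩, ⟨0, 1, -3, -1, 3, -1, 2, 2⟩, ⟨2, -1, -5, -3, 3, -1, 0, 0⟩, ⟨2, -1, -3, -1, -1, 1, 0, 0⟩, ⟨2, -1, -3, -1, 3, -1, 0, 0⟩])
 (.leaf [⟨-8, 4, 8, 4, -2, 0, 0, 0⟩, ⟨-4, 2, 0, 0, 0, 0, 0, 0⟩, ⟨-4, 2, 0, 0, 0, 0, 4, 2⟩, ⟨-4, 2, 0, 0, 4, -2, 0, 0⟩, ⟨-4, 2, 0, 0, 4, -2, 4, 2⟩, ⟨-4, 2, 2, 0, 0, 0, 0, 0⟩, ⟨-4, 2, 2, 0, 2, -2, 2, 0⟩, ⟨-4, 2, 2, 2, 0, 0, 0, 0⟩, ⟨-4, 2, 2, 2, 0, 0, 2, 2⟩, ⟨-4, 2, 4, 2, -2, 0, 0, 0⟩, ⟨-4, 2, 4, 2, -2, 0, 2, 0⟩, ⟨-4, 2, 4, 2, 0, 0, -2, 0⟩, ⟨-4, 2, 4, 2, 0, 0, 0, 0⟩, ⟨-4, 2, 6, 2, -2, 0, -2, -2⟩, ⟨-4, 2, 6, 2,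 -2, 0, 0, 0⟩, ⟨-4, 2, 6, 4, -4, 2, -2, 0⟩, ⟨-4, 2, 6, 4, -2, 0, 0, 0⟩, ⟨-4, 2, 8, 4, -6, 2, -4, -2⟩, ⟨-4, 2, 8, 4, -6, 2, 0, 0⟩, ⟨-4, 2, 8, 4, -2, 0, -4, -2⟩, ⟨-4, 2, 8, 4, -2, 0, 0, 0⟩, ⟨-2, 0, 0, 0, 0, 0, 0, 0⟩, ⟨-2, 0, 0, 0, 0, 0, 2, 0⟩, ⟨-2, 0, 2, 2, -4, 2, 0, 0⟩, ⟨-2, 0, 2, 2, 0, 0, 0, 0⟩, ⟨-2, 0, 4, 2, -4, 2, -4, -2⟩, ⟨-2, 0, 4, 2, -4, 2, 0, 0⟩, ⟨-2, 0, 4, 2, -2, 0, -2, -2⟩, ⟨-2, 0, 4, 2, -2, 0, 2, 0⟩, ⟨-2, 0, 6, 2, -6, 2, -2, -2⟩, ⟨-2, 0, 6, 2, -2, 0, -2, -2⟩, ⟨-2, 0, 8, 4, -6, 2, -4, -2⟩, ⟨-2, 0, 8, 4, -6, 2, -2, -2⟩, ⟨-2, 2, -4, -2, 4, -2, 4, 2⟩, ⟨-2, 2, -4, -2, 6, -2, 2, 2⟩, ⟨-2, 2, -2, -2, 4, -2, 0, 0⟩, ⟨-2, 2, -2, -2, 4, -2, 4, 2⟩, ⟨-2, 2, 0,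 0, 0, 0, 0, 0⟩, ⟨-2, 2, 0, 0, 0, 0, 2, 2⟩, ⟨-2, 2, 0, 0, 4, -2, 0, 0⟩, ⟨-2, 2, 0, 0, 4, -2, 2, 2⟩, ⟨-2, 2, 2, 2, 0, 0, -2, 0⟩, ⟨-2, 2, 2, 2, 0, 0, 2, 2⟩, ⟨-2, 2, 4, 2, -2, 0, 0, 0⟩, ⟨-2, 2, 4, 2, 0, 0, -2, 0⟩, ⟨0, 0, -8, -4, 6, -2, 4, 2⟩, ⟨0, 0, -4, -2, 2, 0, 0, 0⟩, ⟨0, 0, -4, -2, 2, 0, 2, 2⟩, ⟨0, 0, -4, -2, 4, -2, 2, 0⟩, ⟨0, 0, -4, -2, 4, -2, 4, 2⟩, ⟨0, 0, -2, -2, 0, 0, 0, 0⟩, ⟨0, 0, -2, -2, 0, 0, 2, 0⟩, ⟨0, 0, -2, -2, 4, -2, 0, 0⟩, ⟨0, 0, -2, -2, 4, -2, 2, 0⟩, ⟨0, 0, -2, 0, 0, 0, 0, 0⟩, ⟨0, 0, -2, 0, 0, 0, 4, 2⟩, ⟨0, 0, -2, 0, 2, 0, -2, 0⟩, ⟨0, 0, -2, 0, 2, 0, 2, 2⟩, ⟨0, 0, 0, 0, -4, 2, 0, 0⟩, ⟨0, 0, 0, 0, 0, 0, -4, -2⟩, ⟨0, 0, 0, 0, 0, 0, 4, 2⟩, ⟨0, 0,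 0, 0, 4, -2, 0, 0⟩, ⟨0, 0, 2, 0, -2, 0, -2, -2⟩, ⟨0, 0, 2, 0, -2, 0, 2, 0⟩, ⟨0, 0, 2, 0, 0, 0, -4, -2⟩, ⟨0, 0, 2, 0, 0, 0, 0, 0⟩, ⟨0, 0, 2, 2, -4, 2, -2, 0⟩, ⟨0, 0, 2, 2, -4, 2, 0, 0⟩, ⟨0, 0, 2, 2, 0, 0, -2, 0⟩, ⟨0, 0, 2, 2, 0, 0, 0, 0⟩, ⟨0, 0, 4, 2, -4, 2, -4, -2⟩, ⟨0, 0, 4, 2, -4, 2, -2, 0⟩, ⟨0, 0, 4, 2, -2, 0, -2, -2⟩, ⟨0, 0, 4, 2, -2, 0, 0, 0⟩, ⟨0, 0, 8, 4, -6, 2, -4, -2⟩, ⟨2, -2, -4, -2, 0, 0, 2, 0⟩, ⟨2, -2, -4, -2, 2, 0, 0, 0⟩, ⟨2, -2, -2, -2, 0, 0, -2, -2⟩, ⟨2, -2, -2, -2, 0, 0, 2, 0⟩, ⟨2, -2, 0, 0, -4, 2, -2, -2⟩, ⟨2, -2, 0, 0, -4, 2, 0, 0⟩, ⟨2, -2, 0, 0, 0, 0, -2, -2⟩, ⟨2, -2, 0, 0, 0, 0, 0, 0⟩, ⟨2, -2, 2, 2, -4, 2, -4, -2⟩, ⟨2, -2, 2, 2, -4, 2,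 0, 0⟩, ⟨2, -2, 4, 2, -6, 2, -2, -2⟩, ⟨2, -2, 4, 2, -4, 2, -4, -2⟩, ⟨2, 0, -8, -4, 6, -2, 2, 2⟩, ⟨2, 0, -8, -4, 6, -2, 4, 2⟩, ⟨2, 0, -6, -2, 2, 0, 2, 2⟩, ⟨2, 0, -6, -2, 6, -2, 2, 2⟩, ⟨2, 0, -4, -2, 2, 0, -2, 0⟩, ⟨2, 0, -4, -2, 2, 0, 2, 2⟩, ⟨2, 0, -4, -2, 4, -2, 0, 0⟩, ⟨2, 0, -4, -2, 4, -2, 4, 2⟩, ⟨2, 0, -2, -2, 0, 0, 0, 0⟩, ⟨2, 0, -2, -2, 4, -2, 0, 0⟩, ⟨2, 0, 0, 0, 0, 0, -2, 0⟩, ⟨2, 0, 0, 0, 0, 0, 0, 0⟩, ⟨4, -2, -8, -4, 2, 0, 0, 0⟩, ⟨4, -2, -8, -4, 2, 0, 4, 2⟩, ⟨4, -2, -8, -4, 6, -2, 0, 0⟩, ⟨4, -2, -8, -4, 6, -2, 4, 2⟩, ⟨4, -2, -6, -4, 2, 0, 0, 0⟩, ⟨4, -2, -6, -4, 4, -2, 2, 0⟩, ⟨4, -2, -6, -2, 2, 0, 0, 0⟩, ⟨4, -2, -6, -2, 2, 0, 2, 2⟩, ⟨4, -2, -4, -2, 0, 0,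 0, 0⟩, ⟨4, -2, -4, -2, 0, 0, 2, 0⟩, ⟨4, -2, -4, -2, 2, 0, -2, 0⟩, ⟨4, -2, -4, -2, 2, 0, 0, 0⟩, ⟨4, -2, -2, -2, 0, 0, -2, -2⟩, ⟨4, -2, -2, -2, 0, 0, 0, 0⟩, ⟨4, -2, -2, 0, -2, 2, -2, 0⟩, ⟨4, -2, -2, 0, 0, 0, 0, 0⟩, ⟨4, -2, 0, 0, -4, 2, -4, -2⟩, ⟨4, -2, 0, 0, -4, 2, 0, 0⟩, ⟨4, -2, 0, 0, 0, 0, -4, -2⟩, ⟨4, -2, 0, 0, 0, 0, 0, 0⟩, ⟨8, -4, -8, -4, 2, 0, 0, 0⟩])))))))))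

/-- The units. -/
def unitsC : List V8 :=
  [⟨-4, 2, 4, 2, -1, 0, 0, 0⟩,
   ⟨-2, 1, 0, 0, 0, 0, 0, 0⟩,
   ⟨-2, 1, 0, 0, 0, 0, 2, 1⟩,
   ⟨-2, 1, 0, 0, 2, -1, 0, 0⟩,
   ⟨-2, 1, 0, 0, 2, -1, 2, 1⟩,
   ⟨-2, 1, 1, 0, 0, 0, 0, 0⟩,
   ⟨-2, 1, 1, 0, 1, -1, 1, 0⟩,
   ⟨-2, 1, 1, 1, 0, 0, 0, 0⟩,
   ⟨-2, 1, 1, 1, 0, 0, 1, 1⟩,
   ⟨-2, 1, 2, 1, -1, 0, 0, 0⟩,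
   ⟨-2, 1, 2, 1, -1, 0, 1, 0⟩,
   ⟨-2, 1, 2, 1, 0, 0, -1, 0⟩,
   ⟨-2, 1, 2, 1, 0, 0, 0, 0⟩,
   ⟨-2, 1, 3, 1, -1, 0, -1, -1⟩,
   ⟨-2, 1, 3, 1, -1, 0, 0, 0⟩,
   ⟨-2, 1, 3, 2, -2, 1, -1, 0⟩,
   ⟨-2, 1, 3, 2, -1, 0, 0, 0⟩,
   ⟨-2, 1, 4, 2, -3, 1, -2, -1⟩,
   ⟨-2, 1, 4, 2, -3, 1, 0, 0⟩,
   ⟨-2, 1, 4, 2, -1, 0, -2, -1⟩,
   ⟨-2, 1, 4, 2, -1, 0, 0, 0⟩,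
   ⟨-1, 0, 0, 0, 0, 0, 0, 0⟩,
   ⟨-1, 0, 0, 0, 0, 0, 1, 0⟩,
   ⟨-1, 0, 1, 1, -2, 1, 0, 0⟩,
   ⟨-1, 0, 1, 1, 0, 0, 0, 0⟩,
   ⟨-1, 0, 2, 1, -2, 1, -2, -1⟩,
   ⟨-1, 0, 2, 1, -2, 1, 0, 0⟩,
   ⟨-1, 0, 2, 1, -1, 0, -1, -1⟩,
   ⟨-1, 0, 2, 1, -1, 0, 1, 0⟩,
   ⟨-1, 0, 3, 1, -3, 1, -1, -1⟩,
   ⟨-1, 0, 3, 1, -1, 0, -1, -1⟩,
   ⟨-1, 0, 4, 2, -3, 1, -2, -1⟩,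
   ⟨-1, 0, 4, 2, -3, 1, -1, -1⟩,
   ⟨-1, 1, -2, -1, 2, -1, 2, 1⟩,
   ⟨-1, 1, -2, -1, 3, -1, 1, 1⟩,
   ⟨-1, 1, -1, -1, 2, -1, 0, 0⟩,
   ⟨-1, 1, -1, -1, 2, -1, 2, 1⟩,
   ⟨-1, 1, 0, 0, 0, 0, 0, 0⟩,
   ⟨-1, 1, 0, 0, 0, 0, 1, 1⟩,
   ⟨-1, 1, 0, 0, 2, -1, 0, 0⟩,
   ⟨-1, 1, 0, 0, 2, -1, 1, 1⟩,
   ⟨-1, 1, 1, 1, 0, 0, -1, 0⟩,
   ⟨-1, 1, 1, 1, 0, 0, 1, 1⟩,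
   ⟨-1, 1, 2, 1, -1, 0, 0, 0⟩,
   ⟨-1, 1, 2, 1, 0, 0, -1, 0⟩,
   ⟨0, 0, -4, -2, 3, -1, 2, 1⟩,
   ⟨0, 0, -2, -1, 1, 0, 0, 0⟩,
   ⟨0, 0, -2, -1, 1, 0, 1, 1⟩,
   ⟨0, 0, -2, -1, 2, -1, 1, 0⟩,
   ⟨0, 0, -2, -1, 2, -1, 2, 1⟩,
   ⟨0, 0, -1, -1, 0, 0, 0, 0⟩,
   ⟨0, 0, -1, -1, 0, 0, 1, 0⟩,
   ⟨0, 0, -1, -1, 2, -1, 0, 0⟩,
   ⟨0, 0, -1, -1, 2, -1, 1, 0⟩,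
   ⟨0, 0, -1, 0, 0, 0, 0, 0⟩,
   ⟨0, 0, -1, 0, 0, 0, 2, 1⟩,
   ⟨0, 0, -1, 0, 1, 0, -1, 0⟩,
   ⟨0, 0, -1, 0, 1, 0, 1, 1⟩,
   ⟨0, 0, 0, 0, -2, 1, 0, 0⟩,
   ⟨0, 0, 0, 0, 0, 0, -2, -1⟩,
   ⟨0, 0, 0, 0, 0, 0, 2, 1⟩,
   ⟨0, 0, 0, 0, 2, -1, 0, 0⟩,
   ⟨0, 0, 1, 0, -1, 0, -1, -1⟩,
   ⟨0, 0, 1, 0, -1, 0, 1, 0⟩,
   ⟨0, 0, 1, 0, 0, 0, -2, -1⟩,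
   ⟨0, 0, 1, 0, 0, 0, 0, 0⟩,
   ⟨0, 0, 1, 1, -2, 1, -1, 0⟩,
   ⟨0, 0, 1, 1, -2, 1, 0, 0⟩,
   ⟨0, 0, 1, 1, 0, 0, -1, 0⟩,
   ⟨0, 0, 1, 1, 0, 0, 0, 0⟩,
   ⟨0, 0, 2, 1, -2, 1, -2, -1⟩,
   ⟨0, 0, 2, 1, -2, 1, -1, 0⟩,
   ⟨0, 0, 2, 1, -1, 0, -1, -1⟩,
   ⟨0, 0, 2, 1, -1, 0, 0, 0⟩,
   ⟨0, 0, 4, 2, -3, 1, -2, -1⟩,
   ⟨1, -1, -2, -1, 0, 0, 1, 0⟩,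
   ⟨1, -1, -2, -1, 1, 0, 0, 0⟩,
   ⟨1, -1, -1, -1, 0, 0, -1, -1⟩,
   ⟨1, -1, -1, -1, 0, 0, 1, 0⟩,
   ⟨1, -1, 0, 0, -2, 1, -1, -1⟩,
   ⟨1, -1, 0, 0, -2, 1, 0, 0⟩,
   ⟨1, -1, 0, 0, 0, 0, -1, -1⟩,
   ⟨1, -1, 0, 0, 0, 0, 0, 0⟩,
   ⟨1, -1, 1, 1, -2, 1, -2, -1⟩,
   ⟨1, -1, 1, 1, -2, 1, 0, 0⟩,
   ⟨1, -1, 2, 1, -3, 1, -1, -1⟩,
   ⟨1, -1, 2, 1, -2, 1, -2, -1⟩,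
   ⟨1, 0, -4, -2, 3, -1, 1, 1⟩,
   ⟨1, 0, -4, -2, 3, -1, 2, 1⟩,
   ⟨1, 0, -3, -1, 1, 0, 1, 1⟩,
   ⟨1, 0, -3, -1, 3, -1, 1, 1⟩,
   ⟨1, 0, -2, -1, 1, 0, -1, 0⟩,
   ⟨1, 0, -2, -1, 1, 0, 1, 1⟩,
   ⟨1, 0, -2, -1, 2, -1, 0, 0⟩,
   ⟨1, 0, -2, -1, 2, -1, 2, 1⟩,
   ⟨1, 0, -1, -1, 0, 0, 0, 0⟩,
   ⟨1, 0, -1, -1, 2, -1, 0, 0⟩,
   ⟨1, 0, 0, 0, 0, 0, -1, 0⟩,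
   ⟨1, 0, 0, 0, 0, 0, 0, 0⟩,
   ⟨2, -1, -4, -2, 1, 0, 0, 0⟩,
   ⟨2, -1, -4, -2, 1, 0, 2, 1⟩,
   ⟨2, -1, -4, -2, 3, -1, 0, 0⟩,
   ⟨2, -1, -4, -2, 3, -1, 2, 1⟩,
   ⟨2, -1, -3, -2, 1, 0, 0, 0⟩,
   ⟨2, -1, -3, -2, 2, -1, 1, 0⟩,
   ⟨2, -1, -3, -1, 1, 0, 0, 0⟩,
   ⟨2, -1, -3, -1, 1, 0, 1, 1⟩,
   ⟨2, -1, -2, -1, 0, 0, 0, 0⟩,
   ⟨2, -1, -2, -1, 0, 0, 1, 0⟩,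
   ⟨2, -1, -2, -1, 1, 0, -1, 0⟩,
   ⟨2, -1, -2, -1, 1, 0, 0, 0⟩,
   ⟨2, -1, -1, -1, 0, 0, -1, -1⟩,
   ⟨2, -1, -1, -1, 0, 0, 0, 0⟩,
   ⟨2, -1, -1, 0, -1, 1, -1, 0⟩,
   ⟨2, -1, -1, 0, 0, 0, 0, 0⟩,
   ⟨2, -1, 0, 0, -2, 1, -2, -1⟩,
   ⟨2, -1, 0, 0, -2, 1, 0, 0⟩,
   ⟨2, -1, 0, 0, 0, 0, -2, -1⟩,
   ⟨2, -1, 0, 0, 0, 0, 0, 0⟩,
   ⟨4, -2, -4, -2, 1, 0, 0, 0⟩]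

/-- One minimal vector for each reflection. -/
def repTree : DTree (V8 × V8 × V8) :=
  .node 157
 (.node 78
 (.node 39
 (.node 19
 (.node 9
 (.node 4
 (.node 2
 (.node 1
 (.leaf (⟨0, 0, 0, 0, 0, 0, 0, 0⟩, ⟨0, 0, 0, 0, 0, 0, 0, 0⟩, ⟨-8, 4, 8, 4, -2, 0, 0, 0⟩))
 (.leaf (⟨0, 0, 0, 0, 0, 0, 0, 0⟩, ⟨-4, 2, 0, 0, 2, -1, 2, 1⟩, ⟨4, -2, 0, 0, -2, 1, -2, -1⟩)))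
 (.node 1
 (.leaf (⟨0, 0, 0, 0, 0, 0, 0, 0⟩, ⟨-4, 2, 0, 0, 2, -1, 2, 1⟩, ⟨-4, 2, 8, 4, -4, 1, -2, -1⟩))
 (.leaf (⟨0, 0, 0, 0, 0, 0, 0, 0⟩, ⟨-4, 2, 0, 0, 2, -1, 2, 1⟩, ⟨0, 0, 0, 0, 2, -1, 2, 1⟩))))
 (.node 2
 (.node 1
 (.leaf (⟨0, 0, 0, 0, 0, 0, 0, 0⟩, ⟨-4, 2, 0, 0, 2, -1, 2, 1⟩, ⟨0, 0, 0, 0, -2, 1, 2, 1⟩))
 (.leaf (⟨0, 0, 0, 0, 0, 0, 0, 0⟩, ⟨-4, 2, 0, 0, 2, -1, 2, 1⟩, ⟨0, 0, 0, 0, 2, -1, -2, -1⟩)))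
 (.node 1
 (.leaf (⟨0, 0, 0, 0, 0, 0, 0, 0⟩, ⟨-4, 2, 0, 0, 2, -1, 2, 1⟩, ⟨0, 0, 0, 0, -2, 1, -2, -1⟩))
 (.node 1
 (.leaf (⟨0, 0, 0, 0, 0, 0, 0, 0⟩, ⟨-4, 2, 0, 0, 2, -1, 2, 1⟩, ⟨4, -2, -8, -4, 4, -1, 2, 1⟩))
 (.leaf (⟨0, 0, 0, 0, 0, 0, 0, 0⟩, ⟨-4, 2, 0, 0, 2, -1, 2, 1⟩, ⟨-4, 2, 0, 0, 2, -1, 2, 1⟩))))))
 (.node 5
 (.node 2
 (.node 1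
 (.leaf (⟨0, 0, 0, 0, 0, 0, 0, 0⟩, ⟨-8, 4, 8, 4, -2, 0, 0, 0⟩, ⟨0, 0, 0, 0, 0, 0, 0, 0⟩))
 (.leaf (⟨-4, 2, 4, 2, -1, 0, 0, 0⟩, ⟨4, -2, -4, -2, 1, 0, 0, 0⟩, ⟨2, -1, 0, 0, -2, 1, -1, -1⟩)))
 (.node 1
 (.leaf (⟨-4, 2, 4, 2, -1, 0, 0, 0⟩, ⟨4, -2, -4, -2, 1, 0, 0, 0⟩, ⟨2, -1, -2, -2, 2, -1, -1, -1⟩))
 (.node 1
 (.leaf (⟨-4, 2, 4, 2, -1, 0, 0, 0⟩, ⟨4, -2, -4, -2, 1, 0, 0, 0⟩, ⟨2, -1, -4, -2, 2, -1, 3, 1⟩))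
 (.leaf (⟨-4, 2, 4, 2, -1, 0, 0, 0⟩, ⟨4, -2, -4, -2, 1, 0, 0, 0⟩, ⟨0, 1, 0, 0, 2, -1, 1, 1⟩)))))
 (.node 2
 (.node 1
 (.leaf (⟨-4, 2, 4, 2, -1, 0, 0, 0⟩, ⟨4, -2, -4, -2, 1, 0, 0, 0⟩, ⟨0, -1, 0, 0, -2, 1, -1, -1⟩))
 (.leaf (⟨-4, 2, 4, 2, -1, 0, 0, 0⟩, ⟨4, -2, -4, -2, 1, 0, 0, 0⟩, ⟨-2, 1, 4, 2, -2, 1, -3, -1⟩)))
 (.node 1
 (.leaf (⟨-4, 2, 4, 2, -1, 0, 0, 0⟩, ⟨4, -2, -4, -2, 1, 0, 0, 0⟩, ⟨-2, 1, 2, 2, -2, 1, 1, 1⟩))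
 (.node 1
 (.leaf (⟨-4, 2, 4, 2, -1, 0, 0, 0⟩, ⟨4, -2, -4, -2, 1, 0, 0, 0⟩, ⟨-2, 1, 0, 0, 2, -1, 1, 1⟩))
 (.leaf (⟨-4, 2, 4, 2, -1, 0, 0, 0⟩, ⟨2, -1, 0, 0, 0, 0, -1, 0⟩, ⟨0, 0, 4, 2, -3, 1, -2, -1⟩)))))))
 (.node 10
 (.node 5
 (.node 2
 (.node 1
 (.leaf (⟨-4, 2, 4, 2, -1, 0, 0, 0⟩, ⟨2, -1, 0, 0, 0, 0, -1, 0⟩, ⟨0, 0, -4, -2, 3, -1, 2, 1⟩))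
 (.leaf (⟨-4, 2, 4, 2, -1, 0, 0, 0⟩, ⟨2, -1, 0, 0, -1, 1, -1, 0⟩, ⟨0, 0, 0, 0, 0, 0, 2, 1⟩)))
 (.node 1
 (.leaf (⟨-4, 2, 4, 2, -1, 0, 0, 0⟩, ⟨2, -1, 0, 0, -1, 1, -1, 0⟩, ⟨0, 0, 0, 0, 0, 0, -2, -1⟩))
 (.node 1
 (.leaf (⟨-4, 2, 4, 2, -1, 0, 0, 0⟩, ⟨2, -1, 0, 0, -1, 0, -1, -1⟩, ⟨0, 0, 0, 0, 2, -1, 0, 0⟩))
 (.leaf (⟨-4, 2, 4, 2, -1, 0, 0, 0⟩, ⟨2, -1, 0, 0, -1, 0, -1, -1⟩, ⟨0, 0, 0, 0, -2, 1, 0, 0⟩)))))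
 (.node 2
 (.node 1
 (.leaf (⟨-4, 2, 4, 2, -1, 0, 0, 0⟩, ⟨2, -1, 0, 0, -2, 1, -1, -1⟩, ⟨4, -2, -4, -2, 1, 0, 0, 0⟩))
 (.leaf (⟨-4, 2, 4, 2, -1, 0, 0, 0⟩, ⟨2, -1, 0, 0, -2, 1, -1, -1⟩, ⟨-4, 2, 4, 2, -1, 0, 0, 0⟩)))
 (.node 1
 (.leaf (⟨-4, 2, 4, 2, -1, 0, 0, 0⟩, ⟨2, -1, -2, 0, 1, 0, 1, 1⟩, ⟨0, 0, 0, 0, 2, -1, 0, 0⟩))
 (.node 1
 (.leaf (⟨-4, 2, 4, 2, -1, 0, 0, 0⟩, ⟨2, -1, -2, 0, 1, 0, 1, 1⟩, ⟨0, 0, 0, 0, -2, 1, 0, 0⟩))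
 (.leaf (⟨-4, 2, 4, 2, -1, 0, 0, 0⟩, ⟨2, -1, -2, 0, -1, 1, -1, 0⟩, ⟨0, 0, 0, 0, 0, 0, 2, 1⟩))))))
 (.node 5
 (.node 2
 (.node 1
 (.leaf (⟨-4, 2, 4, 2, -1, 0, 0, 0⟩, ⟨2, -1, -2, 0, -1, 1, -1, 0⟩, ⟨0, 0, 0, 0, 0, 0, -2, -1⟩))
 (.leaf (⟨-4, 2, 4, 2, -1, 0, 0, 0⟩, ⟨2, -1, -2, -2, 2, -1, -1, -1⟩, ⟨4, -2, -4, -2, 1, 0, 0, 0⟩)))
 (.node 1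
 (.leaf (⟨-4, 2, 4, 2, -1, 0, 0, 0⟩, ⟨2, -1, -2, -2, 2, -1, -1, -1⟩, ⟨-4, 2, 4, 2, -1, 0, 0, 0⟩))
 (.node 1
 (.leaf (⟨-4, 2, 4, 2, -1, 0, 0, 0⟩, ⟨2, -1, -2, -2, 0, 0, 1, 0⟩, ⟨0, 0, 4, 2, -3, 1, -2, -1⟩))
 (.leaf (⟨-4, 2, 4, 2, -1, 0, 0, 0⟩, ⟨2, -1, -2, -2, 0, 0, 1, 0⟩, ⟨0, 0, -4, -2, 3, -1, 2, 1⟩)))))
 (.node 2
 (.node 1
 (.leaf (⟨-4, 2, 4, 2, -1, 0, 0, 0⟩, ⟨2, -1, -4, -2, 3, -1, 1, 0⟩, ⟨0, 0, 0, 0, 0, 0, 2, 1⟩))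
 (.leaf (⟨-4, 2, 4, 2, -1, 0, 0, 0⟩, ⟨2, -1, -4, -2, 3, -1, 1, 0⟩, ⟨0, 0, 0, 0, 0, 0, -2, -1⟩)))
 (.node 1
 (.leaf (⟨-4, 2, 4, 2, -1, 0, 0, 0⟩, ⟨2, -1, -4, -2, 2, 0, -1, 0⟩, ⟨0, 0, 4, 2, -3, 1, -2, -1⟩))
 (.node 1
 (.leaf (⟨-4, 2, 4, 2, -1, 0, 0, 0⟩, ⟨2, -1, -4, -2, 2, 0, -1, 0⟩, ⟨0, 0, -4, -2, 3, -1, 2, 1⟩))
 (.leaf (⟨-4, 2, 4, 2, -1, 0, 0, 0⟩, ⟨2, -1, -4, -2, 2, -1, 3, 1⟩, ⟨4, -2, -4, -2, 1, 0, 0, 0⟩))))))))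
 (.node 19
 (.node 9
 (.node 4
 (.node 2
 (.node 1
 (.leaf (⟨-4, 2, 4, 2, -1, 0, 0, 0⟩, ⟨2, -1, -4, -2, 2, -1, 3, 1⟩, ⟨-4, 2, 4, 2, -1, 0, 0, 0⟩))
 (.leaf (⟨-4, 2, 4, 2, -1, 0, 0, 0⟩, ⟨2, -1, -4, -2, 1, 0, 1, 1⟩, ⟨0, 0, 0, 0, 2, -1, 0, 0⟩)))
 (.node 1
 (.leaf (⟨-4, 2, 4, 2, -1, 0, 0, 0⟩, ⟨2, -1, -4, -2, 1, 0, 1, 1⟩, ⟨0, 0, 0, 0, -2, 1, 0, 0⟩))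
 (.leaf (⟨-4, 2, 4, 2, -1, 0, 0, 0⟩, ⟨1, 0, -1, 0, 1, 0, -1, 0⟩, ⟨1, -1, 1, 0, -2, 1, -2, -1⟩))))
 (.node 2
 (.node 1
 (.leaf (⟨-4, 2, 4, 2, -1, 0, 0, 0⟩, ⟨1, 0, -1, 0, 1, 0, -1, 0⟩, ⟨-1, 1, -1, 0, 2, -1, 2, 1⟩))
 (.leaf (⟨-4, 2, 4, 2, -1, 0, 0, 0⟩, ⟨1, 0, -1, 0, 0, 0, 1, 1⟩, ⟨1, -1, -1, 0, -1, 1, 0, 0⟩)))
 (.node 1
 (.leaf (⟨-4, 2, 4, 2, -1, 0, 0, 0⟩, ⟨1, 0, -1, 0, 0, 0, 1, 1⟩, ⟨-1, 1, 1, 0, 1, -1, 0, 0⟩))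
 (.node 1
 (.leaf (⟨-4, 2, 4, 2, -1, 0, 0, 0⟩, ⟨1, 0, -3, -2, 3, -1, 1, 1⟩, ⟨1, -1, -1, 0, 0, 0, 0, 0⟩))
 (.leaf (⟨-4, 2, 4, 2, -1, 0, 0, 0⟩, ⟨1, 0, -3, -2, 3, -1, 1, 1⟩, ⟨-1, 1, 1, 0, 0, 0, 0, 0⟩))))))
 (.node 5
 (.node 2
 (.node 1
 (.leaf (⟨-4, 2, 4, 2, -1, 0, 0, 0⟩, ⟨1, 0, -3, -2, 2, -1, 1, 0⟩, ⟨1, -1, 1, 0, -1, 0, 0, -1⟩))
 (.leaf (⟨-4, 2, 4, 2, -1, 0, 0, 0⟩, ⟨1, 0, -3, -2, 2, -1, 1, 0⟩, ⟨-1, 1, -1, 0, 1, 0, 0, 1⟩)))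
 (.node 1
 (.leaf (⟨-4, 2, 4, 2, -1, 0, 0, 0⟩, ⟨1, -1, 1, 0, -1, 0, 0, -1⟩, ⟨1, 0, -3, -2, 2, -1, 1, 0⟩))
 (.node 1
 (.leaf (⟨-4, 2, 4, 2, -1, 0, 0, 0⟩, ⟨1, -1, 1, 0, -1, 0, 0, -1⟩, ⟨-1, 0, 3, 2, -2, 1, -1, 0⟩))
 (.leaf (⟨-4, 2, 4, 2, -1, 0, 0, 0⟩, ⟨1, -1, 1, 0, -2, 1, -2, -1⟩, ⟨1, 0, -1, 0, 1, 0, -1, 0⟩)))))
 (.node 2
 (.node 1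
 (.leaf (⟨-4, 2, 4, 2, -1, 0, 0, 0⟩, ⟨1, -1, 1, 0, -2, 1, -2, -1⟩, ⟨-1, 0, 1, 0, -1, 0, 1, 0⟩))
 (.leaf (⟨-4, 2, 4, 2, -1, 0, 0, 0⟩, ⟨1, -1, -1, 0, 0, 0, 0, 0⟩, ⟨1, 0, -3, -2, 3, -1, 1, 1⟩)))
 (.node 1
 (.leaf (⟨-4, 2, 4, 2, -1, 0, 0, 0⟩, ⟨1, -1, -1, 0, 0, 0, 0, 0⟩, ⟨-1, 0, 3, 2, -3, 1, -1, -1⟩))
 (.node 1
 (.leaf (⟨-4, 2, 4, 2, -1, 0, 0, 0⟩, ⟨1, -1, -1, 0, -1, 1, 0, 0⟩, ⟨1, 0, -1, 0, 0, 0, 1, 1⟩))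
 (.leaf (⟨-4, 2, 4, 2, -1, 0, 0, 0⟩, ⟨1, -1, -1, 0, -1, 1, 0, 0⟩, ⟨-1, 0, 1, 0, 0, 0, -1, -1⟩)))))))
 (.node 10
 (.node 5
 (.node 2
 (.node 1
 (.leaf (⟨-4, 2, 4, 2, -1, 0, 0, 0⟩, ⟨0, 1, 0, 0, 2, -1, 1, 1⟩, ⟨4, -2, -4, -2, 1, 0, 0, 0⟩))
 (.leaf (⟨-4, 2, 4, 2, -1, 0, 0, 0⟩, ⟨0, 1, 0, 0, 2, -1, 1, 1⟩, ⟨-4, 2, 4, 2, -1, 0, 0, 0⟩)))
 (.node 1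
 (.leaf (⟨-4, 2, 4, 2, -1, 0, 0, 0⟩, ⟨0, 1, 0, 0, 0, 0, -1, 0⟩, ⟨0, 0, 4, 2, -3, 1, -2, -1⟩))
 (.node 1
 (.leaf (⟨-4, 2, 4, 2, -1, 0, 0, 0⟩, ⟨0, 1, 0, 0, 0, 0, -1, 0⟩, ⟨0, 0, -4, -2, 3, -1, 2, 1⟩))
 (.leaf (⟨-4, 2, 4, 2, -1, 0, 0, 0⟩, ⟨0, 1, -4, -2, 5, -2, 1, 1⟩, ⟨0, 0, 0, 0, 2, -1, 0, 0⟩)))))
 (.node 2
 (.node 1
 (.leaf (⟨-4, 2, 4, 2, -1, 0, 0, 0⟩, ⟨0, 1, -4, -2, 5, -2, 1, 1⟩, ⟨0, 0, 0, 0, -2, 1, 0, 0⟩))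
 (.leaf (⟨-4, 2, 4, 2, -1, 0, 0, 0⟩, ⟨0, 1, -4, -2, 3, -1, 3, 2⟩, ⟨0, 0, 0, 0, 0, 0, 2, 1⟩)))
 (.node 1
 (.leaf (⟨-4, 2, 4, 2, -1, 0, 0, 0⟩, ⟨0, 1, -4, -2, 3, -1, 3, 2⟩, ⟨0, 0, 0, 0, 0, 0, -2, -1⟩))
 (.node 1
 (.leaf (⟨-4, 2, 4, 2, -1, 0, 0, 0⟩, ⟨0, 0, 4, 2, -3, 1, -2, -1⟩, ⟨2, -1, 0, 0, 0, 0, -1, 0⟩))
 (.leaf (⟨-4, 2, 4, 2, -1, 0, 0, 0⟩, ⟨0, 0, 4, 2, -3, 1, -2, -1⟩, ⟨2, -1, -2, -2, 0, 0, 1, 0⟩))))))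
 (.node 5
 (.node 2
 (.node 1
 (.leaf (⟨-4, 2, 4, 2, -1, 0, 0, 0⟩, ⟨0, 0, 4, 2, -3, 1, -2, -1⟩, ⟨2, -1, -4, -2, 2, 0, -1, 0⟩))
 (.leaf (⟨-4, 2, 4, 2, -1, 0, 0, 0⟩, ⟨0, 0, 4, 2, -3, 1, -2, -1⟩, ⟨0, 1, 0, 0, 0, 0, -1, 0⟩)))
 (.node 1
 (.leaf (⟨-4, 2, 4, 2, -1, 0, 0, 0⟩, ⟨0, 0, 4, 2, -3, 1, -2, -1⟩, ⟨0, -1, 0, 0, 0, 0, 1, 0⟩))
 (.node 1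
 (.leaf (⟨-4, 2, 4, 2, -1, 0, 0, 0⟩, ⟨0, 0, 4, 2, -3, 1, -2, -1⟩, ⟨-2, 1, 4, 2, -2, 0, 1, 0⟩))
 (.leaf (⟨-4, 2, 4, 2, -1, 0, 0, 0⟩, ⟨0, 0, 4, 2, -3, 1, -2, -1⟩, ⟨-2, 1, 2, 2, 0, 0, -1, 0⟩)))))
 (.node 2
 (.node 1
 (.leaf (⟨-4, 2, 4, 2, -1, 0, 0, 0⟩, ⟨0, 0, 4, 2, -3, 1, -2, -1⟩, ⟨-2, 1, 0, 0, 0, 0, 1, 0⟩))
 (.leaf (⟨-4, 2, 4, 2, -1, 0, 0, 0⟩, ⟨0, 0, 0, 0, 2, -1, 0, 0⟩, ⟨2, -1, 0, 0, -1, 0, -1, -1⟩)))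
 (.node 1
 (.leaf (⟨-4, 2, 4, 2, -1, 0, 0, 0⟩, ⟨0, 0, 0, 0, 2, -1, 0, 0⟩, ⟨2, -1, -2, 0, 1, 0, 1, 1⟩))
 (.node 1
 (.leaf (⟨-4, 2, 4, 2, -1, 0, 0, 0⟩, ⟨0, 0, 0, 0, 2, -1, 0, 0⟩, ⟨2, -1, -4, -2, 1, 0, 1, 1⟩))
 (.leaf (⟨-4, 2, 4, 2, -1, 0, 0, 0⟩, ⟨0, 0, 0, 0, 2, -1, 0, 0⟩, ⟨0, 1, -4, -2, 5, -2, 1, 1⟩)))))))))
 (.node 39
 (.node 19
 (.node 9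
 (.node 4
 (.node 2
 (.node 1
 (.leaf (⟨-4, 2, 4, 2, -1, 0, 0, 0⟩, ⟨0, 0, 0, 0, 2, -1, 0, 0⟩, ⟨0, -1, 4, 2, -5, 2, -1, -1⟩))
 (.leaf (⟨-4, 2, 4, 2, -1, 0, 0, 0⟩, ⟨0, 0, 0, 0, 2, -1, 0, 0⟩, ⟨-2, 1, 4, 2, -1, 0, -1, -1⟩)))
 (.node 1
 (.leaf (⟨-4, 2, 4, 2, -1, 0, 0, 0⟩, ⟨0, 0, 0, 0, 2, -1, 0, 0⟩, ⟨-2, 1, 2, 0, -1, 0, -1, -1⟩))
 (.leaf (⟨-4, 2, 4, 2, -1, 0, 0, 0⟩, ⟨0, 0, 0, 0, 2, -1, 0, 0⟩, ⟨-2, 1, 0, 0, 1, 0, 1, 1⟩))))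
 (.node 2
 (.node 1
 (.leaf (⟨-4, 2, 4, 2, -1, 0, 0, 0⟩, ⟨0, 0, 0, 0, 0, 0, 2, 1⟩, ⟨2, -1, 0, 0, -1, 1, -1, 0⟩))
 (.leaf (⟨-4, 2, 4, 2, -1, 0, 0, 0⟩, ⟨0, 0, 0, 0, 0, 0, 2, 1⟩, ⟨2, -1, -2, 0, -1, 1, -1, 0⟩)))
 (.node 1
 (.leaf (⟨-4, 2, 4, 2, -1, 0, 0, 0⟩, ⟨0, 0, 0, 0, 0, 0, 2, 1⟩, ⟨2, -1, -4, -2, 3, -1, 1, 0⟩))
 (.node 1
 (.leaf (⟨-4, 2, 4, 2, -1, 0, 0, 0⟩, ⟨0, 0, 0, 0, 0, 0, 2, 1⟩, ⟨0, 1, -4, -2, 3, -1, 3, 2⟩))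
 (.leaf (⟨-4, 2, 4, 2, -1, 0, 0, 0⟩, ⟨0, 0, 0, 0, 0, 0, 2, 1⟩, ⟨0, -1, 4, 2, -3, 1, -3, -2⟩))))))
 (.node 5
 (.node 2
 (.node 1
 (.leaf (⟨-4, 2, 4, 2, -1, 0, 0, 0⟩, ⟨0, 0, 0, 0, 0, 0, 2, 1⟩, ⟨-2, 1, 4, 2, -3, 1, -1, 0⟩))
 (.leaf (⟨-4, 2, 4, 2, -1, 0, 0, 0⟩, ⟨0, 0, 0, 0, 0, 0, 2, 1⟩, ⟨-2, 1, 2, 0, 1, -1, 1, 0⟩)))
 (.node 1
 (.leaf (⟨-4, 2, 4, 2, -1, 0, 0, 0⟩, ⟨0, 0, 0, 0, 0, 0, 2, 1⟩, ⟨-2, 1, 0, 0, 1, -1, 1, 0⟩))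
 (.node 1
 (.leaf (⟨-4, 2, 4, 2, -1, 0, 0, 0⟩, ⟨0, 0, 0, 0, 0, 0, -2, -1⟩, ⟨2, -1, 0, 0, -1, 1, -1, 0⟩))
 (.leaf (⟨-4, 2, 4, 2, -1, 0, 0, 0⟩, ⟨0, 0, 0, 0, 0, 0, -2, -1⟩, ⟨2, -1, -2, 0, -1, 1, -1, 0⟩)))))
 (.node 2
 (.node 1
 (.leaf (⟨-4, 2, 4, 2, -1, 0, 0, 0⟩, ⟨0, 0, 0, 0, 0, 0, -2, -1⟩, ⟨2, -1, -4, -2, 3, -1, 1, 0⟩))
 (.leaf (⟨-4, 2, 4, 2, -1, 0, 0, 0⟩, ⟨0, 0, 0, 0, 0, 0, -2, -1⟩, ⟨0, 1, -4, -2, 3, -1, 3, 2⟩)))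
 (.node 1
 (.leaf (⟨-4, 2, 4, 2, -1, 0, 0, 0⟩, ⟨0, 0, 0, 0, 0, 0, -2, -1⟩, ⟨0, -1, 4, 2, -3, 1, -3, -2⟩))
 (.node 1
 (.leaf (⟨-4, 2, 4, 2, -1, 0, 0, 0⟩, ⟨0, 0, 0, 0, 0, 0, -2, -1⟩, ⟨-2, 1, 4, 2, -3, 1, -1, 0⟩))
 (.leaf (⟨-4, 2, 4, 2, -1, 0, 0, 0⟩, ⟨0, 0, 0, 0, 0, 0, -2, -1⟩, ⟨-2, 1, 2, 0, 1, -1, 1, 0⟩)))))))
 (.node 10
 (.node 5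
 (.node 2
 (.node 1
 (.leaf (⟨-4, 2, 4, 2, -1, 0, 0, 0⟩, ⟨0, 0, 0, 0, 0, 0, -2, -1⟩, ⟨-2, 1, 0, 0, 1, -1, 1, 0⟩))
 (.leaf (⟨-4, 2, 4, 2, -1, 0, 0, 0⟩, ⟨0, 0, 0, 0, -2, 1, 0, 0⟩, ⟨2, -1, 0, 0, -1, 0, -1, -1⟩)))
 (.node 1
 (.leaf (⟨-4, 2, 4, 2, -1, 0, 0, 0⟩, ⟨0, 0, 0, 0, -2, 1, 0, 0⟩, ⟨2, -1, -2, 0, 1, 0, 1, 1⟩))
 (.node 1
 (.leaf (⟨-4, 2, 4, 2, -1, 0, 0, 0⟩, ⟨0, 0, 0, 0, -2, 1, 0, 0⟩, ⟨2, -1, -4, -2, 1, 0, 1, 1⟩))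
 (.leaf (⟨-4, 2, 4, 2, -1, 0, 0, 0⟩, ⟨0, 0, 0, 0, -2, 1, 0, 0⟩, ⟨0, 1, -4, -2, 5, -2, 1, 1⟩)))))
 (.node 2
 (.node 1
 (.leaf (⟨-4, 2, 4, 2, -1, 0, 0, 0⟩, ⟨0, 0, 0, 0, -2, 1, 0, 0⟩, ⟨0, -1, 4, 2, -5, 2, -1, -1⟩))
 (.leaf (⟨-4, 2, 4, 2, -1, 0, 0, 0⟩, ⟨0, 0, 0, 0, -2, 1, 0, 0⟩, ⟨-2, 1, 4, 2, -1, 0, -1, -1⟩)))
 (.node 1
 (.leaf (⟨-4, 2, 4, 2, -1, 0, 0, 0⟩, ⟨0, 0, 0, 0, -2, 1, 0, 0⟩, ⟨-2, 1, 2, 0, -1, 0, -1, -1⟩))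
 (.node 1
 (.leaf (⟨-4, 2, 4, 2, -1, 0, 0, 0⟩, ⟨0, 0, 0, 0, -2, 1, 0, 0⟩, ⟨-2, 1, 0, 0, 1, 0, 1, 1⟩))
 (.leaf (⟨-4, 2, 4, 2, -1, 0, 0, 0⟩, ⟨0, 0, -4, -2, 3, -1, 2, 1⟩, ⟨2, -1, 0, 0, 0, 0, -1, 0⟩))))))
 (.node 5
 (.node 2
 (.node 1
 (.leaf (⟨-4, 2, 4, 2, -1, 0, 0, 0⟩, ⟨0, 0, -4, -2, 3, -1, 2, 1⟩, ⟨2, -1, -2, -2, 0, 0, 1, 0⟩))
 (.leaf (⟨-4, 2, 4, 2, -1, 0, 0, 0⟩, ⟨0, 0, -4, -2, 3, -1, 2, 1⟩, ⟨2, -1, -4, -2, 2, 0, -1, 0⟩)))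
 (.node 1
 (.leaf (⟨-4, 2, 4, 2, -1, 0, 0, 0⟩, ⟨0, 0, -4, -2, 3, -1, 2, 1⟩, ⟨0, 1, 0, 0, 0, 0, -1, 0⟩))
 (.node 1
 (.leaf (⟨-4, 2, 4, 2, -1, 0, 0, 0⟩, ⟨0, 0, -4, -2, 3, -1, 2, 1⟩, ⟨0, -1, 0, 0, 0, 0, 1, 0⟩))
 (.leaf (⟨-4, 2, 4, 2, -1, 0, 0, 0⟩, ⟨0, 0, -4, -2, 3, -1, 2, 1⟩, ⟨-2, 1, 4, 2, -2, 0, 1, 0⟩)))))
 (.node 2
 (.node 1
 (.leaf (⟨-4, 2, 4, 2, -1, 0, 0, 0⟩, ⟨0, 0, -4, -2, 3, -1, 2, 1⟩, ⟨-2, 1, 2, 2, 0, 0, -1, 0⟩))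
 (.leaf (⟨-4, 2, 4, 2, -1, 0, 0, 0⟩, ⟨0, 0, -4, -2, 3, -1, 2, 1⟩, ⟨-2, 1, 0, 0, 0, 0, 1, 0⟩)))
 (.node 1
 (.leaf (⟨-4, 2, 4, 2, -1, 0, 0, 0⟩, ⟨0, -1, 4, 2, -3, 1, -3, -2⟩, ⟨0, 0, 0, 0, 0, 0, 2, 1⟩))
 (.node 1
 (.leaf (⟨-4, 2, 4, 2, -1, 0, 0, 0⟩, ⟨0, -1, 4, 2, -3, 1, -3, -2⟩, ⟨0, 0, 0, 0, 0, 0, -2, -1⟩))
 (.leaf (⟨-4, 2, 4, 2, -1, 0, 0, 0⟩, ⟨0, -1, 4, 2, -5, 2, -1, -1⟩, ⟨0, 0, 0, 0, 2, -1, 0, 0⟩))))))))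
 (.node 20
 (.node 10
 (.node 5
 (.node 2
 (.node 1
 (.leaf (⟨-4, 2, 4, 2, -1, 0, 0, 0⟩, ⟨0, -1, 4, 2, -5, 2, -1, -1⟩, ⟨0, 0, 0, 0, -2, 1, 0, 0⟩))
 (.leaf (⟨-4, 2, 4, 2, -1, 0, 0, 0⟩, ⟨0, -1, 0, 0, 0, 0, 1, 0⟩, ⟨0, 0, 4, 2, -3, 1, -2, -1⟩)))
 (.node 1
 (.leaf (⟨-4, 2, 4, 2, -1, 0, 0, 0⟩, ⟨0, -1, 0, 0, 0, 0, 1, 0⟩, ⟨0, 0, -4, -2, 3, -1, 2, 1⟩))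
 (.node 1
 (.leaf (⟨-4, 2, 4, 2, -1, 0, 0, 0⟩, ⟨0, -1, 0, 0, -2, 1, -1, -1⟩, ⟨4, -2, -4, -2, 1, 0, 0, 0⟩))
 (.leaf (⟨-4, 2, 4, 2, -1, 0, 0, 0⟩, ⟨0, -1, 0, 0, -2, 1, -1, -1⟩, ⟨-4, 2, 4, 2, -1, 0, 0, 0⟩)))))
 (.node 2
 (.node 1
 (.leaf (⟨-4, 2, 4, 2, -1, 0, 0, 0⟩, ⟨-1, 1, 1, 0, 1, -1, 0, 0⟩, ⟨1, 0, -1, 0, 0, 0, 1, 1⟩))
 (.leaf (⟨-4, 2, 4, 2, -1, 0, 0, 0⟩, ⟨-1, 1, 1, 0, 1, -1, 0, 0⟩, ⟨-1, 0, 1, 0, 0, 0, -1, -1⟩)))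
 (.node 1
 (.leaf (⟨-4, 2, 4, 2, -1, 0, 0, 0⟩, ⟨-1, 1, 1, 0, 0, 0, 0, 0⟩, ⟨1, 0, -3, -2, 3, -1, 1, 1⟩))
 (.node 1
 (.leaf (⟨-4, 2, 4, 2, -1, 0, 0, 0⟩, ⟨-1, 1, 1, 0, 0, 0, 0, 0⟩, ⟨-1, 0, 3, 2, -3, 1, -1, -1⟩))
 (.leaf (⟨-4, 2, 4, 2, -1, 0, 0, 0⟩, ⟨-1, 1, -1, 0, 2, -1, 2, 1⟩, ⟨1, 0, -1, 0, 1, 0, -1, 0⟩))))))
 (.node 5
 (.node 2
 (.node 1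
 (.leaf (⟨-4, 2, 4, 2, -1, 0, 0, 0⟩, ⟨-1, 1, -1, 0, 2, -1, 2, 1⟩, ⟨-1, 0, 1, 0, -1, 0, 1, 0⟩))
 (.leaf (⟨-4, 2, 4, 2, -1, 0, 0, 0⟩, ⟨-1, 1, -1, 0, 1, 0, 0, 1⟩, ⟨1, 0, -3, -2, 2, -1, 1, 0⟩)))
 (.node 1
 (.leaf (⟨-4, 2, 4, 2, -1, 0, 0, 0⟩, ⟨-1, 1, -1, 0, 1, 0, 0, 1⟩, ⟨-1, 0, 3, 2, -2, 1, -1, 0⟩))
 (.node 1
 (.leaf (⟨-4, 2, 4, 2, -1, 0, 0, 0⟩, ⟨-1, 0, 3, 2, -2, 1, -1, 0⟩, ⟨1, -1, 1, 0, -1, 0, 0, -1⟩))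
 (.leaf (⟨-4, 2, 4, 2, -1, 0, 0, 0⟩, ⟨-1, 0, 3, 2, -2, 1, -1, 0⟩, ⟨-1, 1, -1, 0, 1, 0, 0, 1⟩)))))
 (.node 2
 (.node 1
 (.leaf (⟨-4, 2, 4, 2, -1, 0, 0, 0⟩, ⟨-1, 0, 3, 2, -3, 1, -1, -1⟩, ⟨1, -1, -1, 0, 0, 0, 0, 0⟩))
 (.leaf (⟨-4, 2, 4, 2, -1, 0, 0, 0⟩, ⟨-1, 0, 3, 2, -3, 1, -1, -1⟩, ⟨-1, 1, 1, 0, 0, 0, 0, 0⟩)))
 (.node 1
 (.leaf (⟨-4, 2, 4, 2, -1, 0, 0, 0⟩, ⟨-1, 0, 1, 0, 0, 0, -1, -1⟩, ⟨1, -1, -1, 0, -1, 1, 0, 0⟩))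
 (.node 1
 (.leaf (⟨-4, 2, 4, 2, -1, 0, 0, 0⟩, ⟨-1, 0, 1, 0, 0, 0, -1, -1⟩, ⟨-1, 1, 1, 0, 1, -1, 0, 0⟩))
 (.leaf (⟨-4, 2, 4, 2, -1, 0, 0, 0⟩, ⟨-1, 0, 1, 0, -1, 0, 1, 0⟩, ⟨1, -1, 1, 0, -2, 1, -2, -1⟩)))))))
 (.node 10
 (.node 5
 (.node 2
 (.node 1
 (.leaf (⟨-4, 2, 4, 2, -1, 0, 0, 0⟩, ⟨-1, 0, 1, 0, -1, 0, 1, 0⟩, ⟨-1, 1, -1, 0, 2, -1, 2, 1⟩))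
 (.leaf (⟨-4, 2, 4, 2, -1, 0, 0, 0⟩, ⟨-2, 1, 4, 2, -1, 0, -1, -1⟩, ⟨0, 0, 0, 0, 2, -1, 0, 0⟩)))
 (.node 1
 (.leaf (⟨-4, 2, 4, 2, -1, 0, 0, 0⟩, ⟨-2, 1, 4, 2, -1, 0, -1, -1⟩, ⟨0, 0, 0, 0, -2, 1, 0, 0⟩))
 (.node 1
 (.leaf (⟨-4, 2, 4, 2, -1, 0, 0, 0⟩, ⟨-2, 1, 4, 2, -2, 1, -3, -1⟩, ⟨4, -2, -4, -2, 1, 0, 0, 0⟩))
 (.leaf (⟨-4, 2, 4, 2, -1, 0, 0, 0⟩, ⟨-2, 1, 4, 2, -2, 1, -3, -1⟩, ⟨-4, 2, 4, 2, -1, 0, 0, 0⟩)))))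
 (.node 2
 (.node 1
 (.leaf (⟨-4, 2, 4, 2, -1, 0, 0, 0⟩, ⟨-2, 1, 4, 2, -2, 0, 1, 0⟩, ⟨0, 0, 4, 2, -3, 1, -2, -1⟩))
 (.leaf (⟨-4, 2, 4, 2, -1, 0, 0, 0⟩, ⟨-2, 1, 4, 2, -2, 0, 1, 0⟩, ⟨0, 0, -4, -2, 3, -1, 2, 1⟩)))
 (.node 1
 (.leaf (⟨-4, 2, 4, 2, -1, 0, 0, 0⟩, ⟨-2, 1, 4, 2, -3, 1, -1, 0⟩, ⟨0, 0, 0, 0, 0, 0, 2, 1⟩))
 (.node 1
 (.leaf (⟨-4, 2, 4, 2, -1, 0, 0, 0⟩, ⟨-2, 1, 4, 2, -3, 1, -1, 0⟩, ⟨0, 0, 0, 0, 0, 0, -2, -1⟩))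
 (.leaf (⟨-4, 2, 4, 2, -1, 0, 0, 0⟩, ⟨-2, 1, 2, 2, 0, 0, -1, 0⟩, ⟨0, 0, 4, 2, -3, 1, -2, -1⟩))))))
 (.node 5
 (.node 2
 (.node 1
 (.leaf (⟨-4, 2, 4, 2, -1, 0, 0, 0⟩, ⟨-2, 1, 2, 2, 0, 0, -1, 0⟩, ⟨0, 0, -4, -2, 3, -1, 2, 1⟩))
 (.leaf (⟨-4, 2, 4, 2, -1, 0, 0, 0⟩, ⟨-2, 1, 2, 2, -2, 1, 1, 1⟩, ⟨4, -2, -4, -2, 1, 0, 0, 0⟩)))
 (.node 1
 (.leaf (⟨-4, 2, 4, 2, -1, 0, 0, 0⟩, ⟨-2, 1, 2, 2, -2, 1, 1, 1⟩, ⟨-4, 2, 4, 2, -1, 0, 0, 0⟩))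
 (.node 1
 (.leaf (⟨-4, 2, 4, 2, -1, 0, 0, 0⟩, ⟨-2, 1, 2, 0, 1, -1, 1, 0⟩, ⟨0, 0, 0, 0, 0, 0, 2, 1⟩))
 (.leaf (⟨-4, 2, 4, 2, -1, 0, 0, 0⟩, ⟨-2, 1, 2, 0, 1, -1, 1, 0⟩, ⟨0, 0, 0, 0, 0, 0, -2, -1⟩)))))
 (.node 2
 (.node 1
 (.leaf (⟨-4, 2, 4, 2, -1, 0, 0, 0⟩, ⟨-2, 1, 2, 0, -1, 0, -1, -1⟩, ⟨0, 0, 0, 0, 2, -1, 0, 0⟩))
 (.leaf (⟨-4, 2, 4, 2, -1, 0, 0, 0⟩, ⟨-2, 1, 2, 0, -1, 0, -1, -1⟩, ⟨0, 0, 0, 0, -2, 1, 0, 0⟩)))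
 (.node 1
 (.leaf (⟨-4, 2, 4, 2, -1, 0, 0, 0⟩, ⟨-2, 1, 0, 0, 2, -1, 1, 1⟩, ⟨4, -2, -4, -2, 1, 0, 0, 0⟩))
 (.node 1
 (.leaf (⟨-4, 2, 4, 2, -1, 0, 0, 0⟩, ⟨-2, 1, 0, 0, 2, -1, 1, 1⟩, ⟨-4, 2, 4, 2, -1, 0, 0, 0⟩))
 (.leaf (⟨-4, 2, 4, 2, -1, 0, 0, 0⟩, ⟨-2, 1, 0, 0, 1, 0, 1, 1⟩, ⟨0, 0, 0, 0, 2, -1, 0, 0⟩))))))))))
 (.node 79
 (.node 39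
 (.node 19
 (.node 9
 (.node 4
 (.node 2
 (.node 1
 (.leaf (⟨-4, 2, 4, 2, -1, 0, 0, 0⟩, ⟨-2, 1, 0, 0, 1, 0, 1, 1⟩, ⟨0, 0, 0, 0, -2, 1, 0, 0⟩))
 (.leaf (⟨-4, 2, 4, 2, -1, 0, 0, 0⟩, ⟨-2, 1, 0, 0, 1, -1, 1, 0⟩, ⟨0, 0, 0, 0, 0, 0, 2, 1⟩)))
 (.node 1
 (.leaf (⟨-4, 2, 4, 2, -1, 0, 0, 0⟩, ⟨-2, 1, 0, 0, 1, -1, 1, 0⟩, ⟨0, 0, 0, 0, 0, 0, -2, -1⟩))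
 (.leaf (⟨-4, 2, 4, 2, -1, 0, 0, 0⟩, ⟨-2, 1, 0, 0, 0, 0, 1, 0⟩, ⟨0, 0, 4, 2, -3, 1, -2, -1⟩))))
 (.node 2
 (.node 1
 (.leaf (⟨-4, 2, 4, 2, -1, 0, 0, 0⟩, ⟨-2, 1, 0, 0, 0, 0, 1, 0⟩, ⟨0, 0, -4, -2, 3, -1, 2, 1⟩))
 (.leaf (⟨-4, 2, 4, 2, -1, 0, 0, 0⟩, ⟨-4, 2, 4, 2, -1, 0, 0, 0⟩, ⟨2, -1, 0, 0, -2, 1, -1, -1⟩)))
 (.node 1
 (.leaf (⟨-4, 2, 4, 2, -1, 0, 0, 0⟩, ⟨-4, 2, 4, 2, -1, 0, 0, 0⟩, ⟨2, -1, -2, -2, 2, -1, -1, -1⟩))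
 (.node 1
 (.leaf (⟨-4, 2, 4, 2, -1, 0, 0, 0⟩, ⟨-4, 2, 4, 2, -1, 0, 0, 0⟩, ⟨2, -1, -4, -2, 2, -1, 3, 1⟩))
 (.leaf (⟨-4, 2, 4, 2, -1, 0, 0, 0⟩, ⟨-4, 2, 4, 2, -1, 0, 0, 0⟩, ⟨0, 1, 0, 0, 2, -1, 1, 1⟩))))))
 (.node 5
 (.node 2
 (.node 1
 (.leaf (⟨-4, 2, 4, 2, -1, 0, 0, 0⟩, ⟨-4, 2, 4, 2, -1, 0, 0, 0⟩, ⟨0, -1, 0, 0, -2, 1, -1, -1⟩))
 (.leaf (⟨-4, 2, 4, 2, -1, 0, 0, 0⟩, ⟨-4, 2, 4, 2, -1, 0, 0, 0⟩, ⟨-2, 1, 4, 2, -2, 1, -3, -1⟩)))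
 (.node 1
 (.leaf (⟨-4, 2, 4, 2, -1, 0, 0, 0⟩, ⟨-4, 2, 4, 2, -1, 0, 0, 0⟩, ⟨-2, 1, 2, 2, -2, 1, 1, 1⟩))
 (.node 1
 (.leaf (⟨-4, 2, 4, 2, -1, 0, 0, 0⟩, ⟨-4, 2, 4, 2, -1, 0, 0, 0⟩, ⟨-2, 1, 0, 0, 2, -1, 1, 1⟩))
 (.leaf (⟨-3, 2, 0, 0, 2, -1, 1, 1⟩, ⟨0, 0, 3, 2, -3, 1, 0, 0⟩, ⟨1, -1, 0, 0, -2, 1, 0, 0⟩)))))
 (.node 2
 (.node 1
 (.leaf (⟨-3, 2, 0, 0, 2, -1, 1, 1⟩, ⟨0, 0, 3, 2, -3, 1, 0, 0⟩, ⟨-1, 1, 0, 0, 2, -1, 0, 0⟩))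
 (.leaf (⟨-3, 2, 0, 0, 2, -1, 1, 1⟩, ⟨-1, 0, 4, 2, -3, 1, -3, -2⟩, ⟨2, -1, -3, -2, 2, -1, 1, 0⟩)))
 (.node 1
 (.leaf (⟨-3, 2, 0, 0, 2, -1, 1, 1⟩, ⟨-1, 0, 4, 2, -3, 1, -3, -2⟩, ⟨-2, 1, 3, 2, -2, 1, -1, 0⟩))
 (.node 1
 (.leaf (⟨-3, 2, 0, 0, 2, -1, 1, 1⟩, ⟨2, -1, -1, 0, 1, 0, -1, 0⟩, ⟨-1, 0, 0, 0, 0, 0, 1, 0⟩))
 (.leaf (⟨-3, 2, 0, 0, 2, -1, 1, 1⟩, ⟨2, -1, -1, 0, 1, 0, -1, 0⟩, ⟨1, 0, 0, 0, 0, 0, -1, 0⟩)))))))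
 (.node 10
 (.node 5
 (.node 2
 (.node 1
 (.leaf (⟨-3, 2, 0, 0, 2, -1, 1, 1⟩, ⟨3, -1, -4, -2, 1, 0, 0, 0⟩, ⟨0, 0, 1, 0, 0, 0, 0, 0⟩))
 (.leaf (⟨-3, 2, 0, 0, 2, -1, 1, 1⟩, ⟨3, -1, -4, -2, 1, 0, 0, 0⟩, ⟨0, 0, -1, 0, 0, 0, 0, 0⟩)))
 (.node 1
 (.leaf (⟨-3, 2, 0, 0, 2, -1, 1, 1⟩, ⟨2, -1, -3, -2, 2, -1, 1, 0⟩, ⟨-1, 0, 4, 2, -3, 1, -3, -2⟩))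
 (.node 1
 (.leaf (⟨-3, 2, 0, 0, 2, -1, 1, 1⟩, ⟨2, -1, -3, -2, 2, -1, 1, 0⟩, ⟨1, 0, -4, -2, 3, -1, 3, 2⟩))
 (.leaf (⟨-3, 2, 0, 0, 2, -1, 1, 1⟩, ⟨0, 0, 1, 0, 0, 0, 0, 0⟩, ⟨3, -1, -4, -2, 1, 0, 0, 0⟩)))))
 (.node 2
 (.node 1
 (.leaf (⟨-3, 2, 0, 0, 2, -1, 1, 1⟩, ⟨0, 0, 1, 0, 0, 0, 0, 0⟩, ⟨-3, 1, 4, 2, -1, 0, 0, 0⟩))
 (.leaf (⟨-3, 2, 0, 0, 2, -1, 1, 1⟩, ⟨-1, 0, 0, 0, 0, 0, 1, 0⟩, ⟨2, -1, -1, 0, 1, 0, -1, 0⟩)))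
 (.node 1
 (.leaf (⟨-3, 2, 0, 0, 2, -1, 1, 1⟩, ⟨-1, 0, 0, 0, 0, 0, 1, 0⟩, ⟨-2, 1, 1, 0, -1, 0, 1, 0⟩))
 (.node 1
 (.leaf (⟨-3, 2, 0, 0, 2, -1, 1, 1⟩, ⟨1, -1, 0, 0, -2, 1, 0, 0⟩, ⟨0, 0, 3, 2, -3, 1, 0, 0⟩))
 (.leaf (⟨-3, 2, 0, 0, 2, -1, 1, 1⟩, ⟨1, -1, 0, 0, -2, 1, 0, 0⟩, ⟨0, 0, -3, -2, 3, -1, 0, 0⟩))))))
 (.node 5
 (.node 2
 (.node 1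
 (.leaf (⟨-3, 2, 0, 0, 2, -1, 1, 1⟩, ⟨-1, 1, 0, 0, 2, -1, 0, 0⟩, ⟨0, 0, 3, 2, -3, 1, 0, 0⟩))
 (.leaf (⟨-3, 2, 0, 0, 2, -1, 1, 1⟩, ⟨-1, 1, 0, 0, 2, -1, 0, 0⟩, ⟨0, 0, -3, -2, 3, -1, 0, 0⟩)))
 (.node 1
 (.leaf (⟨-3, 2, 0, 0, 2, -1, 1, 1⟩, ⟨1, 0, 0, 0, 0, 0, -1, 0⟩, ⟨2, -1, -1, 0, 1, 0, -1, 0⟩))
 (.node 1
 (.leaf (⟨-3, 2, 0, 0, 2, -1, 1, 1⟩, ⟨1, 0, 0, 0, 0, 0, -1, 0⟩, ⟨-2, 1, 1, 0, -1, 0, 1, 0⟩))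
 (.leaf (⟨-3, 2, 0, 0, 2, -1, 1, 1⟩, ⟨0, 0, -1, 0, 0, 0, 0, 0⟩, ⟨3, -1, -4, -2, 1, 0, 0, 0⟩)))))
 (.node 2
 (.node 1
 (.leaf (⟨-3, 2, 0, 0, 2, -1, 1, 1⟩, ⟨0, 0, -1, 0, 0, 0, 0, 0⟩, ⟨-3, 1, 4, 2, -1, 0, 0, 0⟩))
 (.leaf (⟨-3, 2, 0, 0, 2, -1, 1, 1⟩, ⟨-2, 1, 3, 2, -2, 1, -1, 0⟩, ⟨-1, 0, 4, 2, -3, 1, -3, -2⟩)))
 (.node 1
 (.leaf (⟨-3, 2, 0, 0, 2, -1, 1, 1⟩, ⟨-2, 1, 3, 2, -2, 1, -1, 0⟩, ⟨1, 0, -4, -2, 3, -1, 3, 2⟩))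
 (.node 1
 (.leaf (⟨-3, 2, 0, 0, 2, -1, 1, 1⟩, ⟨-3, 1, 4, 2, -1, 0, 0, 0⟩, ⟨0, 0, 1, 0, 0, 0, 0, 0⟩))
 (.leaf (⟨-3, 2, 0, 0, 2, -1, 1, 1⟩, ⟨-3, 1, 4, 2, -1, 0, 0, 0⟩, ⟨0, 0, -1, 0, 0, 0, 0, 0⟩))))))))
 (.node 20
 (.node 10
 (.node 5
 (.node 2
 (.node 1
 (.leaf (⟨-3, 2, 0, 0, 2, -1, 1, 1⟩, ⟨-2, 1, 1, 0, -1, 0, 1, 0⟩, ⟨-1, 0, 0, 0, 0, 0, 1, 0⟩))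
 (.leaf (⟨-3, 2, 0, 0, 2, -1, 1, 1⟩, ⟨-2, 1, 1, 0, -1, 0, 1, 0⟩, ⟨1, 0, 0, 0, 0, 0, -1, 0⟩)))
 (.node 1
 (.leaf (⟨-3, 2, 0, 0, 2, -1, 1, 1⟩, ⟨1, 0, -4, -2, 3, -1, 3, 2⟩, ⟨2, -1, -3, -2, 2, -1, 1, 0⟩))
 (.node 1
 (.leaf (⟨-3, 2, 0, 0, 2, -1, 1, 1⟩, ⟨1, 0, -4, -2, 3, -1, 3, 2⟩, ⟨-2, 1, 3, 2, -2, 1, -1, 0⟩))
 (.leaf (⟨-3, 2, 0, 0, 2, -1, 1, 1⟩, ⟨0, 0, -3, -2, 3, -1, 0, 0⟩, ⟨1, -1, 0, 0, -2, 1, 0, 0⟩)))))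
 (.node 2
 (.node 1
 (.leaf (⟨-3, 2, 0, 0, 2, -1, 1, 1⟩, ⟨0, 0, -3, -2, 3, -1, 0, 0⟩, ⟨-1, 1, 0, 0, 2, -1, 0, 0⟩))
 (.leaf (⟨-3, 1, 2, 1, -1, 0, 1, 0⟩, ⟨0, 0, 3, 1, -1, 0, -1, -1⟩, ⟨2, -1, -3, -1, 1, 0, 0, 0⟩)))
 (.node 1
 (.leaf (⟨-3, 1, 2, 1, -1, 0, 1, 0⟩, ⟨0, 0, 3, 1, -1, 0, -1, -1⟩, ⟨-2, 1, 3, 1, -1, 0, 0, 0⟩))
 (.node 1
 (.leaf (⟨-3, 1, 2, 1, -1, 0, 1, 0⟩, ⟨-1, 1, 2, 1, -2, 1, -1, 0⟩, ⟨1, 0, -2, -1, 2, -1, 2, 1⟩))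
 (.leaf (⟨-3, 1, 2, 1, -1, 0, 1, 0⟩, ⟨-1, 1, 2, 1, -2, 1, -1, 0⟩, ⟨-1, 0, 2, 1, -2, 1, -2, -1⟩))))))
 (.node 5
 (.node 2
 (.node 1
 (.leaf (⟨-3, 1, 2, 1, -1, 0, 1, 0⟩, ⟨3, -2, -2, -1, -1, 1, 0, 0⟩, ⟨-1, 1, -2, -1, 3, -1, 1, 1⟩))
 (.leaf (⟨-3, 1, 2, 1, -1, 0, 1, 0⟩, ⟨3, -2, -2, -1, -1, 1, 0, 0⟩, ⟨1, -1, 2, 1, -3, 1, -1, -1⟩)))
 (.node 1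
 (.leaf (⟨-3, 1, 2, 1, -1, 0, 1, 0⟩, ⟨2, -1, -1, -1, 0, 0, -2, -1⟩, ⟨0, 0, 1, 1, 0, 0, -1, 0⟩))
 (.node 1
 (.leaf (⟨-3, 1, 2, 1, -1, 0, 1, 0⟩, ⟨2, -1, -1, -1, 0, 0, -2, -1⟩, ⟨0, 0, -1, -1, 0, 0, 1, 0⟩))
 (.leaf (⟨-3, 1, 2, 1, -1, 0, 1, 0⟩, ⟨0, 0, 1, 1, 0, 0, -1, 0⟩, ⟨2, -1, -1, -1, 0, 0, -2, -1⟩)))))
 (.node 2
 (.node 1
 (.leaf (⟨-3, 1, 2, 1, -1, 0, 1, 0⟩, ⟨0, 0, 1, 1, 0, 0, -1, 0⟩, ⟨-2, 1, 1, 1, 0, 0, 2, 1⟩))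
 (.leaf (⟨-3, 1, 2, 1, -1, 0, 1, 0⟩, ⟨2, -1, -3, -1, 1, 0, 0, 0⟩, ⟨0, 0, 3, 1, -1, 0, -1, -1⟩)))
 (.node 1
 (.leaf (⟨-3, 1, 2, 1, -1, 0, 1, 0⟩, ⟨2, -1, -3, -1, 1, 0, 0, 0⟩, ⟨0, 0, -3, -1, 1, 0, 1, 1⟩))
 (.node 1
 (.leaf (⟨-3, 1, 2, 1, -1, 0, 1, 0⟩, ⟨-1, 1, -2, -1, 3, -1, 1, 1⟩, ⟨3, -2, -2, -1, -1, 1, 0, 0⟩))
 (.leaf (⟨-3, 1, 2, 1, -1, 0, 1, 0⟩, ⟨-1, 1, -2, -1, 3, -1, 1, 1⟩, ⟨-3, 2, 2, 1, 1, -1, 0, 0⟩)))))))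
 (.node 10
 (.node 5
 (.node 2
 (.node 1
 (.leaf (⟨-3, 1, 2, 1, -1, 0, 1, 0⟩, ⟨1, 0, -2, -1, 2, -1, 2, 1⟩, ⟨-1, 1, 2, 1, -2, 1, -1, 0⟩))
 (.leaf (⟨-3, 1, 2, 1, -1, 0, 1, 0⟩, ⟨1, 0, -2, -1, 2, -1, 2, 1⟩, ⟨1, -1, -2, -1, 2, -1, 1, 0⟩)))
 (.node 1
 (.leaf (⟨-3, 1, 2, 1, -1, 0, 1, 0⟩, ⟨-1, 0, 2, 1, -2, 1, -2, -1⟩, ⟨-1, 1, 2, 1, -2, 1, -1, 0⟩))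
 (.node 1
 (.leaf (⟨-3, 1, 2, 1, -1, 0, 1, 0⟩, ⟨-1, 0, 2, 1, -2, 1, -2, -1⟩, ⟨1, -1, -2, -1, 2, -1, 1, 0⟩))
 (.leaf (⟨-3, 1, 2, 1, -1, 0, 1, 0⟩, ⟨1, -1, 2, 1, -3, 1, -1, -1⟩, ⟨3, -2, -2, -1, -1, 1, 0, 0⟩)))))
 (.node 2
 (.node 1
 (.leaf (⟨-3, 1, 2, 1, -1, 0, 1, 0⟩, ⟨1, -1, 2, 1, -3, 1, -1, -1⟩, ⟨-3, 2, 2, 1, 1, -1, 0, 0⟩))
 (.leaf (⟨-3, 1, 2, 1, -1, 0, 1, 0⟩, ⟨-2, 1, 3, 1, -1, 0, 0, 0⟩, ⟨0, 0, 3, 1, -1, 0, -1, -1⟩)))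
 (.node 1
 (.leaf (⟨-3, 1, 2, 1, -1, 0, 1, 0⟩, ⟨-2, 1, 3, 1, -1, 0, 0, 0⟩, ⟨0, 0, -3, -1, 1, 0, 1, 1⟩))
 (.node 1
 (.leaf (⟨-3, 1, 2, 1, -1, 0, 1, 0⟩, ⟨0, 0, -1, -1, 0, 0, 1, 0⟩, ⟨2, -1, -1, -1, 0, 0, -2, -1⟩))
 (.leaf (⟨-3, 1, 2, 1, -1, 0, 1, 0⟩, ⟨0, 0, -1, -1, 0, 0, 1, 0⟩, ⟨-2, 1, 1, 1, 0, 0, 2, 1⟩))))))
 (.node 5
 (.node 2
 (.node 1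
 (.leaf (⟨-3, 1, 2, 1, -1, 0, 1, 0⟩, ⟨-2, 1, 1, 1, 0, 0, 2, 1⟩, ⟨0, 0, 1, 1, 0, 0, -1, 0⟩))
 (.leaf (⟨-3, 1, 2, 1, -1, 0, 1, 0⟩, ⟨-2, 1, 1, 1, 0, 0, 2, 1⟩, ⟨0, 0, -1, -1, 0, 0, 1, 0⟩)))
 (.node 1
 (.leaf (⟨-3, 1, 2, 1, -1, 0, 1, 0⟩, ⟨-3, 2, 2, 1, 1, -1, 0, 0⟩, ⟨-1, 1, -2, -1, 3, -1, 1, 1⟩))
 (.node 1
 (.leaf (⟨-3, 1, 2, 1, -1, 0, 1, 0⟩, ⟨-3, 2, 2, 1, 1, -1, 0, 0⟩, ⟨1, -1, 2, 1, -3, 1, -1, -1⟩))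
 (.leaf (⟨-3, 1, 2, 1, -1, 0, 1, 0⟩, ⟨1, -1, -2, -1, 2, -1, 1, 0⟩, ⟨1, 0, -2, -1, 2, -1, 2, 1⟩)))))
 (.node 2
 (.node 1
 (.leaf (⟨-3, 1, 2, 1, -1, 0, 1, 0⟩, ⟨1, -1, -2, -1, 2, -1, 1, 0⟩, ⟨-1, 0, 2, 1, -2, 1, -2, -1⟩))
 (.leaf (⟨-3, 1, 2, 1, -1, 0, 1, 0⟩, ⟨0, 0, -3, -1, 1, 0, 1, 1⟩, ⟨2, -1, -3, -1, 1, 0, 0, 0⟩)))
 (.node 1
 (.leaf (⟨-3, 1, 2, 1, -1, 0, 1, 0⟩, ⟨0, 0, -3, -1, 1, 0, 1, 1⟩, ⟨-2, 1, 3, 1, -1, 0, 0, 0⟩))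
 (.node 1
 (.leaf (⟨-4, 2, 0, 0, 2, -1, 2, 1⟩, ⟨4, -2, 0, 0, -2, 1, -2, -1⟩, ⟨0, 0, 0, 0, 0, 0, 0, 0⟩))
 (.leaf (⟨-4, 2, 2, 1, 1, -1, 1, 0⟩, ⟨2, -1, -2, -1, 1, 0, 0, 0⟩, ⟨1, 0, -1, -1, 0, 0, 0, 0⟩)))))))))
 (.node 39
 (.node 19
 (.node 9
 (.node 4
 (.node 2
 (.node 1
 (.leaf (⟨-4, 2, 2, 1, 1, -1, 1, 0⟩, ⟨2, -1, -2, -1, 1, 0, 0, 0⟩, ⟨-1, 0, 1, 1, 0, 0, 0, 0⟩))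
 (.leaf (⟨-4, 2, 2, 1, 0, 0, 0, 0⟩, ⟨2, -1, -2, -1, 1, 0, -1, 0⟩, ⟨2, -1, -2, -1, 1, 0, -1, 0⟩)))
 (.node 1
 (.leaf (⟨-4, 2, 2, 1, 0, 0, 0, 0⟩, ⟨2, -1, -2, -1, 1, 0, -1, 0⟩, ⟨-2, 1, 2, 1, -1, 0, 1, 0⟩))
 (.leaf (⟨-4, 2, 2, 1, 1, -1, 2, 1⟩, ⟨2, -1, -2, -1, 0, 0, 1, 0⟩, ⟨0, 0, -2, -1, 1, 0, 0, 0⟩))))
 (.node 2
 (.node 1
 (.leaf (⟨-4, 2, 2, 1, 1, -1, 2, 1⟩, ⟨2, -1, -2, -1, 0, 0, 1, 0⟩, ⟨0, 0, 2, 1, -1, 0, 0, 0⟩))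
 (.leaf (⟨-4, 2, 2, 1, 0, 0, 1, 1⟩, ⟨2, -1, -2, -1, 0, 0, 0, 0⟩, ⟨-1, 1, 1, 1, 0, 0, -1, 0⟩)))
 (.node 1
 (.leaf (⟨-4, 2, 2, 1, 0, 0, 1, 1⟩, ⟨2, -1, -2, -1, 0, 0, 0, 0⟩, ⟨1, -1, -1, -1, 0, 0, 1, 0⟩))
 (.node 1
 (.leaf (⟨-4, 2, 2, 1, 1, -1, 2, 1⟩, ⟨1, -1, 1, 1, -2, 1, -2, -1⟩, ⟨1, 0, -3, -1, 3, -1, 1, 1⟩))
 (.leaf (⟨-4, 2, 2, 1, 1, -1, 2, 1⟩, ⟨1, -1, 1, 1, -2, 1, -2, -1⟩, ⟨-1, 0, 3, 1, -3, 1, -1, -1⟩))))))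
 (.node 5
 (.node 2
 (.node 1
 (.leaf (⟨-4, 2, 2, 1, 0, 0, 0, 0⟩, ⟨1, -1, 1, 1, -2, 1, 0, 0⟩, ⟨1, -1, 1, 1, -2, 1, 0, 0⟩))
 (.leaf (⟨-4, 2, 2, 1, 0, 0, 0, 0⟩, ⟨1, -1, 1, 1, -2, 1, 0, 0⟩, ⟨-1, 1, -1, -1, 2, -1, 0, 0⟩)))
 (.node 1
 (.leaf (⟨-4, 2, 2, 1, 0, 0, 1, 1⟩, ⟨1, 0, -1, -1, 2, -1, 0, 0⟩, ⟨0, 0, -2, -1, 2, -1, 1, 0⟩))
 (.node 1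
 (.leaf (⟨-4, 2, 2, 1, 0, 0, 1, 1⟩, ⟨1, 0, -1, -1, 2, -1, 0, 0⟩, ⟨0, 0, 2, 1, -2, 1, -1, 0⟩))
 (.leaf (⟨-4, 2, 2, 1, 1, -1, 1, 0⟩, ⟨1, 0, -1, -1, 0, 0, 0, 0⟩, ⟨2, -1, -2, -1, 1, 0, 0, 0⟩)))))
 (.node 2
 (.node 1
 (.leaf (⟨-4, 2, 2, 1, 1, -1, 1, 0⟩, ⟨1, 0, -1, -1, 0, 0, 0, 0⟩, ⟨-2, 1, 2, 1, -1, 0, 0, 0⟩))
 (.leaf (⟨-4, 2, 2, 1, 0, 0, 0, 0⟩, ⟨0, 0, -2, -1, 2, -1, 2, 1⟩, ⟨0, 0, -2, -1, 2, -1, 2, 1⟩)))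
 (.node 1
 (.leaf (⟨-4, 2, 2, 1, 0, 0, 0, 0⟩, ⟨0, 0, -2, -1, 2, -1, 2, 1⟩, ⟨0, 0, 2, 1, -2, 1, -2, -1⟩))
 (.node 1
 (.leaf (⟨-4, 2, 2, 1, 1, -1, 1, 0⟩, ⟨0, 0, -2, -1, 1, 0, 1, 1⟩, ⟨-1, 1, 1, 1, 0, 0, 1, 1⟩))
 (.leaf (⟨-4, 2, 2, 1, 1, -1, 1, 0⟩, ⟨0, 0, -2, -1, 1, 0, 1, 1⟩, ⟨1, -1, -1, -1, 0, 0, -1, -1⟩)))))))
 (.node 10
 (.node 5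
 (.node 2
 (.node 1
 (.leaf (⟨-4, 2, 2, 1, 0, 0, 1, 1⟩, ⟨0, 0, -2, -1, 2, -1, 1, 0⟩, ⟨1, 0, -1, -1, 2, -1, 0, 0⟩))
 (.leaf (⟨-4, 2, 2, 1, 0, 0, 1, 1⟩, ⟨0, 0, -2, -1, 2, -1, 1, 0⟩, ⟨-1, 0, 1, 1, -2, 1, 0, 0⟩)))
 (.node 1
 (.leaf (⟨-4, 2, 2, 1, 1, -1, 2, 1⟩, ⟨0, 0, -2, -1, 1, 0, 0, 0⟩, ⟨2, -1, -2, -1, 0, 0, 1, 0⟩))
 (.node 1
 (.leaf (⟨-4, 2, 2, 1, 1, -1, 2, 1⟩, ⟨0, 0, -2, -1, 1, 0, 0, 0⟩, ⟨-2, 1, 2, 1, 0, 0, -1, 0⟩))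
 (.leaf (⟨-4, 2, 2, 1, 0, 0, 1, 1⟩, ⟨-1, 1, 1, 1, 0, 0, -1, 0⟩, ⟨2, -1, -2, -1, 0, 0, 0, 0⟩)))))
 (.node 2
 (.node 1
 (.leaf (⟨-4, 2, 2, 1, 0, 0, 1, 1⟩, ⟨-1, 1, 1, 1, 0, 0, -1, 0⟩, ⟨-2, 1, 2, 1, 0, 0, 0, 0⟩))
 (.leaf (⟨-4, 2, 2, 1, 1, -1, 1, 0⟩, ⟨-1, 1, 1, 1, 0, 0, 1, 1⟩, ⟨0, 0, -2, -1, 1, 0, 1, 1⟩)))
 (.node 1
 (.leaf (⟨-4, 2, 2, 1, 1, -1, 1, 0⟩, ⟨-1, 1, 1, 1, 0, 0, 1, 1⟩, ⟨0, 0, 2, 1, -1, 0, -1, -1⟩))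
 (.node 1
 (.leaf (⟨-4, 2, 2, 1, 1, -1, 2, 1⟩, ⟨1, 0, -3, -1, 3, -1, 1, 1⟩, ⟨1, -1, 1, 1, -2, 1, -2, -1⟩))
 (.leaf (⟨-4, 2, 2, 1, 1, -1, 2, 1⟩, ⟨1, 0, -3, -1, 3, -1, 1, 1⟩, ⟨-1, 1, -1, -1, 2, -1, 2, 1⟩))))))
 (.node 5
 (.node 2
 (.node 1
 (.leaf (⟨-4, 2, 2, 1, 0, 0, 0, 0⟩, ⟨1, 0, -3, -1, 1, 0, 1, 1⟩, ⟨1, 0, -3, -1, 1, 0, 1, 1⟩))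
 (.leaf (⟨-4, 2, 2, 1, 0, 0, 0, 0⟩, ⟨1, 0, -3, -1, 1, 0, 1, 1⟩, ⟨-1, 0, 3, 1, -1, 0, -1, -1⟩)))
 (.node 1
 (.leaf (⟨-4, 2, 0, 0, 2, -1, 2, 1⟩, ⟨-4, 2, 8, 4, -4, 1, -2, -1⟩, ⟨0, 0, 0, 0, 0, 0, 0, 0⟩))
 (.node 1
 (.leaf (⟨-4, 2, 0, 0, 2, -1, 2, 1⟩, ⟨0, 0, 0, 0, 2, -1, 2, 1⟩, ⟨0, 0, 0, 0, 0, 0, 0, 0⟩))
 (.leaf (⟨-4, 2, 0, 0, 2, -1, 2, 1⟩, ⟨0, 0, 0, 0, -2, 1, 2, 1⟩, ⟨0, 0, 0, 0, 0, 0, 0, 0⟩)))))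
 (.node 2
 (.node 1
 (.leaf (⟨-4, 2, 0, 0, 2, -1, 2, 1⟩, ⟨0, 0, 0, 0, 0, 0, 0, 0⟩, ⟨4, -2, 0, 0, -2, 1, -2, -1⟩))
 (.leaf (⟨-4, 2, 0, 0, 2, -1, 2, 1⟩, ⟨0, 0, 0, 0, 0, 0, 0, 0⟩, ⟨-4, 2, 8, 4, -4, 1, -2, -1⟩)))
 (.node 1
 (.leaf (⟨-4, 2, 0, 0, 2, -1, 2, 1⟩, ⟨0, 0, 0, 0, 0, 0, 0, 0⟩, ⟨0, 0, 0, 0, 2, -1, 2, 1⟩))
 (.node 1
 (.leaf (⟨-4, 2, 0, 0, 2, -1, 2, 1⟩, ⟨0, 0, 0, 0, 0, 0, 0, 0⟩, ⟨0, 0, 0, 0, -2, 1, 2, 1⟩))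
 (.leaf (⟨-4, 2, 0, 0, 2, -1, 2, 1⟩, ⟨0, 0, 0, 0, 0, 0, 0, 0⟩, ⟨0, 0, 0, 0, 2, -1, -2, -1⟩))))))))
 (.node 20
 (.node 10
 (.node 5
 (.node 2
 (.node 1
 (.leaf (⟨-4, 2, 0, 0, 2, -1, 2, 1⟩, ⟨0, 0, 0, 0, 0, 0, 0, 0⟩, ⟨0, 0, 0, 0, -2, 1, -2, -1⟩))
 (.leaf (⟨-4, 2, 0, 0, 2, -1, 2, 1⟩, ⟨0, 0, 0, 0, 0, 0, 0, 0⟩, ⟨4, -2, -8, -4, 4, -1, 2, 1⟩)))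
 (.node 1
 (.leaf (⟨-4, 2, 0, 0, 2, -1, 2, 1⟩, ⟨0, 0, 0, 0, 0, 0, 0, 0⟩, ⟨-4, 2, 0, 0, 2, -1, 2, 1⟩))
 (.node 1
 (.leaf (⟨-4, 2, 0, 0, 2, -1, 2, 1⟩, ⟨0, 0, 0, 0, 2, -1, -2, -1⟩, ⟨0, 0, 0, 0, 0, 0, 0, 0⟩))
 (.leaf (⟨-4, 2, 0, 0, 2, -1, 2, 1⟩, ⟨0, 0, 0, 0, -2, 1, -2, -1⟩, ⟨0, 0, 0, 0, 0, 0, 0, 0⟩)))))
 (.node 2
 (.node 1
 (.leaf (⟨-4, 2, 0, 0, 2, -1, 2, 1⟩, ⟨4, -2, -8, -4, 4, -1, 2, 1⟩, ⟨0, 0, 0, 0, 0, 0, 0, 0⟩))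
 (.leaf (⟨-4, 2, 2, 1, 0, 0, 0, 0⟩, ⟨-1, 0, 3, 1, -1, 0, -1, -1⟩, ⟨1, 0, -3, -1, 1, 0, 1, 1⟩)))
 (.node 1
 (.leaf (⟨-4, 2, 2, 1, 0, 0, 0, 0⟩, ⟨-1, 0, 3, 1, -1, 0, -1, -1⟩, ⟨-1, 0, 3, 1, -1, 0, -1, -1⟩))
 (.node 1
 (.leaf (⟨-4, 2, 2, 1, 1, -1, 2, 1⟩, ⟨-1, 0, 3, 1, -3, 1, -1, -1⟩, ⟨1, -1, 1, 1, -2, 1, -2, -1⟩))
 (.leaf (⟨-4, 2, 2, 1, 1, -1, 2, 1⟩, ⟨-1, 0, 3, 1, -3, 1, -1, -1⟩, ⟨-1, 1, -1, -1, 2, -1, 2, 1⟩))))))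
 (.node 5
 (.node 2
 (.node 1
 (.leaf (⟨-4, 2, 2, 1, 1, -1, 1, 0⟩, ⟨1, -1, -1, -1, 0, 0, -1, -1⟩, ⟨0, 0, -2, -1, 1, 0, 1, 1⟩))
 (.leaf (⟨-4, 2, 2, 1, 1, -1, 1, 0⟩, ⟨1, -1, -1, -1, 0, 0, -1, -1⟩, ⟨0, 0, 2, 1, -1, 0, -1, -1⟩)))
 (.node 1
 (.leaf (⟨-4, 2, 2, 1, 0, 0, 1, 1⟩, ⟨1, -1, -1, -1, 0, 0, 1, 0⟩, ⟨2, -1, -2, -1, 0, 0, 0, 0⟩))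
 (.node 1
 (.leaf (⟨-4, 2, 2, 1, 0, 0, 1, 1⟩, ⟨1, -1, -1, -1, 0, 0, 1, 0⟩, ⟨-2, 1, 2, 1, 0, 0, 0, 0⟩))
 (.leaf (⟨-4, 2, 2, 1, 1, -1, 2, 1⟩, ⟨0, 0, 2, 1, -1, 0, 0, 0⟩, ⟨2, -1, -2, -1, 0, 0, 1, 0⟩)))))
 (.node 2
 (.node 1
 (.leaf (⟨-4, 2, 2, 1, 1, -1, 2, 1⟩, ⟨0, 0, 2, 1, -1, 0, 0, 0⟩, ⟨-2, 1, 2, 1, 0, 0, -1, 0⟩))
 (.leaf (⟨-4, 2, 2, 1, 0, 0, 1, 1⟩, ⟨0, 0, 2, 1, -2, 1, -1, 0⟩, ⟨1, 0, -1, -1, 2, -1, 0, 0⟩)))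
 (.node 1
 (.leaf (⟨-4, 2, 2, 1, 0, 0, 1, 1⟩, ⟨0, 0, 2, 1, -2, 1, -1, 0⟩, ⟨-1, 0, 1, 1, -2, 1, 0, 0⟩))
 (.node 1
 (.leaf (⟨-4, 2, 2, 1, 1, -1, 1, 0⟩, ⟨0, 0, 2, 1, -1, 0, -1, -1⟩, ⟨-1, 1, 1, 1, 0, 0, 1, 1⟩))
 (.leaf (⟨-4, 2, 2, 1, 1, -1, 1, 0⟩, ⟨0, 0, 2, 1, -1, 0, -1, -1⟩, ⟨1, -1, -1, -1, 0, 0, -1, -1⟩)))))))
 (.node 10
 (.node 5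
 (.node 2
 (.node 1
 (.leaf (⟨-4, 2, 2, 1, 0, 0, 0, 0⟩, ⟨0, 0, 2, 1, -2, 1, -2, -1⟩, ⟨0, 0, -2, -1, 2, -1, 2, 1⟩))
 (.leaf (⟨-4, 2, 2, 1, 0, 0, 0, 0⟩, ⟨0, 0, 2, 1, -2, 1, -2, -1⟩, ⟨0, 0, 2, 1, -2, 1, -2, -1⟩)))
 (.node 1
 (.leaf (⟨-4, 2, 2, 1, 1, -1, 1, 0⟩, ⟨-1, 0, 1, 1, 0, 0, 0, 0⟩, ⟨2, -1, -2, -1, 1, 0, 0, 0⟩))
 (.node 1
 (.leaf (⟨-4, 2, 2, 1, 1, -1, 1, 0⟩, ⟨-1, 0, 1, 1, 0, 0, 0, 0⟩, ⟨-2, 1, 2, 1, -1, 0, 0, 0⟩))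
 (.leaf (⟨-4, 2, 2, 1, 0, 0, 1, 1⟩, ⟨-1, 0, 1, 1, -2, 1, 0, 0⟩, ⟨0, 0, -2, -1, 2, -1, 1, 0⟩)))))
 (.node 2
 (.node 1
 (.leaf (⟨-4, 2, 2, 1, 0, 0, 1, 1⟩, ⟨-1, 0, 1, 1, -2, 1, 0, 0⟩, ⟨0, 0, 2, 1, -2, 1, -1, 0⟩))
 (.leaf (⟨-4, 2, 2, 1, 0, 0, 0, 0⟩, ⟨-1, 1, -1, -1, 2, -1, 0, 0⟩, ⟨1, -1, 1, 1, -2, 1, 0, 0⟩)))
 (.node 1
 (.leaf (⟨-4, 2, 2, 1, 0, 0, 0, 0⟩, ⟨-1, 1, -1, -1, 2, -1, 0, 0⟩, ⟨-1, 1, -1, -1, 2, -1, 0, 0⟩))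
 (.node 1
 (.leaf (⟨-4, 2, 2, 1, 1, -1, 2, 1⟩, ⟨-1, 1, -1, -1, 2, -1, 2, 1⟩, ⟨1, 0, -3, -1, 3, -1, 1, 1⟩))
 (.leaf (⟨-4, 2, 2, 1, 1, -1, 2, 1⟩, ⟨-1, 1, -1, -1, 2, -1, 2, 1⟩, ⟨-1, 0, 3, 1, -3, 1, -1, -1⟩))))))
 (.node 5
 (.node 2
 (.node 1
 (.leaf (⟨-4, 2, 2, 1, 0, 0, 1, 1⟩, ⟨-2, 1, 2, 1, 0, 0, 0, 0⟩, ⟨-1, 1, 1, 1, 0, 0, -1, 0⟩))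
 (.leaf (⟨-4, 2, 2, 1, 0, 0, 1, 1⟩, ⟨-2, 1, 2, 1, 0, 0, 0, 0⟩, ⟨1, -1, -1, -1, 0, 0, 1, 0⟩)))
 (.node 1
 (.leaf (⟨-4, 2, 2, 1, 1, -1, 2, 1⟩, ⟨-2, 1, 2, 1, 0, 0, -1, 0⟩, ⟨0, 0, -2, -1, 1, 0, 0, 0⟩))
 (.node 1
 (.leaf (⟨-4, 2, 2, 1, 1, -1, 2, 1⟩, ⟨-2, 1, 2, 1, 0, 0, -1, 0⟩, ⟨0, 0, 2, 1, -1, 0, 0, 0⟩))
 (.leaf (⟨-4, 2, 2, 1, 0, 0, 0, 0⟩, ⟨-2, 1, 2, 1, -1, 0, 1, 0⟩, ⟨2, -1, -2, -1, 1, 0, -1, 0⟩)))))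
 (.node 2
 (.node 1
 (.leaf (⟨-4, 2, 2, 1, 0, 0, 0, 0⟩, ⟨-2, 1, 2, 1, -1, 0, 1, 0⟩, ⟨-2, 1, 2, 1, -1, 0, 1, 0⟩))
 (.leaf (⟨-4, 2, 2, 1, 1, -1, 1, 0⟩, ⟨-2, 1, 2, 1, -1, 0, 0, 0⟩, ⟨1, 0, -1, -1, 0, 0, 0, 0⟩)))
 (.node 1
 (.leaf (⟨-4, 2, 2, 1, 1, -1, 1, 0⟩, ⟨-2, 1, 2, 1, -1, 0, 0, 0⟩, ⟨-1, 0, 1, 1, 0, 0, 0, 0⟩))
 (.node 1
 (.leaf (⟨-4, 2, 0, 0, 2, -1, 2, 1⟩, ⟨-4, 2, 0, 0, 2, -1, 2, 1⟩, ⟨0, 0, 0, 0, 0, 0, 0, 0⟩))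
 (.leaf (⟨-8, 4, 8, 4, -2, 0, 0, 0⟩, ⟨0, 0, 0, 0, 0, 0, 0, 0⟩, ⟨0, 0, 0, 0, 0, 0, 0, 0⟩))))))))))

end Cfsg.Agent.Steiner.Ico
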