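import Cfsg.Agent.Lib.Steiner.Ico.Refl

/-!
# The reflection group of the icosian Leech lattice: transitivity and centre
-/

set_option autoImplicit false
set_option maxRecDepth 100000

namespace Cfsg.Agent.Steiner.Ico

open Quaternion Cfsg.Spor Cfsg.Agent.CosetEnum
open V8

/-- A reflection, in coordinates. -/
noncomputable def rC (k : ℕ) (t : Tri) : Tri :=
  let r := rep k
  let h := halfC t r
  (V8.sub t.1 (prod h r.1), V8.sub t.2.1 (prod h r.2.1), V8.sub t.2.2 (prod h r.2.2))

theorem rC_spec (k : ℕ) {t : Tri} (ht : vecOf t ∈ icoLeech) :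
    vecOf (rC k t) = qrefl (repV k) (vecOf t) := by
  obtain ⟨a, ha, e⟩ := repV_even k ht
  have h := halfC_eq ha e
  have hs : ∀ c d : V8, ico (V8.sub c d) = ico c - ico d := fun c d => by
    rw [V8.sub, ico_add, ico_neg, sub_eq_add_neg]
  rw [qrefl_eq, e, half_double]
  funext i
  fin_cases i <;> simp [rC, vecOf, repV, hs, prod_spec, h]

/-- A word of reflections, in coordinates. -/
noncomputable def applyW (w : List ℕ) (t : Tri) : Tri := w.foldr rC t

/-- A product of reflections. -/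
noncomputable def reflProd (w : List ℕ) : Equiv.Perm icoLeech := (w.map refl).prod

theorem reflProd_apply (w : List ℕ) {t : Tri} {x : icoLeech} (h : (x : Fin 3 → ℍ[ℝ]) = vecOf t) :
    ((reflProd w x : icoLeech) : Fin 3 → ℍ[ℝ]) = vecOf (applyW w t) := by
  induction w with
  | nil => exact h
  | cons k w ih =>
    show ((refl k (reflProd w x) : icoLeech) : Fin 3 → ℍ[ℝ]) = _
    rw [refl_apply, ih]
    exact (rC_spec k (ih ▸ (reflProd w x).2)).symm

theorem reflProd_mem (w : List ℕ) : reflProd w ∈ twoJ2 :=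
  Subgroup.list_prod_mem _ fun f hf => by
    obtain ⟨k, -, rfl⟩ := List.mem_map.mp hf
    exact refl_mem k

/-- The reflection, as a linear map. -/
noncomputable def reflL (r : Fin 3 → ℍ[ℝ]) :
    (Fin 3 → ℍ[ℝ]) →ₗ[ℍ[ℝ]] (Fin 3 → ℍ[ℝ]) where
  toFun := qrefl r
  map_add' x y := by
    simp only [qrefl_eq, qip_add, smul_add, add_smul]
    abel
  map_smul' q x := by
    simp only [qrefl_eq, qip_smul, RingHom.id_apply, smul_sub, smul_smul, mul_smul_comm]

theorem qip_qrefl {r : Fin 3 → ℍ[ℝ]} (hr : qip r r = 4) (x y : Fin 3 → ℍ[ℝ]) :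
    qip (qrefl r x) (qrefl r y) = qip x y := by
  rw [qrefl_eq r y, qip_sub_right, qip_smul_right, qip_qrefl_self hr, qrefl_eq, qip_sub, qip_smul,
    Quaternion.star_smul, star_qip, neg_mul, sub_neg_eq_add, smul_mul_assoc, mul_smul_comm]
  abel

/-- A permutation of the lattice given by a linear isometry. -/
def IsLin (f : Equiv.Perm icoLeech) : Prop :=
  ∃ M : (Fin 3 → ℍ[ℝ]) →ₗ[ℍ[ℝ]] (Fin 3 → ℍ[ℝ]), (∀ x y, qip (M x) (M y) = qip x y) ∧
    ∀ x : icoLeech, ((f x : icoLeech) : Fin 3 → ℍ[ℝ]) = M x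

theorem isLin_one : IsLin 1 := ⟨LinearMap.id, fun _ _ => rfl, fun _ => rfl⟩

theorem isLin_mul {f g : Equiv.Perm icoLeech} (hf : IsLin f) (hg : IsLin g) : IsLin (f * g) := by
  obtain ⟨M, hM, eM⟩ := hf
  obtain ⟨N, hN, eN⟩ := hg
  refine ⟨M.comp N, fun x y => (hM _ _).trans (hN x y), fun x => ?_⟩
  rw [Equiv.Perm.mul_apply, eM, eN]
  rfl

theorem isLin_refl (k : ℕ) : IsLin (refl k) :=
  ⟨reflL (repV k), qip_qrefl (repV_minimal k).2, refl_apply k⟩

theorem isLin_of_mem {f : Equiv.Perm icoLeech} (hf : f ∈ twoJ2) : IsLin f := by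
  suffices h : IsLin f ∧ IsLin f⁻¹ from h.1
  induction hf using Subgroup.closure_induction with
  | mem x hx =>
    obtain ⟨k, -, rfl⟩ := isRefl_iff.mp hx
    exact ⟨isLin_refl k, by rw [inv_eq_of_mul_eq_one_right (refl_mul_self k)]; exact isLin_refl k⟩
  | one => exact ⟨isLin_one, by rw [inv_one]; exact isLin_one⟩
  | mul x y _ _ hx hy => exact ⟨isLin_mul hx.1 hy.1, by rw [mul_inv_rev]; exact isLin_mul hy.2 hx.2⟩
  | inv x _ hx => exact ⟨hx.2, by rw [inv_inv]; exact hx.1⟩

theorem double_eq_sum (x : Fin 3 → ℍ[ℝ]) :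
    x + x = x 0 • vecOf (axisC 0) + x 1 • vecOf (axisC 1) + x 2 • vecOf (axisC 2) := by
  funext s
  rw [vecOf_axisC, vecOf_axisC, vecOf_axisC]
  fin_cases s <;> simp [Pi.single_apply, mul_add]

theorem eq_of_double {x y : Fin 3 → ℍ[ℝ]} (h : x + x = y + y) : x = y := by
  funext s
  have e := congrArg (fun q : ℍ[ℝ] => (1 / 2 : ℝ) • q) (congrFun h s)
  simpa only [Pi.add_apply, half_double] using e

theorem lin_ext {M N : (Fin 3 → ℍ[ℝ]) →ₗ[ℍ[ℝ]] (Fin 3 → ℍ[ℝ])}
    (h : ∀ t, M (vecOf (axisC t)) = N (vecOf (axisC t))) (x : Fin 3 → ℍ[ℝ]) : M x = N x := by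
  apply eq_of_double
  rw [← map_add, ← map_add, double_eq_sum]
  simp only [map_add, map_smul, h]

theorem perm_ext {f g : Equiv.Perm icoLeech} (hf : IsLin f) (hg : IsLin g)
    (h : ∀ t, f (axisV t) = g (axisV t)) : f = g := by
  obtain ⟨M, -, eM⟩ := hf
  obtain ⟨N, -, eN⟩ := hg
  refine Equiv.ext fun x => Subtype.ext ?_
  rw [eM, eN]
  exact lin_ext (fun t => ((eM (axisV t)).symm.trans (congrArg Subtype.val (h t))).trans (eN _)) x

theorem conj_refl {f : Equiv.Perm icoLeech} {k : ℕ}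
    {M : (Fin 3 → ℍ[ℝ]) →ₗ[ℍ[ℝ]] (Fin 3 → ℍ[ℝ])} (hM : ∀ x y, qip (M x) (M y) = qip x y)
    (eM : ∀ x : icoLeech, ((f x : icoLeech) : Fin 3 → ℍ[ℝ]) = M x) :
    M (repV k) ∈ minimal ∧ ∀ x : icoLeech,
      (((f * refl k * f⁻¹) x : icoLeech) : Fin 3 → ℍ[ℝ]) = qrefl (M (repV k)) x := by
  refine ⟨⟨?_, by rw [hM]; exact (repV_minimal k).2⟩, fun x => ?_⟩
  · have e := eM ⟨repV k, (repV_minimal k).1⟩
    exact e ▸ (f _).2
  obtain ⟨y, rfl⟩ := f.surjective x
  rw [Equiv.Perm.mul_apply, Equiv.Perm.mul_apply, Equiv.Perm.inv_def, Equiv.symm_apply_apply, eM, refl_apply, eM y,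
    qrefl_eq, qrefl_eq, map_sub, map_smul, hM]

theorem conj_eq_refl {f : Equiv.Perm icoLeech} (hf : IsLin f) {k l : ℕ} {u : V8} (hu : u ∈ unitsC)
    (h : ((f ⟨repV k, (repV_minimal k).1⟩ : icoLeech) : Fin 3 → ℍ[ℝ]) = ico u • repV l) :
    f * refl k * f⁻¹ = refl l := by
  obtain ⟨M, hM, eM⟩ := hf
  refine Equiv.ext fun x => Subtype.ext ?_
  rw [(conj_refl hM eM).2 x, refl_apply, ← eM ⟨repV k, (repV_minimal k).1⟩, h,
    qrefl_smul_unit (unit_norm hu)]

/-- The word of a generator. -/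
def genWord (g : ℕ) : List ℕ := genWords.getD g []

/-- The subgroup generated by the five generators. -/
noncomputable def genGroup : Subgroup (Equiv.Perm icoLeech) :=
  Subgroup.closure (Set.range fun g => reflProd (genWord g))

theorem genGroup_le : genGroup ≤ twoJ2 :=
  (Subgroup.closure_le _).mpr (Set.range_subset_iff.mpr fun g => reflProd_mem (genWord g))

/-- The check on an edge of the tree. -/
noncomputable def edgeCheck : ℕ × ℕ × ℕ × ℕ → Bool
  | (p, g, u, k) => decide (u < 120) &&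
      decide (applyW (genWord g) (rep p) = smulC (unitsC.getD u zero) (rep k))

theorem edges_ok : treeEdges.all edgeCheck = true := by decide +kernel

/-- The points reached by a list of edges. -/
def covers : List (ℕ × ℕ × ℕ × ℕ) → List ℕ → Bool
  | [], seen => (List.range 315).all fun k => seen.contains k
  | (p, _, _, k) :: es, seen => seen.contains p && covers es (k :: seen)

theorem covers_ok : covers treeEdges [rootIdx] = true := by decide +kernel

theorem covers_spec {P : ℕ → Prop} : ∀ (es : List (ℕ × ℕ × ℕ × ℕ)) (seen : List ℕ),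
    (∀ e ∈ es, P e.1 → P e.2.2.2) → (∀ k ∈ seen, P k) → covers es seen = true →
      ∀ k < 315, P k
  | [], seen, _, hs, h, k, hk => by
    simp only [covers, List.all_eq_true, List.mem_range, List.contains_iff_mem] at h
    exact hs k (h k hk)
  | (p, g, u, l) :: es, seen, he, hs, h, k, hk => by
    simp only [covers, Bool.and_eq_true, List.contains_iff_mem] at h
    refine covers_spec es (l :: seen) (fun e h' => he e (List.mem_cons_of_mem _ h')) ?_ h.2 k hk
    intro j hj
    rcases List.mem_cons.mp hj with rfl | hj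
    · exact he _ List.mem_cons_self (hs p h.1)
    · exact hs j hj

theorem transitive_root {k : ℕ} (hk : k < 315) :
    ∃ g ∈ genGroup, g * refl rootIdx * g⁻¹ = refl k := by
  refine covers_spec (P := fun k => ∃ g ∈ genGroup, g * refl rootIdx * g⁻¹ = refl k) treeEdges
    [rootIdx] ?_ ?_ covers_ok k hk
  · rintro ⟨p, g, u, l⟩ he ⟨h, hh, e⟩
    have hc := List.all_eq_true.mp edges_ok _ he
    simp only [edgeCheck, Bool.and_eq_true, decide_eq_true_eq] at hc
    have hu : unitsC.getD u zero ∈ unitsC := by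
      rw [List.getD_eq_getElem _ _ (hc.1.trans_le units_ok.2.2.ge)]
      exact List.getElem_mem _
    refine ⟨reflProd (genWord g) * h, mul_mem (Subgroup.subset_closure ⟨g, rfl⟩) hh, ?_⟩
    rw [← conj_eq_refl (isLin_of_mem (reflProd_mem (genWord g))) hu (k := p) (l := l)
      (by rw [reflProd_apply (genWord g) (t := rep p) rfl, hc.2, vecOf_smulC]; rfl), ← e]
    simp [mul_assoc]
  · intro j hj
    obtain rfl := List.mem_singleton.mp hj
    exact ⟨1, one_mem _, by simp⟩

theorem transitive {k l : ℕ} (hk : k < 315) (hl : l < 315) :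
    ∃ g ∈ twoJ2, g * refl k * g⁻¹ = refl l := by
  obtain ⟨a, ha, ea⟩ := transitive_root hk
  obtain ⟨b, hb, eb⟩ := transitive_root hl
  refine ⟨b * a⁻¹, mul_mem (genGroup_le hb) (inv_mem (genGroup_le ha)), ?_⟩
  rw [← ea, ← eb]
  simp [mul_assoc]

theorem genGroup_eq : genGroup = twoJ2 := by
  refine le_antisymm genGroup_le ((Subgroup.closure_le _).mpr fun f hf => ?_)
  obtain ⟨k, hk, rfl⟩ := isRefl_iff.mp hf
  obtain ⟨g, hg, e⟩ := transitive_root hk
  have hroot : refl rootIdx ∈ genGroup := by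
    refine Subgroup.subset_closure ⟨0, ?_⟩
    simp [genWord, genWords, rootIdx, reflProd]
  exact e ▸ mul_mem (mul_mem hg hroot) (inv_mem hg)

/-- The negation, as a product of reflections. -/
noncomputable def negPerm : Equiv.Perm icoLeech := reflProd axes

theorem negPerm_mem : negPerm ∈ twoJ2 := reflProd_mem axes

theorem axes_ok (t : Fin 3) :
    applyW axes (axisC t) = smulC (V8.neg cOne) (axisC t) := by
  fin_cases t <;> decide +kernel

theorem negPerm_apply (x : icoLeech) :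
    ((negPerm x : icoLeech) : Fin 3 → ℍ[ℝ]) = -(x : Fin 3 → ℍ[ℝ]) := by
  obtain ⟨M, -, eM⟩ := isLin_of_mem negPerm_mem
  rw [eM]
  refine lin_ext (N := -LinearMap.id) (fun t => ?_) x
  rw [← show ((negPerm (axisV t) : icoLeech) : Fin 3 → ℍ[ℝ]) = M (vecOf (axisC t)) from eM _,
    negPerm, reflProd_apply axes (t := axisC t) rfl, axes_ok, vecOf_smulC, ico_neg, ico_one,
    neg_smul, one_smul]
  rfl

theorem negPerm_ne_one : negPerm ≠ 1 := by
  intro h
  have e := negPerm_apply (axisV 0)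
  rw [h, Equiv.Perm.one_apply] at e
  have e0 := congrArg (fun q : ℍ[ℝ] => q.re) (congrFun e 0)
  simp [axisV, vecOf_axisC] at e0
  linarith

/-- The negation in the reflection group. -/
noncomputable def negOne : twoJ2 := ⟨negPerm, negPerm_mem⟩

theorem negOne_central : negOne ∈ Subgroup.center twoJ2 := by
  rw [Subgroup.mem_center_iff]
  rintro ⟨g, hg⟩
  refine Subtype.ext (Equiv.ext fun x => Subtype.ext ?_)
  obtain ⟨M, -, eM⟩ := isLin_of_mem hg
  show ((g (negPerm x) : icoLeech) : Fin 3 → ℍ[ℝ]) = ((negPerm (g x) : icoLeech) : Fin 3 → ℍ[ℝ])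
  rw [eM, negPerm_apply, negPerm_apply, eM, map_neg]

theorem central_scales {z : twoJ2} (hz : z ∈ Subgroup.center twoJ2)
    {M : (Fin 3 → ℍ[ℝ]) →ₗ[ℍ[ℝ]] (Fin 3 → ℍ[ℝ])} (hM : ∀ x y, qip (M x) (M y) = qip x y)
    (eM : ∀ x : icoLeech, (((z : Equiv.Perm icoLeech) x : icoLeech) : Fin 3 → ℍ[ℝ]) = M x)
    {r : Fin 3 → ℍ[ℝ]} (hr : r ∈ minimal) : ∃ q : ℍ[ℝ], normSq q = 1 ∧ M r = q • r := by
  obtain ⟨k, hk, u, hu, rfl⟩ := minimal_iff.mp hr
  have hc : (z : Equiv.Perm icoLeech) * refl k * (z : Equiv.Perm icoLeech)⁻¹ = refl k := by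
    have e := congrArg Subtype.val (Subgroup.mem_center_iff.mp hz ⟨refl k, refl_mem k⟩)
    simp only [Subgroup.coe_mul] at e
    rw [← e, mul_inv_cancel_right]
  obtain ⟨hmin, happ⟩ := conj_refl (k := k) hM eM
  obtain ⟨l, hl, el, v, hv, ev⟩ := eq_refl_of_apply hmin happ
  rw [hc] at el
  obtain rfl := refl_inj hk hl el
  refine ⟨ico u * ico v * (ico u)⁻¹, ?_, ?_⟩
  · simp [map_mul, map_inv₀, unit_norm hu, unit_norm hv]
  · rw [map_smul, ev, smul_smul, smul_smul, mul_assoc, inv_mul_cancel₀ (unit_ne hu), mul_one]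

theorem samples_ok :
    (rep 10).1 = V8.neg cOne ∧ (rep 10).2.1 = cOne ∧ (rep 10).2.2 ≠ zero ∧
      raw (V8.conj (vec (rep 66).2.1)) (vec (rep 66).1) = ⟨0, 0, 16, 0, 0, 0, 0, 0⟩ ∧
      raw (V8.conj (vec (rep 74).2.1)) (vec (rep 74).1) = ⟨0, 0, 0, 0, 16, 0, 0, 0⟩ := by
  decide +kernel

/-- A central element is plus or minus the identity. -/
theorem center_cases {z : twoJ2} (hz : z ∈ Subgroup.center twoJ2) : z = 1 ∨ z = negOne := by
  obtain ⟨M, hM, eM⟩ := isLin_of_mem z.2
  have hq : ∀ t, ∃ q : ℍ[ℝ], normSq q = 1 ∧ M (vecOf (axisC t)) = q • vecOf (axisC t) := fun t =>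
    central_scales hz hM eM (mem_minimal_iff.mpr (by fin_cases t <;> decide +kernel))
  choose q hq1 hqM using hq
  have hdiag : ∀ x : Fin 3 → ℍ[ℝ], M x = fun t => x t * q t := by
    intro x
    apply eq_of_double
    rw [← map_add, double_eq_sum x]
    simp only [map_add, map_smul, hqM]
    funext s
    fin_cases s <;> simp [vecOf_axisC, Pi.single_apply, mul_add]
  have hrel : ∀ k, ∃ w : ℍ[ℝ], ∀ t, repV k t * q t = w * repV k t := fun k => by
    obtain ⟨w, -, hw⟩ := central_scales hz hM eM (repV_minimal k)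
    exact ⟨w, fun t => (congrFun (hdiag (repV k)) t).symm.trans (congrFun hw t)⟩
  obtain ⟨s1, s2, s3, s4, s5⟩ := samples_ok
  obtain ⟨w, hw⟩ := hrel 10
  have hw0 : q 0 = w := by
    have e := hw 0
    rw [show repV 10 0 = -1 by rw [repV, vecOf_zero_apply, s1, ico_neg, ico_one]] at e
    simpa using e
  have hw1 : q 1 = w := by
    have e := hw 1
    rw [show repV 10 1 = 1 by rw [repV, vecOf_one_apply, s2, ico_one]] at e
    simpa using e
  have hcomm : ∀ k (c : V8), raw (V8.conj (vec (rep k).2.1)) (vec (rep k).1) = c →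
      toH c * w = w * toH c := by
    intro k c hc
    rw [← hc, toH_raw, toH_conj, smul_mul_assoc, mul_smul_comm]
    change (4 : ℤ) • (star (repV k 1) * repV k 0 * w) = (4 : ℤ) • (w * (star (repV k 1) * repV k 0))
    congr 1
    obtain ⟨v, hv⟩ := hrel k
    have h0 := hv 0
    have h1 := hv 1
    rw [hw0] at h0
    rw [hw1] at h1
    have hs : star (repV k 1) * v = w * star (repV k 1) := by
      rcases eq_or_ne (repV k 1) 0 with h | h
      · simp [h]
      · refine mul_right_cancel₀ h ?_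
        rw [mul_assoc, ← h1, ← mul_assoc, Quaternion.star_mul_self, mul_assoc w,
          Quaternion.star_mul_self, Quaternion.coe_commutes]
    rw [mul_assoc, h0, ← mul_assoc, hs, mul_assoc]
  have hi := hcomm 66 _ s4
  have hj := hcomm 74 _ s5
  have i1 := congrArg (fun p : ℍ[ℝ] => p.imK) hi
  have i2 := congrArg (fun p : ℍ[ℝ] => p.imJ) hi
  have j1 := congrArg (fun p : ℍ[ℝ] => p.imK) hj
  simp [toH_re, toH_imI, toH_imJ, toH_imK] at i1 i2 j1
  have hwre : w = ((w.re : ℝ) : ℍ[ℝ]) := by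
    ext <;> simp <;> linarith
  have hq2 : q 2 = w := by
    have e := hw 2
    have hne : repV 10 2 ≠ 0 := by
      rw [repV, vecOf_two_apply, ← ico_zero]
      exact ico_injective.ne s3
    rw [hwre, Quaternion.coe_commutes] at e
    rw [mul_left_cancel₀ hne e, ← hwre]
  have hn : w.re * w.re = 1 := by
    have h1 := hq1 0
    rw [hw0, hwre, Quaternion.normSq_coe] at h1
    nlinarith
  have hall : ∀ t, q t = w := fun t => by
    fin_cases t
    exacts [hw0, hw1, hq2]
  rcases mul_self_eq_one_iff.mp hn with h | h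
  · left
    refine Subtype.ext (Equiv.ext fun x => Subtype.ext ?_)
    rw [eM, hdiag]
    funext t
    rw [hall, hwre, h, Quaternion.coe_one, mul_one]
    rfl
  · right
    refine Subtype.ext (Equiv.ext fun x => Subtype.ext ?_)
    rw [eM, hdiag]
    show _ = ((negPerm x : icoLeech) : Fin 3 → ℍ[ℝ])
    rw [negPerm_apply]
    funext t
    rw [hall, hwre, h, Quaternion.coe_neg, Quaternion.coe_one, mul_neg, mul_one]
    rfl

theorem card_center : Nat.card (Subgroup.center twoJ2) = 2 := by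
  rw [Nat.card_eq_two_iff]
  refine ⟨1, ⟨negOne, negOne_central⟩, fun h => ?_, ?_⟩
  · exact negPerm_ne_one (congrArg (fun z : Subgroup.center twoJ2 =>
      ((z : twoJ2) : Equiv.Perm icoLeech)) h).symm
  · refine Set.eq_univ_of_forall fun z => ?_
    rcases center_cases z.2 with h | h
    · exact Or.inl (Subtype.ext h)
    · exact Or.inr (Subtype.ext h)

end Cfsg.Agent.Steiner.Ico
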