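import Cfsg.Prelude.Def_Spor_J2

/-!
# Integer coordinates for the icosian ring and its two ideals of index 16
-/

set_option autoImplicit false

namespace Cfsg.Agent.Steiner.Ico

open Quaternion Cfsg.Spor

/-- Eight integers. -/
structure V8 where
  a0 : ℤ
  a1 : ℤ
  a2 : ℤ
  a3 : ℤ
  a4 : ℤ
  a5 : ℤ
  a6 : ℤ
  a7 : ℤ
deriving DecidableEq

namespace V8

/-- Componentwise sum. -/
def add (x y : V8) : V8 := ⟨x.a0 + y.a0, x.a1 + y.a1, x.a2 + y.a2, x.a3 + y.a3, x.a4 + y.a4, x.a5 + y.a5, x.a6 + y.a6, x.a7 + y.a7⟩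

/-- Componentwise negation. -/
def neg (x : V8) : V8 := ⟨-x.a0, -x.a1, -x.a2, -x.a3, -x.a4, -x.a5, -x.a6, -x.a7⟩

/-- Scalar multiple. -/
def smul (k : ℤ) (x : V8) : V8 := ⟨k * x.a0, k * x.a1, k * x.a2, k * x.a3, k * x.a4, k * x.a5, k * x.a6, k * x.a7⟩

/-- Difference. -/
def sub (x y : V8) : V8 := add x (neg y)

/-- Componentwise quotient. -/
def div (x : V8) (k : ℤ) : V8 := ⟨x.a0 / k, x.a1 / k, x.a2 / k, x.a3 / k, x.a4 / k, x.a5 / k, x.a6 / k, x.a7 / k⟩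

/-- Zero. -/
def zero : V8 := ⟨0, 0, 0, 0, 0, 0, 0, 0⟩

/-- Coordinate vector. -/
def e0 : V8 := ⟨1, 0, 0, 0, 0, 0, 0, 0⟩

/-- Coordinate vector. -/
def e1 : V8 := ⟨0, 1, 0, 0, 0, 0, 0, 0⟩

/-- Coordinate vector. -/
def e2 : V8 := ⟨0, 0, 1, 0, 0, 0, 0, 0⟩

/-- Coordinate vector. -/
def e3 : V8 := ⟨0, 0, 0, 1, 0, 0, 0, 0⟩

/-- Coordinate vector. -/
def e4 : V8 := ⟨0, 0, 0, 0, 1, 0, 0, 0⟩

/-- Coordinate vector. -/
def e5 : V8 := ⟨0, 0, 0, 0, 0, 1, 0, 0⟩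

/-- Coordinate vector. -/
def e6 : V8 := ⟨0, 0, 0, 0, 0, 0, 1, 0⟩

/-- Coordinate vector. -/
def e7 : V8 := ⟨0, 0, 0, 0, 0, 0, 0, 1⟩

/-- The coordinate vectors. -/
def units8 : List V8 := [e0, e1, e2, e3, e4, e5, e6, e7]

/-- Quaternion conjugation on raw components. -/
def conj (x : V8) : V8 := ⟨x.a0, x.a1, -x.a2, -x.a3, -x.a4, -x.a5, -x.a6, -x.a7⟩

/-- Sixteen times the quaternion product of two quarters. -/
def raw (x y : V8) : V8 :=
  ⟨(x.a0 * y.a0 + 5 * (x.a1 * y.a1)) - (x.a2 * y.a2 + 5 * (x.a3 * y.a3)) - (x.a4 * y.a4 + 5 * (x.a5 * y.a5)) - (x.a6 * y.a6 + 5 * (x.a7 * y.a7)),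
   (x.a0 * y.a1 + x.a1 * y.a0) - (x.a2 * y.a3 + x.a3 * y.a2) - (x.a4 * y.a5 + x.a5 * y.a4) - (x.a6 * y.a7 + x.a7 * y.a6),
   (x.a0 * y.a2 + 5 * (x.a1 * y.a3)) + (x.a2 * y.a0 + 5 * (x.a3 * y.a1)) + (x.a4 * y.a6 + 5 * (x.a5 * y.a7)) - (x.a6 * y.a4 + 5 * (x.a7 * y.a5)),
   (x.a0 * y.a3 + x.a1 * y.a2) + (x.a2 * y.a1 + x.a3 * y.a0) + (x.a4 * y.a7 + x.a5 * y.a6) - (x.a6 * y.a5 + x.a7 * y.a4),
   (x.a0 * y.a4 + 5 * (x.a1 * y.a5)) - (x.a2 * y.a6 + 5 * (x.a3 * y.a7)) + (x.a4 * y.a0 + 5 * (x.a5 * y.a1)) + (x.a6 * y.a2 + 5 * (x.a7 * y.a3)),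
   (x.a0 * y.a5 + x.a1 * y.a4) - (x.a2 * y.a7 + x.a3 * y.a6) + (x.a4 * y.a1 + x.a5 * y.a0) + (x.a6 * y.a3 + x.a7 * y.a2),
   (x.a0 * y.a6 + 5 * (x.a1 * y.a7)) + (x.a2 * y.a4 + 5 * (x.a3 * y.a5)) - (x.a4 * y.a2 + 5 * (x.a5 * y.a3)) + (x.a6 * y.a0 + 5 * (x.a7 * y.a1)),
   (x.a0 * y.a7 + x.a1 * y.a6) + (x.a2 * y.a5 + x.a3 * y.a4) - (x.a4 * y.a3 + x.a5 * y.a2) + (x.a6 * y.a1 + x.a7 * y.a0)⟩

end V8

open V8

/-- The quaternion with components `(a + b √5) / 4`. -/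
noncomputable def toH (x : V8) : ℍ[ℝ] :=
  ⟨(x.a0 + x.a1 * Real.sqrt 5) / 4, (x.a2 + x.a3 * Real.sqrt 5) / 4,
   (x.a4 + x.a5 * Real.sqrt 5) / 4, (x.a6 + x.a7 * Real.sqrt 5) / 4⟩

theorem sqrt5_sq : Real.sqrt 5 * Real.sqrt 5 = 5 := Real.mul_self_sqrt (by norm_num)

theorem toH_re (x : V8) : (toH x).re = (x.a0 + x.a1 * Real.sqrt 5) / 4 := rfl

theorem toH_imI (x : V8) : (toH x).imI = (x.a2 + x.a3 * Real.sqrt 5) / 4 := rfl

theorem toH_imJ (x : V8) : (toH x).imJ = (x.a4 + x.a5 * Real.sqrt 5) / 4 := rfl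

theorem toH_imK (x : V8) : (toH x).imK = (x.a6 + x.a7 * Real.sqrt 5) / 4 := rfl

theorem toH_add (x y : V8) : toH (add x y) = toH x + toH y := by
  ext <;> simp [toH_re, toH_imI, toH_imJ, toH_imK, add] <;> ring

theorem toH_neg (x : V8) : toH (neg x) = -toH x := by
  ext <;> simp [toH_re, toH_imI, toH_imJ, toH_imK, neg] <;> ring

theorem toH_sub (x y : V8) : toH (V8.sub x y) = toH x - toH y := by
  rw [V8.sub, toH_add, toH_neg, sub_eq_add_neg]

theorem toH_smul (k : ℤ) (x : V8) : toH (smul k x) = k • toH x := by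
  ext <;> simp [toH_re, toH_imI, toH_imJ, toH_imK, smul] <;> ring

theorem toH_zero : toH zero = 0 := by
  ext <;> simp [toH_re, toH_imI, toH_imJ, toH_imK, zero]

theorem toH_conj (x : V8) : toH (conj x) = star (toH x) := by
  ext <;> simp [toH_re, toH_imI, toH_imJ, toH_imK, conj] <;> ring

theorem toH_raw (x y : V8) : toH (raw x y) = (4 : ℤ) • (toH x * toH y) := by
  have h := sqrt5_sq
  rw [← Int.cast_smul_eq_zsmul ℝ, Int.cast_ofNat]
  ext <;> simp [toH_re, toH_imI, toH_imJ, toH_imK, raw] <;> grind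

theorem sqrt5_inj {a b c d : ℤ} (h : (a : ℝ) + b * Real.sqrt 5 = c + d * Real.sqrt 5) :
    a = c ∧ b = d := by
  have hirr : Irrational (Real.sqrt 5) :=
    by exact_mod_cast (by norm_num : Nat.Prime 5).irrational_sqrt
  by_cases hbd : b = d
  · subst hbd
    exact ⟨by exact_mod_cast (by linarith : (a : ℝ) = c), rfl⟩
  · exfalso
    have hne : ((b - d : ℤ) : ℝ) ≠ 0 := Int.cast_ne_zero.mpr (sub_ne_zero.mpr hbd)
    refine hirr ⟨((c - a : ℤ) : ℚ) / ((b - d : ℤ) : ℚ), ?_⟩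
    push_cast at hne ⊢
    field_simp
    linarith

theorem toH_injective : Function.Injective toH := by
  intro x y h
  have e : ∀ {a b c d : ℤ}, ((a : ℝ) + b * Real.sqrt 5) / 4 = (c + d * Real.sqrt 5) / 4 →
      a = c ∧ b = d := fun h => sqrt5_inj (by linarith)
  have h0 := e (congrArg (fun q : ℍ[ℝ] => q.re) h)
  have h1 := e (congrArg (fun q : ℍ[ℝ] => q.imI) h)
  have h2 := e (congrArg (fun q : ℍ[ℝ] => q.imJ) h)
  have h3 := e (congrArg (fun q : ℍ[ℝ] => q.imK) h)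
  cases x
  cases y
  simp_all

/-- The combination of the triangular basis. -/
def vec (c : V8) : V8 :=
  ⟨(1) * c.a0,
   (1) * c.a0 + (2) * c.a1,
   (2) * c.a0 + (2) * c.a1 + (1) * c.a2,
   (-1) * c.a2 + (2) * c.a3,
   (-2) * c.a1 + (1) * c.a2 + (1) * c.a3 + (2) * c.a4,
   (1) * c.a2 + (-1) * c.a3 + (2) * c.a4 + (4) * c.a5,
   (1) * c.a0 + (2) * c.a2 + (-1) * c.a3 + (2) * c.a4 + (4) * c.a5 + (2) * c.a6,
   (-1) * c.a0 + (-2) * c.a1 + (-1) * c.a3 + (-2) * c.a4 + (-4) * c.a5 + (-2) * c.a6 + (4) * c.a7⟩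

/-- Coordinates in the triangular basis. -/
def co (v : V8) : V8 :=
  let c0 := (v.a0) / 1
  let c1 := (v.a1 - (1) * c0) / 2
  let c2 := (v.a2 - (2) * c0 - (2) * c1) / 1
  let c3 := (v.a3 - (-1) * c2) / 2
  let c4 := (v.a4 - (-2) * c1 - (1) * c2 - (1) * c3) / 2
  let c5 := (v.a5 - (1) * c2 - (-1) * c3 - (2) * c4) / 4
  let c6 := (v.a6 - (1) * c0 - (2) * c2 - (-1) * c3 - (2) * c4 - (4) * c5) / 2
  let c7 := (v.a7 - (-1) * c0 - (-2) * c1 - (-1) * c3 - (-2) * c4 - (-4) * c5 - (-2) * c6) / 4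
  ⟨c0, c1, c2, c3, c4, c5, c6, c7⟩

theorem co_vec (c : V8) : co (vec c) = c := by
  cases c
  simp only [co, vec, V8.mk.injEq]
  omega

theorem vec_add (c d : V8) : vec (add c d) = add (vec c) (vec d) := by
  simp only [vec, add, V8.mk.injEq]; refine ⟨?_, ?_, ?_, ?_, ?_, ?_, ?_, ?_⟩ <;> ring

theorem vec_smul (k : ℤ) (c : V8) : vec (smul k c) = smul k (vec c) := by
  simp only [vec, smul, V8.mk.injEq]; refine ⟨?_, ?_, ?_, ?_, ?_, ?_, ?_, ?_⟩ <;> ring

theorem vec_neg (c : V8) : vec (neg c) = neg (vec c) := by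
  simp only [vec, neg, V8.mk.injEq]; refine ⟨?_, ?_, ?_, ?_, ?_, ?_, ?_, ?_⟩ <;> ring

/-- The icosian with given coordinates. -/
noncomputable def ico (c : V8) : ℍ[ℝ] := toH (vec c)

theorem ico_injective : Function.Injective ico := fun c d h => by
  rw [← co_vec c, ← co_vec d, toH_injective h]

theorem ico_add (c d : V8) : ico (add c d) = ico c + ico d := by rw [ico, vec_add, toH_add]; rfl

theorem ico_smul (k : ℤ) (c : V8) : ico (smul k c) = k • ico c := by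
  rw [ico, vec_smul, toH_smul]; rfl

theorem ico_neg (c : V8) : ico (neg c) = -ico c := by rw [ico, vec_neg, toH_neg]; rfl

theorem ico_zero : ico zero = 0 := by
  rw [ico, show vec zero = zero by decide, toH_zero]

/-- A linear map given by the images of the coordinate vectors. -/
def lin (m0 m1 m2 m3 m4 m5 m6 m7 c : V8) : V8 :=
  add (smul c.a0 m0) (add (smul c.a1 m1) (add (smul c.a2 m2) (add (smul c.a3 m3)
    (add (smul c.a4 m4) (add (smul c.a5 m5) (add (smul c.a6 m6) (smul c.a7 m7)))))))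

theorem lin_id (c : V8) : lin e0 e1 e2 e3 e4 e5 e6 e7 c = c := by
  cases c
  simp [lin, add, smul, e0, e1, e2, e3, e4, e5, e6, e7]

theorem ico_lin (m0 m1 m2 m3 m4 m5 m6 m7 c : V8) : ico (lin m0 m1 m2 m3 m4 m5 m6 m7 c) =
    c.a0 • ico m0 + (c.a1 • ico m1 + (c.a2 • ico m2 + (c.a3 • ico m3 + (c.a4 • ico m4 +
      (c.a5 • ico m5 + (c.a6 • ico m6 + c.a7 • ico m7)))))) := by
  simp only [lin, ico_add, ico_smul]

theorem ico_basis (c : V8) : ico c = c.a0 • ico e0 + (c.a1 • ico e1 + (c.a2 • ico e2 +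
    (c.a3 • ico e3 + (c.a4 • ico e4 + (c.a5 • ico e5 + (c.a6 • ico e6 + c.a7 • ico e7)))))) := by
  rw [← ico_lin, lin_id]

/-- Product of coordinates. -/
def prod (c d : V8) : V8 := co (V8.div (raw (vec c) (vec d)) 4)

theorem prod_basis : ∀ c ∈ units8, ∀ d ∈ units8,
    raw (vec c) (vec d) = smul 4 (vec (prod c d)) := by decide +kernel

theorem basis_mul {c d : V8} (hc : c ∈ units8) (hd : d ∈ units8) :
    ico c * ico d = ico (prod c d) := by
  have h := congrArg toH (prod_basis c hc d hd)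
  rw [toH_raw, toH_smul] at h
  rw [← Int.cast_smul_eq_zsmul ℝ, ← Int.cast_smul_eq_zsmul ℝ] at h
  exact smul_right_injective ℍ[ℝ] (by norm_num : ((4 : ℤ) : ℝ) ≠ 0) h

theorem exists_mul (c d : V8) : ∃ e, ico e = ico c * ico d := by
  have hr : ∀ u ∈ units8, ∃ e, ico e = ico u * ico d := by
    intro u hu
    refine ⟨lin (prod u e0) (prod u e1) (prod u e2) (prod u e3) (prod u e4) (prod u e5) (prod u e6)
      (prod u e7) d, ?_⟩
    rw [ico_lin, ico_basis d]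
    simp only [mul_add, mul_smul_comm]
    rw [← basis_mul hu (d := e0) (by decide), ← basis_mul hu (d := e1) (by decide),
      ← basis_mul hu (d := e2) (by decide), ← basis_mul hu (d := e3) (by decide),
      ← basis_mul hu (d := e4) (by decide), ← basis_mul hu (d := e5) (by decide),
      ← basis_mul hu (d := e6) (by decide), ← basis_mul hu (d := e7) (by decide)]
  obtain ⟨f0, h0⟩ := hr e0 (by decide)
  obtain ⟨f1, h1⟩ := hr e1 (by decide)
  obtain ⟨f2, h2⟩ := hr e2 (by decide)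
  obtain ⟨f3, h3⟩ := hr e3 (by decide)
  obtain ⟨f4, h4⟩ := hr e4 (by decide)
  obtain ⟨f5, h5⟩ := hr e5 (by decide)
  obtain ⟨f6, h6⟩ := hr e6 (by decide)
  obtain ⟨f7, h7⟩ := hr e7 (by decide)
  refine ⟨lin f0 f1 f2 f3 f4 f5 f6 f7 c, ?_⟩
  rw [ico_lin, ico_basis c]
  simp only [add_mul, smul_mul_assoc, h0, h1, h2, h3, h4, h5, h6, h7]

theorem prod_spec (c d : V8) : ico (prod c d) = ico c * ico d := by
  obtain ⟨e, he⟩ := exists_mul c d
  have h : raw (vec c) (vec d) = smul 4 (vec e) := by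
    apply toH_injective
    rw [toH_raw, toH_smul]
    exact congrArg ((4 : ℤ) • ·) he.symm
  have h4 : V8.div (smul 4 (vec e)) 4 = vec e := by
    simp [V8.div, smul]
  rw [prod, h, h4, co_vec, he]

/-- Coordinates of 1. -/
def cOne : V8 := ⟨4, -2, -4, -2, 1, 0, 0, 0⟩

/-- Coordinates of i. -/
def cI : V8 := ⟨0, 0, 4, 2, -3, 1, -2, -1⟩

/-- Coordinates of the second generator. -/
def cW : V8 := ⟨2, -1, -1, -1, 0, 0, 0, 0⟩

/-- Coordinates of h. -/
def cH : V8 := ⟨0, -1, 4, 2, -3, 1, -1, -1⟩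

/-- Coordinates of the conjugate of h. -/
def cHbar : V8 := ⟨0, -1, 0, 0, -2, 1, -1, -1⟩

theorem ico_one : ico cOne = 1 := by
  rw [ico, show vec cOne = ⟨4, 0, 0, 0, 0, 0, 0, 0⟩ by decide]
  ext <;> simp [toH_re, toH_imI, toH_imJ, toH_imK]

theorem ico_I : ico cI = qI := by
  rw [ico, show vec cI = ⟨0, 0, 4, 0, 0, 0, 0, 0⟩ by decide]
  ext <;> simp [toH, qI]

theorem ico_W : ico cW = (⟨1 / 2, sig / 2, 0, tau / 2⟩ : ℍ[ℝ]) := by
  rw [ico, show vec cW = ⟨2, 0, 1, -1, 0, 0, 1, 1⟩ by decide]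
  ext <;> simp [toH, sig, tau] <;> ring

theorem ico_H : ico cH = icoH := by
  rw [ico, show vec cH = ⟨0, -2, 2, 0, 2, 0, 2, 0⟩ by decide]
  ext <;> simp [toH, icoH] <;> ring

theorem ico_Hbar : ico cHbar = star icoH := by
  rw [← ico_H, ico, ico, ← toH_conj, show vec cHbar = conj (vec cH) by decide]

/-- The product of a word in the two generators. -/
def wordC : List Bool → V8
  | [] => cOne
  | b :: l => prod (if b then cW else cI) (wordC l)

theorem wordC_mem : ∀ l, ico (wordC l) ∈ icosians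
  | [] => by rw [wordC, ico_one]; exact one_mem _
  | b :: l => by
    rw [wordC, prod_spec]
    refine mul_mem ?_ (wordC_mem l)
    cases b
    · exact ico_I ▸ Subring.subset_closure (Set.mem_insert _ _)
    · exact ico_W ▸ Subring.subset_closure (Set.mem_insert_of_mem _ rfl)

theorem e0_mem : ico e0 ∈ icosians := by
  rw [show e0 = (wordC [false, false, false, true, true, false, true, false, true, true, false]) by decide +kernel]
  try simp only [ico_add]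
  repeat first | exact wordC_mem _ | refine add_mem ?_ ?_

theorem e1_mem : ico e1 ∈ icosians := by
  rw [show e1 = (add (wordC [false, false, true, false, true, true, false]) (wordC [false, false, false, true, true, false, true, false, true, true, false])) by decide +kernel]
  try simp only [ico_add]
  repeat first | exact wordC_mem _ | refine add_mem ?_ ?_

theorem e2_mem : ico e2 ∈ icosians := by
  rw [show e2 = (wordC [false, true, true, false, true, false]) by decide +kernel]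
  try simp only [ico_add]
  repeat first | exact wordC_mem _ | refine add_mem ?_ ?_

theorem e3_mem : ico e3 ∈ icosians := by
  rw [show e3 = (add (wordC [false, false, true]) (wordC [false, false, true, false, true, true, false, true, false])) by decide +kernel]
  try simp only [ico_add]
  repeat first | exact wordC_mem _ | refine add_mem ?_ ?_

theorem e4_mem : ico e4 ∈ icosians := by
  rw [show e4 = (add (wordC [true, false, true, true, false, true, false, true]) (wordC [false, true, false, true, false, true, true, false, true, true])) by decide +kernel]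
  try simp only [ico_add]
  repeat first | exact wordC_mem _ | refine add_mem ?_ ?_

theorem e5_mem : ico e5 ∈ icosians := by
  rw [show e5 = (add (wordC [true, true, false, true]) (add (wordC [true, false, true, true, false, true, false, true]) (add (wordC [false, true, false, true, false, true, true, false, true, true]) (add (wordC [false, true, true, false, true, false, true, true, false, true, false]) (wordC [false, false, true, false, true, false, true, true, false, true, false]))))) by decide +kernel]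
  try simp only [ico_add]
  repeat first | exact wordC_mem _ | refine add_mem ?_ ?_

theorem e6_mem : ico e6 ∈ icosians := by
  rw [show e6 = (add (wordC [true, false, true, false, true, true, false, true]) (wordC [false, true, false, true, false, true, true, false, true, true])) by decide +kernel]
  try simp only [ico_add]
  repeat first | exact wordC_mem _ | refine add_mem ?_ ?_

theorem e7_mem : ico e7 ∈ icosians := by
  rw [show e7 = (add (wordC [true]) (add (wordC [false, true, false]) (add (wordC [true, false, true, true, false, true]) (wordC [false, true, false, true, true, false, true, false])))) by decide +kernel]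
  try simp only [ico_add]
  repeat first | exact wordC_mem _ | refine add_mem ?_ ?_

theorem mem_icosians {q : ℍ[ℝ]} : q ∈ icosians ↔ ∃ c, ico c = q := by
  constructor
  · intro h
    induction h using Subring.closure_induction with
    | mem x hx =>
      rcases hx with rfl | rfl
      exacts [⟨cI, ico_I⟩, ⟨cW, ico_W⟩]
    | zero => exact ⟨zero, ico_zero⟩
    | one => exact ⟨cOne, ico_one⟩
    | add x y _ _ hx hy =>
      obtain ⟨c, rfl⟩ := hx; obtain ⟨d, rfl⟩ := hy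
      exact ⟨add c d, ico_add c d⟩
    | neg x _ hx =>
      obtain ⟨c, rfl⟩ := hx
      exact ⟨neg c, ico_neg c⟩
    | mul x y _ _ hx hy =>
      obtain ⟨c, rfl⟩ := hx; obtain ⟨d, rfl⟩ := hy
      exact ⟨prod c d, prod_spec c d⟩
  · rintro ⟨c, rfl⟩
    rw [ico_basis]
    repeat' apply add_mem
    all_goals apply zsmul_mem
    exacts [e0_mem, e1_mem, e2_mem, e3_mem, e4_mem, e5_mem, e6_mem, e7_mem]

/-- Four parities as a number. -/
def bits (p q r t : ℤ) : ℕ :=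
  1 * (p % 2).toNat + 2 * (q % 2).toNat + 4 * (r % 2).toNat + 8 * (t % 2).toNat

theorem bits_eq_iff {p q r t p' q' r' t' : ℤ} : bits p q r t = bits p' q' r' t' ↔
    p % 2 = p' % 2 ∧ q % 2 = q' % 2 ∧ r % 2 = r' % 2 ∧ t % 2 = t' % 2 := by
  refine ⟨fun h => ?_, fun h => by rw [bits, bits, h.1, h.2.1, h.2.2.1, h.2.2.2]⟩
  have hp := Int.emod_two_eq_zero_or_one p
  have hq := Int.emod_two_eq_zero_or_one q
  have hr := Int.emod_two_eq_zero_or_one r
  have ht := Int.emod_two_eq_zero_or_one t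
  have hp' := Int.emod_two_eq_zero_or_one p'
  have hq' := Int.emod_two_eq_zero_or_one q'
  have hr' := Int.emod_two_eq_zero_or_one r'
  have ht' := Int.emod_two_eq_zero_or_one t'
  unfold bits at h
  generalize p % 2 = a, q % 2 = b, r % 2 = c, t % 2 = d at *
  generalize p' % 2 = a', q' % 2 = b', r' % 2 = c', t' % 2 = d' at *
  rcases hp with rfl | rfl <;> rcases hq with rfl | rfl <;> rcases hr with rfl | rfl <;>
    rcases ht with rfl | rfl <;> simp at h <;> omega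

theorem bits_eq_zero {p q r t : ℤ} :
    bits p q r t = 0 ↔ p % 2 = 0 ∧ q % 2 = 0 ∧ r % 2 = 0 ∧ t % 2 = 0 := by
  unfold bits
  omega

/-- A parity functional of the ideal `J`. -/
def parJ0 (c : V8) : ℤ := c.a3

/-- A parity functional of the ideal `J`. -/
def parJ1 (c : V8) : ℤ := c.a0 + c.a2

/-- A parity functional of the ideal `J`. -/
def parJ2 (c : V8) : ℤ := c.a0 + c.a1 + c.a6

/-- A parity functional of the ideal `J`. -/
def parJ3 (c : V8) : ℤ := c.a1 + c.a4 + c.a5 + c.a7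

/-- The class modulo the ideal `J`. -/
def clsJ (c : V8) : ℕ :=
  1 * (parJ0 c % 2).toNat +
  2 * (parJ1 c % 2).toNat +
  4 * (parJ2 c % 2).toNat +
  8 * (parJ3 c % 2).toNat

/-- The cofactor in the ideal `J`. -/
def quoJ (c : V8) : V8 :=
  ⟨((-1) * c.a0 + (-5) * c.a1 + (2) * c.a2 + (2) * c.a4 + (2) * c.a5 + (1) * c.a6) / 2,
   ((2) * c.a1 + (-1) * c.a2 + (-1) * c.a4 + (-1) * c.a5 + (-1) * c.a6 + (1) * c.a7) / 2,
   ((2) * c.a0 + (7) * c.a1 + (1) * c.a2 + (-6) * c.a3 + (-2) * c.a4 + (1) * c.a6 + (-2) * c.a7) / 2,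
   ((2) * c.a1 + (-3) * c.a3 + (-2) * c.a4 + (-2) * c.a5) / 2,
   ((-1) * c.a0 + (-2) * c.a1 + (-3) * c.a2 + (6) * c.a3 + (-2) * c.a4 + (-6) * c.a5 + (-2) * c.a6 + (2) * c.a7) / 2,
   ((1) * c.a2 + (-2) * c.a3 + (1) * c.a4 + (3) * c.a5 + (1) * c.a6 + (-1) * c.a7) / 2,
   ((-1) * c.a2 + (4) * c.a3 + (3) * c.a4 + (3) * c.a5 + (1) * c.a6 + (-3) * c.a7) / 2,
   ((-1) * c.a0 + (-1) * c.a1 + (-1) * c.a2 + (2) * c.a3 + (1) * c.a4 + (1) * c.a5 + (-1) * c.a7) / 2⟩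

/-- Multiplication by the generator of `J`. -/
def timesJ : V8 → V8 :=
  lin ⟨-4, 2, 4, 2, -1, 0, 2, 1⟩ ⟨-5, 3, 3, 2, 0, 0, 4, 3⟩ ⟨-2, 1, 4, 2, -3, 1, -1, -1⟩ ⟨0, 0, -4, -2, 4, -2, 4, 2⟩ ⟨-2, 1, 2, 2, -3, 1, 3, 1⟩ ⟨-2, 1, 0, 2, -4, 2, 7, 3⟩ ⟨-1, 1, -1, 0, 2, -1, 4, 2⟩ ⟨0, -1, 2, 0, -2, 1, -7, -4⟩

theorem timesJ_spec (c : V8) : ico (timesJ c) = ico c * icoH := by
  rw [timesJ, ico_lin, ico_basis c]
  simp only [add_mul, smul_mul_assoc]
  rw [show (⟨-4, 2, 4, 2, -1, 0, 2, 1⟩ : V8) = prod e0 cH by decide +kernel,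
    show (⟨-5, 3, 3, 2, 0, 0, 4, 3⟩ : V8) = prod e1 cH by decide +kernel,
    show (⟨-2, 1, 4, 2, -3, 1, -1, -1⟩ : V8) = prod e2 cH by decide +kernel,
    show (⟨0, 0, -4, -2, 4, -2, 4, 2⟩ : V8) = prod e3 cH by decide +kernel,
    show (⟨-2, 1, 2, 2, -3, 1, 3, 1⟩ : V8) = prod e4 cH by decide +kernel,
    show (⟨-2, 1, 0, 2, -4, 2, 7, 3⟩ : V8) = prod e5 cH by decide +kernel,
    show (⟨-1, 1, -1, 0, 2, -1, 4, 2⟩ : V8) = prod e6 cH by decide +kernel,
    show (⟨0, -1, 2, 0, -2, 1, -7, -4⟩ : V8) = prod e7 cH by decide +kernel,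
    prod_spec, prod_spec, prod_spec, prod_spec, prod_spec, prod_spec, prod_spec, prod_spec,
    ico_H]

theorem clsJ_times (c : V8) : clsJ (timesJ c) = 0 := by
  simp only [clsJ, timesJ, lin, add, smul, parJ0, parJ1, parJ2, parJ3]
  omega

theorem timesJ_quo {c : V8} (h : clsJ c = 0) : timesJ (quoJ c) = c := by
  obtain ⟨a0, a1, a2, a3, a4, a5, a6, a7⟩ := c
  simp only [clsJ, parJ0, parJ1, parJ2, parJ3] at h
  obtain ⟨t, rfl⟩ : ∃ t, a3 = 2 * t := ⟨(a3 + (0) * -1) / 2, by omega⟩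
  obtain ⟨u, rfl⟩ : ∃ u, a2 = 2 * u - a0 := ⟨(a2 + (0 - a0) * -1) / 2, by omega⟩
  obtain ⟨v, rfl⟩ : ∃ v, a6 = 2 * v - a0 - a1 := ⟨(a6 + (0 - a0 - a1) * -1) / 2, by omega⟩
  obtain ⟨w, rfl⟩ : ∃ w, a7 = 2 * w - a1 - a4 - a5 := ⟨(a7 + (0 - a1 - a4 - a5) * -1) / 2, by omega⟩
  simp only [timesJ, quoJ, lin, add, smul, V8.mk.injEq]
  omega

theorem mem_J {c : V8} : ico c ∈ leftIdeal icoH ↔ clsJ c = 0 := by
  constructor
  · rintro ⟨a, ha, h⟩
    obtain ⟨d, rfl⟩ := mem_icosians.mp ha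
    rw [← timesJ_spec] at h
    rw [ico_injective h, clsJ_times]
  · intro h
    exact ⟨_, mem_icosians.mpr ⟨quoJ c, rfl⟩, by rw [← timesJ_spec, timesJ_quo h]⟩

theorem clsJ_sub {c d : V8} : clsJ (V8.sub c d) = 0 ↔ clsJ c = clsJ d := by
  have h0 : parJ0 (V8.sub c d) = parJ0 c - parJ0 d := by simp [parJ0, V8.sub, add, neg]; ring
  have h1 : parJ1 (V8.sub c d) = parJ1 c - parJ1 d := by simp [parJ1, V8.sub, add, neg]; ring
  have h2 : parJ2 (V8.sub c d) = parJ2 c - parJ2 d := by simp [parJ2, V8.sub, add, neg]; ring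
  have h3 : parJ3 (V8.sub c d) = parJ3 c - parJ3 d := by simp [parJ3, V8.sub, add, neg]; ring
  change bits (parJ0 (V8.sub c d)) (parJ1 (V8.sub c d)) (parJ2 (V8.sub c d))
      (parJ3 (V8.sub c d)) = 0 ↔ bits _ _ _ _ = bits _ _ _ _
  rw [h0, h1, h2, h3, bits_eq_zero, bits_eq_iff]
  omega

/-- A parity functional of the ideal `Jb`. -/
def parJb0 (c : V8) : ℤ := c.a1 + c.a5

/-- A parity functional of the ideal `Jb`. -/
def parJb1 (c : V8) : ℤ := c.a1 + c.a6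

/-- A parity functional of the ideal `Jb`. -/
def parJb2 (c : V8) : ℤ := c.a0 + c.a2 + c.a4

/-- A parity functional of the ideal `Jb`. -/
def parJb3 (c : V8) : ℤ := c.a0 + c.a1 + c.a7

/-- The class modulo the ideal `Jb`. -/
def clsJb (c : V8) : ℕ :=
  1 * (parJb0 c % 2).toNat +
  2 * (parJb1 c % 2).toNat +
  4 * (parJb2 c % 2).toNat +
  8 * (parJb3 c % 2).toNat

/-- The cofactor in the ideal `Jb`. -/
def quoJb (c : V8) : V8 :=
  ⟨((-4) * c.a0 + (-5) * c.a1 + (-2) * c.a2 + (-2) * c.a4 + (-2) * c.a5 + (-1) * c.a6) / 2,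
   ((2) * c.a0 + (3) * c.a1 + (1) * c.a2 + (1) * c.a4 + (1) * c.a5 + (1) * c.a6 + (-1) * c.a7) / 2,
   ((4) * c.a0 + (3) * c.a1 + (4) * c.a2 + (-4) * c.a3 + (2) * c.a4 + (-1) * c.a6 + (2) * c.a7) / 2,
   ((2) * c.a0 + (2) * c.a1 + (2) * c.a2 + (-2) * c.a3 + (2) * c.a4 + (2) * c.a5) / 2,
   ((-1) * c.a0 + (-3) * c.a2 + (4) * c.a3 + (-3) * c.a4 + (-4) * c.a5 + (2) * c.a6 + (-2) * c.a7) / 2,
   ((1) * c.a2 + (-2) * c.a3 + (1) * c.a4 + (2) * c.a5 + (-1) * c.a6 + (1) * c.a7) / 2,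
   ((2) * c.a0 + (4) * c.a1 + (-1) * c.a2 + (4) * c.a3 + (3) * c.a4 + (7) * c.a5 + (4) * c.a6 + (-7) * c.a7) / 2,
   ((1) * c.a0 + (3) * c.a1 + (-1) * c.a2 + (2) * c.a3 + (1) * c.a4 + (3) * c.a5 + (2) * c.a6 + (-4) * c.a7) / 2⟩

/-- Multiplication by the generator of `Jb`. -/
def timesJb : V8 → V8 :=
  lin ⟨-1, 0, 2, 0, -1, 0, 0, -1⟩ ⟨-5, 2, 7, 2, -2, 0, 0, -1⟩ ⟨2, -1, 1, 0, -3, 1, -1, -1⟩ ⟨0, 0, -6, -3, 6, -2, 4, 2⟩ ⟨2, -1, -2, -2, -2, 1, 3, 1⟩ ⟨2, -1, 0, -2, -6, 3, 3, 1⟩ ⟨1, -1, 1, 0, -2, 1, 1, 0⟩ ⟨0, 1, -2, 0, 2, -1, -3, -1⟩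

theorem timesJb_spec (c : V8) : ico (timesJb c) = ico c * (star icoH) := by
  rw [timesJb, ico_lin, ico_basis c]
  simp only [add_mul, smul_mul_assoc]
  rw [show (⟨-1, 0, 2, 0, -1, 0, 0, -1⟩ : V8) = prod e0 cHbar by decide +kernel,
    show (⟨-5, 2, 7, 2, -2, 0, 0, -1⟩ : V8) = prod e1 cHbar by decide +kernel,
    show (⟨2, -1, 1, 0, -3, 1, -1, -1⟩ : V8) = prod e2 cHbar by decide +kernel,
    show (⟨0, 0, -6, -3, 6, -2, 4, 2⟩ : V8) = prod e3 cHbar by decide +kernel,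
    show (⟨2, -1, -2, -2, -2, 1, 3, 1⟩ : V8) = prod e4 cHbar by decide +kernel,
    show (⟨2, -1, 0, -2, -6, 3, 3, 1⟩ : V8) = prod e5 cHbar by decide +kernel,
    show (⟨1, -1, 1, 0, -2, 1, 1, 0⟩ : V8) = prod e6 cHbar by decide +kernel,
    show (⟨0, 1, -2, 0, 2, -1, -3, -1⟩ : V8) = prod e7 cHbar by decide +kernel,
    prod_spec, prod_spec, prod_spec, prod_spec, prod_spec, prod_spec, prod_spec, prod_spec,
    ico_Hbar]

theorem clsJb_times (c : V8) : clsJb (timesJb c) = 0 := by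
  simp only [clsJb, timesJb, lin, add, smul, parJb0, parJb1, parJb2, parJb3]
  omega

theorem timesJb_quo {c : V8} (h : clsJb c = 0) : timesJb (quoJb c) = c := by
  obtain ⟨a0, a1, a2, a3, a4, a5, a6, a7⟩ := c
  simp only [clsJb, parJb0, parJb1, parJb2, parJb3] at h
  obtain ⟨t, rfl⟩ : ∃ t, a5 = 2 * t - a1 := ⟨(a5 + (0 - a1) * -1) / 2, by omega⟩
  obtain ⟨u, rfl⟩ : ∃ u, a6 = 2 * u - a1 := ⟨(a6 + (0 - a1) * -1) / 2, by omega⟩
  obtain ⟨v, rfl⟩ : ∃ v, a4 = 2 * v - a0 - a2 := ⟨(a4 + (0 - a0 - a2) * -1) / 2, by omega⟩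
  obtain ⟨w, rfl⟩ : ∃ w, a7 = 2 * w - a0 - a1 := ⟨(a7 + (0 - a0 - a1) * -1) / 2, by omega⟩
  simp only [timesJb, quoJb, lin, add, smul, V8.mk.injEq]
  omega

theorem mem_Jb {c : V8} : ico c ∈ leftIdeal (star icoH) ↔ clsJb c = 0 := by
  constructor
  · rintro ⟨a, ha, h⟩
    obtain ⟨d, rfl⟩ := mem_icosians.mp ha
    rw [← timesJb_spec] at h
    rw [ico_injective h, clsJb_times]
  · intro h
    exact ⟨_, mem_icosians.mpr ⟨quoJb c, rfl⟩, by rw [← timesJb_spec, timesJb_quo h]⟩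

theorem clsJb_sub {c d : V8} : clsJb (V8.sub c d) = 0 ↔ clsJb c = clsJb d := by
  have h0 : parJb0 (V8.sub c d) = parJb0 c - parJb0 d := by simp [parJb0, V8.sub, add, neg]; ring
  have h1 : parJb1 (V8.sub c d) = parJb1 c - parJb1 d := by simp [parJb1, V8.sub, add, neg]; ring
  have h2 : parJb2 (V8.sub c d) = parJb2 c - parJb2 d := by simp [parJb2, V8.sub, add, neg]; ring
  have h3 : parJb3 (V8.sub c d) = parJb3 c - parJb3 d := by simp [parJb3, V8.sub, add, neg]; ring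
  change bits (parJb0 (V8.sub c d)) (parJb1 (V8.sub c d)) (parJb2 (V8.sub c d))
      (parJb3 (V8.sub c d)) = 0 ↔ bits _ _ _ _ = bits _ _ _ _
  rw [h0, h1, h2, h3, bits_eq_zero, bits_eq_iff]
  omega

/-- The three components of a vector of the lattice, in coordinates. -/
theorem mem_icoLeech {v : Fin 3 → ℍ[ℝ]} : v ∈ icoLeech ↔ ∃ x y z : V8,
    v 0 = ico x ∧ v 1 = ico y ∧ v 2 = ico z ∧
      clsJ x = clsJ y ∧ clsJ y = clsJ z ∧ clsJb (add (add x y) z) = 0 := by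
  constructor
  · rintro ⟨h, h1, h2, h3⟩
    obtain ⟨x, hx⟩ := mem_icosians.mp (h 0)
    obtain ⟨y, hy⟩ := mem_icosians.mp (h 1)
    obtain ⟨z, hz⟩ := mem_icosians.mp (h 2)
    refine ⟨x, y, z, hx.symm, hy.symm, hz.symm, ?_⟩
    rw [← hx, ← hy] at h1
    rw [← hy, ← hz] at h2
    rw [← hx, ← hy, ← hz] at h3
    have e : ∀ c d, ico c - ico d = ico (V8.sub c d) := fun c d => by
      rw [V8.sub, ico_add, ico_neg, sub_eq_add_neg]
    rw [e, mem_J, clsJ_sub] at h1 h2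
    rw [← ico_add, ← ico_add, mem_Jb] at h3
    exact ⟨h1, h2, h3⟩
  · rintro ⟨x, y, z, hx, hy, hz, h1, h2, h3⟩
    have e : ∀ c d, ico c - ico d = ico (V8.sub c d) := fun c d => by
      rw [V8.sub, ico_add, ico_neg, sub_eq_add_neg]
    refine ⟨fun t => ?_, ?_, ?_, ?_⟩
    · fin_cases t
      exacts [mem_icosians.mpr ⟨x, hx.symm⟩, mem_icosians.mpr ⟨y, hy.symm⟩,
        mem_icosians.mpr ⟨z, hz.symm⟩]
    · rw [hx, hy, e, mem_J, clsJ_sub]; exact h1
    · rw [hy, hz, e, mem_J, clsJ_sub]; exact h2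
    · rw [hx, hy, hz, ← ico_add, ← ico_add, mem_Jb]; exact h3

end Cfsg.Agent.Steiner.Ico
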