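import Cfsg.Agent.Lib.Steiner.Ico.Scan
import Cfsg.Agent.Lib.Steiner.Ico.GroupData

/-!
# The minimal vectors and the reflections of the icosian Leech lattice
-/

set_option autoImplicit false
set_option maxRecDepth 100000

namespace Cfsg.Agent.Steiner.Ico

open Quaternion Cfsg.Spor Cfsg.Agent.CosetEnum
open V8

/-- Triples of coordinates. -/
abbrev Tri := V8 × V8 × V8

theorem vecOf_zero_apply (t : Tri) : vecOf t 0 = ico t.1 := rfl

theorem vecOf_one_apply (t : Tri) : vecOf t 1 = ico t.2.1 := rfl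

theorem vecOf_two_apply (t : Tri) : vecOf t 2 = ico t.2.2 := rfl

theorem vecOf_injective : Function.Injective vecOf := by
  rintro ⟨a, b, c⟩ ⟨a', b', c'⟩ h
  have h0 := ico_injective (congrFun h 0)
  have h1 := ico_injective (congrFun h 1)
  have h2 := ico_injective (congrFun h 2)
  simp_all

/-- Membership of the lattice, in coordinates. -/
def memC (t : Tri) : Bool :=
  decide (clsJ t.1 = clsJ t.2.1) && decide (clsJ t.2.1 = clsJ t.2.2) &&
    decide (clsJb (add (add t.1 t.2.1) t.2.2) = 0)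

/-- The minimal vectors, in coordinates. -/
def minC (t : Tri) : Bool :=
  memC t && decide (cA t.1 + cA t.2.1 + cA t.2.2 = 64) &&
    decide (cB t.1 + cB t.2.1 + cB t.2.2 = 0)

theorem mem_L_iff {t : Tri} : vecOf t ∈ icoLeech ↔ memC t = true := by
  simp only [memC, Bool.and_eq_true, decide_eq_true_eq]
  constructor
  · intro h
    obtain ⟨x, y, z, hx, hy, hz, h1, h2, h3⟩ := mem_icoLeech.mp h
    rw [ico_injective hx, ico_injective hy, ico_injective hz]
    exact ⟨⟨h1, h2⟩, h3⟩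
  · rintro ⟨⟨h1, h2⟩, h3⟩
    exact mem_icoLeech.mpr ⟨_, _, _, rfl, rfl, rfl, h1, h2, h3⟩

theorem exists_coords {v : Fin 3 → ℍ[ℝ]} (h : v ∈ icoLeech) : ∃ t : Tri, vecOf t = v := by
  obtain ⟨x, y, z, hx, hy, hz, -⟩ := mem_icoLeech.mp h
  refine ⟨(x, y, z), ?_⟩
  funext t
  fin_cases t
  exacts [hx.symm, hy.symm, hz.symm]

theorem mem_minimal_iff {t : Tri} : vecOf t ∈ minimal ↔ minC t = true := by
  simp only [minC, Bool.and_eq_true, decide_eq_true_eq, ← mem_L_iff]
  rw [minimal, Set.mem_ofPred_eq,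
    qip_self_eq_four (vecOf_zero_apply t) (vecOf_one_apply t) (vecOf_two_apply t), and_assoc]

/-- A scalar acts on the left. -/
theorem smul_apply (q : ℍ[ℝ]) (v : Fin 3 → ℍ[ℝ]) (t : Fin 3) : (q • v) t = q * v t := rfl

theorem leftIdeal_mul {g q x : ℍ[ℝ]} (hq : q ∈ icosians) (hx : x ∈ leftIdeal g) :
    q * x ∈ leftIdeal g := by
  obtain ⟨a, ha, rfl⟩ := hx
  exact ⟨q * a, mul_mem hq ha, (mul_assoc _ _ _).symm⟩

theorem leftIdeal_add {g x y : ℍ[ℝ]} (hx : x ∈ leftIdeal g) (hy : y ∈ leftIdeal g) :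
    x + y ∈ leftIdeal g := by
  obtain ⟨a, ha, rfl⟩ := hx
  obtain ⟨b, hb, rfl⟩ := hy
  exact ⟨a + b, add_mem ha hb, (add_mul _ _ _).symm⟩

theorem smul_mem_L {q : ℍ[ℝ]} {v : Fin 3 → ℍ[ℝ]} (hq : q ∈ icosians) (hv : v ∈ icoLeech) :
    q • v ∈ icoLeech := by
  obtain ⟨h0, h1, h2, h3⟩ := hv
  refine ⟨fun t => mul_mem hq (h0 t), ?_, ?_, ?_⟩ <;> simp only [smul_apply, ← mul_sub, ← mul_add]
  exacts [leftIdeal_mul hq h1, leftIdeal_mul hq h2, leftIdeal_mul hq h3]

theorem add_mem_L {v w : Fin 3 → ℍ[ℝ]} (hv : v ∈ icoLeech) (hw : w ∈ icoLeech) :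
    v + w ∈ icoLeech := by
  obtain ⟨h0, h1, h2, h3⟩ := hv
  obtain ⟨k0, k1, k2, k3⟩ := hw
  refine ⟨fun t => add_mem (h0 t) (k0 t), ?_, ?_, ?_⟩
  · rw [Pi.add_apply, Pi.add_apply, add_sub_add_comm]; exact leftIdeal_add h1 k1
  · rw [Pi.add_apply, Pi.add_apply, add_sub_add_comm]; exact leftIdeal_add h2 k2
  · have e : (v + w) 0 + (v + w) 1 + (v + w) 2 = v 0 + v 1 + v 2 + (w 0 + w 1 + w 2) := by
      simp only [Pi.add_apply]; abel
    rw [e]; exact leftIdeal_add h3 k3

theorem neg_one_mem : (-1 : ℍ[ℝ]) ∈ icosians := neg_mem (one_mem _)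

theorem sub_mem_L {v w : Fin 3 → ℍ[ℝ]} (hv : v ∈ icoLeech) (hw : w ∈ icoLeech) :
    v - w ∈ icoLeech := by
  rw [sub_eq_add_neg, ← neg_one_smul ℍ[ℝ] w]
  exact add_mem_L hv (smul_mem_L neg_one_mem hw)

/-- The scalar multiple, in coordinates. -/
def smulC (u : V8) (t : Tri) : Tri := (prod u t.1, prod u t.2.1, prod u t.2.2)

theorem vecOf_smulC (u : V8) (t : Tri) : vecOf (smulC u t) = ico u • vecOf t := by
  funext i
  fin_cases i <;> exact prod_spec _ _

/-- The first lattice generator. -/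
def gen0 : Tri := (cOne, cOne, genThird)

/-- The second lattice generator. -/
def gen1 : Tri := (zero, cH, cH)

/-- The third lattice generator. -/
def gen2 : Tri := (zero, zero, smul 2 cOne)

theorem gens_mem : memC gen0 = true ∧ memC gen1 = true ∧ memC gen2 = true := by decide +kernel

theorem even_of_classes {c : V8} (hJ : clsJ c = 0) (hb : clsJb c = 0) :
    ∃ w, c = smul 2 w := by
  obtain ⟨a0, a1, a2, a3, a4, a5, a6, a7⟩ := c
  simp only [clsJ, parJ0, parJ1, parJ2, parJ3] at hJ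
  simp only [clsJb, parJb0, parJb1, parJb2, parJb3] at hb
  refine ⟨⟨a0 / 2, a1 / 2, a2 / 2, a3 / 2, a4 / 2, a5 / 2, a6 / 2, a7 / 2⟩, ?_⟩
  simp only [smul, V8.mk.injEq]
  omega

/-- The three generators span the lattice as a left module over the icosians. -/
theorem lattice_induction {P : (Fin 3 → ℍ[ℝ]) → Prop}
    (hadd : ∀ v w, P v → P w → P (v + w))
    (hsmul : ∀ q ∈ icosians, ∀ v, P v → P (q • v))
    (h0 : P (vecOf gen0)) (h1 : P (vecOf gen1)) (h2 : P (vecOf gen2))
    {v : Fin 3 → ℍ[ℝ]} (hv : v ∈ icoLeech) : P v := by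
  obtain ⟨x, hx⟩ := mem_icosians.mp (hv.1 0)
  set v1 := v - ico x • vecOf gen0 with hv1
  have m1 : v1 ∈ icoLeech :=
    sub_mem_L hv (smul_mem_L (mem_icosians.mpr ⟨x, rfl⟩) (mem_L_iff.mpr gens_mem.1))
  have z0 : v1 0 = 0 := by
    rw [hv1, Pi.sub_apply, smul_apply, vecOf_zero_apply, ← hx]
    simp [gen0, ico_one]
  obtain ⟨a, ha, hv11⟩ := m1.2.1
  rw [z0, zero_sub] at hv11
  set v2 := v1 - (-a) • vecOf gen1 with hv2
  have m2 : v2 ∈ icoLeech := sub_mem_L m1 (smul_mem_L (neg_mem ha) (mem_L_iff.mpr gens_mem.2.1))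
  have y0 : v2 0 = 0 := by
    rw [hv2, Pi.sub_apply, smul_apply, vecOf_zero_apply, z0]
    simp [gen1, ico_zero]
  have y1 : v2 1 = 0 := by
    rw [hv2, Pi.sub_apply, smul_apply, vecOf_one_apply]
    simp [gen1, ico_H, ← hv11]
  obtain ⟨p, q, r, hp, hq, hr, c1, c2, c3⟩ := mem_icoLeech.mp m2
  rw [y0, ← ico_zero] at hp
  rw [y1, ← ico_zero] at hq
  rw [← ico_injective hp, ← ico_injective hq] at *
  have hJ0 : clsJ zero = 0 := by decide
  rw [hJ0] at c2
  have hz : add (add zero zero) r = r := by simp [add, zero]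
  rw [hz] at c3
  obtain ⟨w, rfl⟩ := even_of_classes c2.symm c3
  have hw : v2 = ico w • vecOf gen2 := by
    funext t
    fin_cases t <;> simp only [smul_apply, gen2] <;>
      simp [vecOf, y0, y1, hr, ico_zero, ico_smul, ico_one, two_mul, mul_two, mul_add]
  have e : v = ico x • vecOf gen0 + ((-a) • vecOf gen1 + ico w • vecOf gen2) := by
    rw [← hw, hv2, hv1]; abel
  rw [e]
  exact hadd _ _ (hsmul _ (mem_icosians.mpr ⟨x, rfl⟩) _ h0)
    (hadd _ _ (hsmul _ (neg_mem ha) _ h1) (hsmul _ (mem_icosians.mpr ⟨w, rfl⟩) _ h2))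

theorem qip_add (x y r : Fin 3 → ℍ[ℝ]) : qip (x + y) r = qip x r + qip y r := by
  simp [qip, Finset.sum_add_distrib, add_mul]

theorem qip_smul (q : ℍ[ℝ]) (x r : Fin 3 → ℍ[ℝ]) : qip (q • x) r = q * qip x r := by
  simp [qip, Finset.mul_sum, mul_assoc]

theorem qip_sub (x y r : Fin 3 → ℍ[ℝ]) : qip (x - y) r = qip x r - qip y r := by
  simp [qip, Finset.sum_sub_distrib, sub_mul]

theorem qip_smul_right (q : ℍ[ℝ]) (x r : Fin 3 → ℍ[ℝ]) : qip x (q • r) = qip x r * star q := by
  simp [qip, Finset.sum_mul, mul_assoc]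

theorem qip_sub_right (x y r : Fin 3 → ℍ[ℝ]) : qip r (x - y) = qip r x - qip r y := by
  simp [qip, Finset.sum_sub_distrib, mul_sub]

theorem star_qip (x r : Fin 3 → ℍ[ℝ]) : star (qip x r) = qip r x := by
  simp [qip, star_sum]

theorem qrefl_eq (r x : Fin 3 → ℍ[ℝ]) : qrefl r x = x - ((1 / 2 : ℝ) • qip x r) • r := rfl

theorem half_double (a : ℍ[ℝ]) : (1 / 2 : ℝ) • (a + a) = a := by
  rw [← two_smul ℝ a, smul_smul]
  norm_num

theorem qrefl_smul_unit {u : ℍ[ℝ]} (hu : normSq u = 1) (r x : Fin 3 → ℍ[ℝ]) :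
    qrefl (u • r) x = qrefl r x := by
  rw [qrefl_eq, qrefl_eq, qip_smul_right, smul_smul, ← smul_mul_assoc, mul_assoc,
    Quaternion.star_mul_self, hu, Quaternion.coe_one, mul_one]

theorem qip_qrefl_self {r : Fin 3 → ℍ[ℝ]} (hr : qip r r = 4) (x : Fin 3 → ℍ[ℝ]) :
    qip (qrefl r x) r = -qip x r := by
  rw [qrefl_eq, qip_sub, qip_smul, hr, show (4 : ℍ[ℝ]) = ((4 : ℝ) : ℍ[ℝ]) from
    (map_ofNat (algebraMap ℝ ℍ[ℝ]) 4).symm, Quaternion.mul_coe_eq_smul, smul_smul]
  module

theorem qrefl_qrefl {r : Fin 3 → ℍ[ℝ]} (hr : qip r r = 4) (x : Fin 3 → ℍ[ℝ]) :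
    qrefl r (qrefl r x) = x := by
  rw [qrefl_eq r (qrefl r x), qip_qrefl_self hr, qrefl_eq]
  simp [smul_neg, neg_smul]

/-- The integer form of twice a Hermitian product. -/
def dotC (x r : Tri) : V8 :=
  add (add (raw (vec x.1) (V8.conj (vec r.1))) (raw (vec x.2.1) (V8.conj (vec r.2.1))))
    (raw (vec x.2.2) (V8.conj (vec r.2.2)))

/-- Half a Hermitian product, in coordinates. -/
def halfC (x r : Tri) : V8 := co (V8.div (dotC x r) 8)

theorem toH_dotC (x r : Tri) : toH (dotC x r) = (4 : ℤ) • qip (vecOf x) (vecOf r) := by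
  rw [dotC, toH_add, toH_add, toH_raw, toH_raw, toH_raw, toH_conj, toH_conj, toH_conj, qip,
    Fin.sum_univ_three, smul_add, smul_add]
  rfl

theorem qip_of_dotC {x r : Tri} {w : V8} (h : dotC x r = smul 8 (vec w)) :
    qip (vecOf x) (vecOf r) = ico w + ico w := by
  have e := congrArg toH h
  rw [toH_dotC, toH_smul, ← Int.cast_smul_eq_zsmul ℝ, ← Int.cast_smul_eq_zsmul ℝ] at e
  refine smul_right_injective ℍ[ℝ] (by norm_num : ((4 : ℤ) : ℝ) ≠ 0) ?_
  simp only at e ⊢
  rw [e, smul_add, ← add_smul]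
  norm_num
  rfl

theorem halfC_eq {x r : Tri} {a : ℍ[ℝ]} (ha : a ∈ icosians)
    (h : qip (vecOf x) (vecOf r) = a + a) : ico (halfC x r) = a := by
  obtain ⟨w, rfl⟩ := mem_icosians.mp ha
  have e : dotC x r = smul 8 (vec w) := by
    apply toH_injective
    rw [toH_dotC, h, toH_smul]
    change (4 : ℤ) • (ico w + ico w) = (8 : ℤ) • ico w
    rw [smul_add, ← add_smul]
    norm_num
  have h8 : V8.div (smul 8 (vec w)) 8 = vec w := by simp [V8.div, smul]
  rw [halfC, e, h8, co_vec]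

/-- The chosen minimal vectors, in coordinates. -/
noncomputable def rep (k : ℕ) : Tri := repTree.get k

/-- The chosen minimal vectors. -/
noncomputable def repV (k : ℕ) : Fin 3 → ℍ[ℝ] := vecOf (rep k)

/-- The check on a chosen minimal vector. -/
def repCheck (r : Tri) : Bool :=
  minC r && decide (dotC gen0 r = smul 8 (vec (halfC gen0 r))) &&
    decide (dotC gen1 r = smul 8 (vec (halfC gen1 r))) &&
    decide (dotC gen2 r = smul 8 (vec (halfC gen2 r)))

theorem reps_ok : repTree.all repCheck = true := by decide +kernel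

theorem rep_spec (k : ℕ) : minC (rep k) = true ∧
    ∀ g ∈ [gen0, gen1, gen2], qip (vecOf g) (repV k) = ico (halfC g (rep k)) + ico (halfC g (rep k)) := by
  have h : repCheck (rep k) = true := DTree.all_get reps_ok k
  simp only [repCheck, Bool.and_eq_true, decide_eq_true_eq] at h
  obtain ⟨⟨⟨h0, h1⟩, h2⟩, h3⟩ := h
  refine ⟨h0, ?_⟩
  simp only [List.forall_mem_cons]
  exact ⟨qip_of_dotC h1, qip_of_dotC h2, qip_of_dotC h3, by simp⟩

theorem repV_minimal (k : ℕ) : repV k ∈ minimal := mem_minimal_iff.mpr (rep_spec k).1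

theorem repV_even (k : ℕ) {x : Fin 3 → ℍ[ℝ]} (hx : x ∈ icoLeech) :
    ∃ a ∈ icosians, qip x (repV k) = a + a := by
  have h := (rep_spec k).2
  simp only [List.forall_mem_cons] at h
  refine lattice_induction (P := fun v => ∃ a ∈ icosians, qip v (repV k) = a + a) ?_ ?_
    ⟨_, mem_icosians.mpr ⟨_, rfl⟩, h.1⟩
    ⟨_, mem_icosians.mpr ⟨_, rfl⟩, h.2.1⟩ ⟨_, mem_icosians.mpr ⟨_, rfl⟩, h.2.2.1⟩ hx
  · rintro v w ⟨a, ha, ea⟩ ⟨b, hb, eb⟩
    exact ⟨a + b, add_mem ha hb, by rw [qip_add, ea, eb]; abel⟩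
  · rintro q hq v ⟨a, ha, ea⟩
    exact ⟨q * a, mul_mem hq ha, by rw [qip_smul, ea, mul_add]⟩

theorem units_ok : unitsC.all (fun u => decide (cA u = 16) && decide (cB u = 0)) = true ∧
    unitsC.Nodup ∧ unitsC.length = 120 := by
  decide +kernel

theorem unit_norm {u : V8} (hu : u ∈ unitsC) : normSq (ico u) = 1 := by
  have h := List.all_eq_true.mp units_ok.1 u hu
  simp only [Bool.and_eq_true, decide_eq_true_eq] at h
  simp only [cA, cB] at h
  rw [ico, normSq_toH, h.1, h.2]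
  norm_num

theorem unit_ne {u : V8} (hu : u ∈ unitsC) : ico u ≠ 0 := fun h => by
  have := unit_norm hu
  simp [h] at this

/-- The products of conjugate components with components. -/
def invList (r : Tri) : List V8 :=
  [raw (V8.conj (vec r.1)) (vec r.1), raw (V8.conj (vec r.1)) (vec r.2.1),
   raw (V8.conj (vec r.1)) (vec r.2.2), raw (V8.conj (vec r.2.1)) (vec r.1),
   raw (V8.conj (vec r.2.1)) (vec r.2.1), raw (V8.conj (vec r.2.1)) (vec r.2.2),
   raw (V8.conj (vec r.2.2)) (vec r.1), raw (V8.conj (vec r.2.2)) (vec r.2.1),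
   raw (V8.conj (vec r.2.2)) (vec r.2.2)]

/-- A numeral for a list of octuples. -/
def codeList (l : List V8) : ℕ :=
  (l.flatMap fun v => [v.a0, v.a1, v.a2, v.a3, v.a4, v.a5, v.a6, v.a7]).foldl
    (fun n a => n * 512 + (a + 256).toNat) 0

theorem code_mono : allRange (fun k => Nat.blt (codeList (invList (rep k)))
    (codeList (invList (rep (k + 1))))) 0 314 = true := by
  decide +kernel

theorem code_inj {k l : ℕ} (hk : k < 315) (hl : l < 315)
    (h : codeList (invList (rep k)) = codeList (invList (rep l))) : k = l := by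
  have step : ∀ i, i < 314 → codeList (invList (rep i)) < codeList (invList (rep (i + 1))) :=
    fun i hi => Nat.blt_eq ▸ allRange_spec code_mono i (Nat.zero_le _) (by omega)
  have mono : ∀ i j, i < j → j < 315 →
      codeList (invList (rep i)) < codeList (invList (rep j)) := by
    intro i j hij
    induction j, hij using Nat.le_induction with
    | base => exact fun hj => step i (by omega)
    | succ j hij ih => exact fun hj => (ih (by omega)).trans (step j (by omega))
  rcases lt_trichotomy k l with hlt | rfl | hlt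
  · exact absurd h (mono k l hlt hl).ne
  · rfl
  · exact absurd h (mono l k hlt hk).ne'

/-- Two chosen vectors with the same products agree. -/
theorem rep_eq_of_products {k l : ℕ} (hk : k < 315) (hl : l < 315)
    (h : ∀ s t, star (repV k s) * repV k t = star (repV l s) * repV l t) : k = l := by
  refine code_inj hk hl (congrArg codeList ?_)
  have e : ∀ a b a' b' : V8, star (ico a) * ico b = star (ico a') * ico b' →
      raw (V8.conj (vec a)) (vec b) = raw (V8.conj (vec a')) (vec b') := fun a b a' b' hab => by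
    apply toH_injective
    rw [toH_raw, toH_raw, toH_conj, toH_conj]
    exact congrArg ((4 : ℤ) • ·) hab
  simp only [invList]
  rw [e _ _ _ _ (h 0 0), e _ _ _ _ (h 0 1), e _ _ _ _ (h 0 2), e _ _ _ _ (h 1 0),
    e _ _ _ _ (h 1 1), e _ _ _ _ (h 1 2), e _ _ _ _ (h 2 0), e _ _ _ _ (h 2 1),
    e _ _ _ _ (h 2 2)]

theorem products_smul_unit {u : ℍ[ℝ]} (hu : normSq u = 1) (r : Fin 3 → ℍ[ℝ]) (s t : Fin 3) :
    star ((u • r) s) * (u • r) t = star (r s) * r t := by
  rw [smul_apply, smul_apply, star_mul, mul_assoc, ← mul_assoc (star u), Quaternion.star_mul_self,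
    hu, Quaternion.coe_one, one_mul]

theorem ico_unit_smul_mem {u : V8} (hu : u ∈ unitsC) (k : ℕ) : ico u • repV k ∈ minimal := by
  refine ⟨smul_mem_L (mem_icosians.mpr ⟨u, rfl⟩) (repV_minimal k).1, ?_⟩
  rw [qip_smul, qip_smul_right, (repV_minimal k).2, show (4 : ℍ[ℝ]) = ((4 : ℝ) : ℍ[ℝ]) from
    (map_ofNat (algebraMap ℝ ℍ[ℝ]) 4).symm, Quaternion.coe_mul_eq_smul, mul_smul_comm,
    Quaternion.self_mul_star, unit_norm hu]
  simp [Algebra.smul_def]

theorem repV_ne_zero (k : ℕ) : repV k ≠ 0 := fun h => by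
  have := (repV_minimal k).2
  rw [h] at this
  have e := congrArg (fun q : ℍ[ℝ] => q.re) this
  rw [show (4 : ℍ[ℝ]) = ((4 : ℝ) : ℍ[ℝ]) from (map_ofNat (algebraMap ℝ ℍ[ℝ]) 4).symm] at e
  simp [qip] at e

/-- All the minimal vectors. -/
noncomputable def minSet : Finset (Fin 3 → ℍ[ℝ]) := by
  classical
  exact (Finset.range 315 ×ˢ unitsC.toFinset).image fun p => ico p.2 • repV p.1

theorem minSet_card : minSet.card = 37800 := by
  classical
  rw [minSet, Finset.card_image_of_injOn, Finset.card_product, Finset.card_range,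
    List.toFinset_card_of_nodup units_ok.2.1, units_ok.2.2]
  rintro ⟨k, u⟩ hku ⟨l, v⟩ hlv h
  simp only [Finset.coe_product, Set.mem_prod, Finset.coe_range, Set.mem_Iio,
    List.coe_toFinset, Set.mem_ofPred_eq] at hku hlv
  simp only at h
  have hkl : k = l := rep_eq_of_products hku.1 hlv.1 fun s t => by
    rw [← products_smul_unit (unit_norm hku.2), h, products_smul_unit (unit_norm hlv.2)]
  subst hkl
  obtain ⟨t, ht⟩ := Function.ne_iff.mp (repV_ne_zero k)
  have e := congrFun h t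
  rw [smul_apply, smul_apply] at e
  rw [ico_injective (mul_right_cancel₀ ht e)]

theorem minimal_eq : minimal = minSet := by
  classical
  refine (Set.eq_of_subset_of_ncard_le ?_ ?_ minimal_finite).symm
  · intro r hr
    simp only [minSet, Finset.coe_image, Set.mem_image] at hr
    obtain ⟨⟨k, u⟩, hku, rfl⟩ := hr
    simp only [Finset.mem_coe, Finset.mem_product, List.mem_toFinset] at hku
    exact ico_unit_smul_mem hku.2 k
  · rw [Set.ncard_coe_finset, minSet_card]
    exact minimal_ncard_le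

theorem minimal_ncard : minimal.ncard = 37800 := by
  rw [minimal_eq, Set.ncard_coe_finset, minSet_card]

theorem minimal_iff {r : Fin 3 → ℍ[ℝ]} :
    r ∈ minimal ↔ ∃ k < 315, ∃ u ∈ unitsC, r = ico u • repV k := by
  classical
  rw [minimal_eq]
  simp only [minSet, Finset.coe_image, Set.mem_image, Finset.mem_coe, Finset.mem_product,
    Finset.mem_range, List.mem_toFinset, Prod.exists]
  constructor
  · rintro ⟨k, u, ⟨hk, hu⟩, rfl⟩
    exact ⟨k, hk, u, hu, rfl⟩
  · rintro ⟨k, hk, u, hu, rfl⟩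
    exact ⟨k, u, ⟨hk, hu⟩, rfl⟩

theorem qrefl_mem {r x : Fin 3 → ℍ[ℝ]} (hr : r ∈ minimal) (hx : x ∈ icoLeech) :
    qrefl r x ∈ icoLeech := by
  obtain ⟨k, -, u, hu, rfl⟩ := minimal_iff.mp hr
  obtain ⟨a, ha, e⟩ := repV_even k hx
  rw [qrefl_smul_unit (unit_norm hu), qrefl_eq, e, half_double]
  exact sub_mem_L hx (smul_mem_L ha (repV_minimal k).1)

/-- The map on the lattice of a reflection. -/
noncomputable def reflFun (r : Fin 3 → ℍ[ℝ]) (hr : r ∈ minimal) (x : icoLeech) : icoLeech :=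
  ⟨qrefl r x, qrefl_mem hr x.2⟩

theorem reflFun_involutive (r : Fin 3 → ℍ[ℝ]) (hr : r ∈ minimal) :
    Function.Involutive (reflFun r hr) := fun x => Subtype.ext (qrefl_qrefl hr.2 x.1)

/-- The reflection in a chosen minimal vector. -/
noncomputable def refl (k : ℕ) : Equiv.Perm icoLeech :=
  Function.Involutive.toPerm _ (reflFun_involutive (repV k) (repV_minimal k))

theorem refl_apply (k : ℕ) (x : icoLeech) :
    ((refl k x : icoLeech) : Fin 3 → ℍ[ℝ]) = qrefl (repV k) x := rfl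

theorem refl_mul_self (k : ℕ) : refl k * refl k = 1 :=
  Equiv.ext fun x => reflFun_involutive (repV k) (repV_minimal k) x

theorem refl_isRefl (k : ℕ) : IsIcoReflection (refl k) :=
  ⟨⟨repV k, (repV_minimal k).1⟩, (repV_minimal k).2, refl_apply k⟩

theorem refl_mem (k : ℕ) : refl k ∈ twoJ2 := Subgroup.subset_closure (refl_isRefl k)

theorem eq_refl_of_apply {f : Equiv.Perm icoLeech} {r : Fin 3 → ℍ[ℝ]} (hr : r ∈ minimal)
    (hf : ∀ x : icoLeech, ((f x : icoLeech) : Fin 3 → ℍ[ℝ]) = qrefl r x) :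
    ∃ k < 315, f = refl k ∧ ∃ u ∈ unitsC, r = ico u • repV k := by
  obtain ⟨k, hk, u, hu, rfl⟩ := minimal_iff.mp hr
  refine ⟨k, hk, Equiv.ext fun x => Subtype.ext ?_, u, hu, rfl⟩
  rw [hf x, qrefl_smul_unit (unit_norm hu), refl_apply]

theorem isRefl_iff {f : Equiv.Perm icoLeech} : IsIcoReflection f ↔ ∃ k < 315, f = refl k := by
  constructor
  · rintro ⟨r, hr, hf⟩
    obtain ⟨k, hk, e, -⟩ := eq_refl_of_apply ⟨r.2, hr⟩ hf
    exact ⟨k, hk, e⟩
  · rintro ⟨k, -, rfl⟩
    exact refl_isRefl k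

/-- Twice a coordinate vector, in coordinates. -/
def axisC : Fin 3 → Tri :=
  ![(smul 2 cOne, zero, zero), (zero, smul 2 cOne, zero), (zero, zero, smul 2 cOne)]

theorem axisC_mem (t : Fin 3) : memC (axisC t) = true := by
  fin_cases t <;> decide +kernel

theorem vecOf_axisC (t : Fin 3) : vecOf (axisC t) = Pi.single t (1 + 1) := by
  funext s
  fin_cases t <;> fin_cases s <;>
    simp [axisC, vecOf, ico_smul, ico_one, ico_zero, two_smul, Pi.single_apply]

/-- Twice a coordinate vector. -/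
noncomputable def axisV (t : Fin 3) : icoLeech := ⟨vecOf (axisC t), mem_L_iff.mpr (axisC_mem t)⟩

theorem qip_axis (t : Fin 3) (r : Fin 3 → ℍ[ℝ]) :
    qip (vecOf (axisC t)) r = star (r t) + star (r t) := by
  rw [vecOf_axisC, qip, Finset.sum_eq_single t (fun s _ hs => by simp [hs])
    (fun h => absurd (Finset.mem_univ t) h)]
  simp [add_mul]

theorem refl_inj {k l : ℕ} (hk : k < 315) (hl : l < 315) (h : refl k = refl l) : k = l := by
  refine rep_eq_of_products hk hl fun s t => ?_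
  have e := congrArg (fun f : Equiv.Perm icoLeech => (f (axisV s) : Fin 3 → ℍ[ℝ]) t) h
  simp only [refl_apply, qrefl, axisV, qip_axis, half_double] at e
  exact sub_right_inj.mp e

theorem refl_ncard : {f : Equiv.Perm icoLeech | IsIcoReflection f}.ncard = 315 := by
  have e : {f : Equiv.Perm icoLeech | IsIcoReflection f} = refl '' ↑(Finset.range 315) := by
    ext f
    rw [Set.mem_ofPred_eq, isRefl_iff]
    simp [eq_comm]
  rw [e, Set.InjOn.ncard_image (fun k hk l hl h => refl_inj (by simpa using hk) (by simpa using hl) h),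
    Set.ncard_coe_finset, Finset.card_range]

end Cfsg.Agent.Steiner.Ico
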