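import Cfsg.Agent.Lib.Steiner.Ico.Data

/-!
# At most 37800 minimal vectors in the icosian Leech lattice
-/

set_option autoImplicit false
set_option maxRecDepth 100000

namespace Cfsg.Agent.Steiner.Ico

open Quaternion Cfsg.Spor Cfsg.Agent.CosetEnum
open V8

/-- Sixteen times the rational part of the norm. -/
def nA (v : V8) : ℤ :=
  v.a0 * v.a0 + 5 * (v.a1 * v.a1) + (v.a2 * v.a2 + 5 * (v.a3 * v.a3)) +
    (v.a4 * v.a4 + 5 * (v.a5 * v.a5)) + (v.a6 * v.a6 + 5 * (v.a7 * v.a7))

/-- Sixteen times the irrational part of the norm. -/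
def nB (v : V8) : ℤ := 2 * (v.a0 * v.a1 + v.a2 * v.a3 + v.a4 * v.a5 + v.a6 * v.a7)

theorem normSq_toH (v : V8) :
    normSq (toH v) = ((nA v : ℝ) + (nB v : ℝ) * Real.sqrt 5) / 16 := by
  have h := sqrt5_sq
  simp [normSq_def', toH_re, toH_imI, toH_imJ, toH_imK, nA, nB]
  grind

theorem nA_nonneg (v : V8) : 0 ≤ nA v := by
  unfold nA
  nlinarith [mul_self_nonneg v.a0, mul_self_nonneg v.a1, mul_self_nonneg v.a2,
    mul_self_nonneg v.a3, mul_self_nonneg v.a4, mul_self_nonneg v.a5, mul_self_nonneg v.a6,
    mul_self_nonneg v.a7]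

/-- The norm data of an icosian. -/
def cA (c : V8) : ℤ := nA (vec c)

/-- The norm data of an icosian. -/
def cB (c : V8) : ℤ := nB (vec c)

theorem qip_self_eq_four {r : Fin 3 → ℍ[ℝ]} {x y z : V8}
    (hx : r 0 = ico x) (hy : r 1 = ico y) (hz : r 2 = ico z) :
    qip r r = 4 ↔ cA x + cA y + cA z = 64 ∧ cB x + cB y + cB z = 0 := by
  have e : qip r r = ((((cA x + cA y + cA z : ℤ) : ℝ) +
      ((cB x + cB y + cB z : ℤ) : ℝ) * Real.sqrt 5) / 16 : ℝ) := by
    rw [qip, Fin.sum_univ_three, hx, hy, hz]
    simp only [Quaternion.self_mul_star, ico, normSq_toH, cA, cB]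
    rw [← Quaternion.coe_add, ← Quaternion.coe_add]
    congr 1
    push_cast
    ring
  rw [e, show (4 : ℍ[ℝ]) = ((4 : ℝ) : ℍ[ℝ]) from (map_ofNat (algebraMap ℝ ℍ[ℝ]) 4).symm,
    Quaternion.coe_inj]
  constructor
  · intro h
    refine sqrt5_inj (c := 64) (d := 0) ?_
    push_cast at h ⊢
    linarith
  · rintro ⟨h1, h2⟩
    rw [h1, h2]
    norm_num

/-- The index of a norm. -/
def abIdx (a b : ℤ) : ℕ := abList.idxOf (a, b)

/-- The state of an icosian. -/
def stateOf (c : V8) : ℕ := abIdx (cA c) (cB c) * 256 + clsJ c * 16 + clsJb c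

/-- The status of a state: absent, present, or the number of its bucket plus two. -/
noncomputable def status (s : ℕ) : ℕ := stateTree.get stateWidth s

/-- The icosians of a state that can occur in a minimal vector. -/
noncomputable def bk (s : ℕ) : List V8 :=
  if 2 ≤ status s then buckets.get (status s - 2) else []

/-- The states with given first class. -/
def presentOf (j : ℕ) : List ℕ := presentBy.getD j []

/-- The check made at each short icosian. -/
noncomputable def leafCheck (c : V8) : Bool :=
  forceNat (stateOf c) fun s =>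
    decide (s < 17 * 256) && (decide (status s ≠ 0) &&
      (decide (status s = 1) || (bk s).contains c))

/-- Apply `f` to the evaluated `x`: forces the kernel to reduce `x` to a numeral first. -/
noncomputable def forceInt {α : Type} (x : ℤ) (f : ℤ → α) : α :=
  Int.rec (motive := fun _ => α) (fun n => forceNat n fun m => f (Int.ofNat m))
    (fun n => forceNat n fun m => f (Int.negSucc m)) x

@[simp] theorem forceInt_eq {α : Type} (x : ℤ) (f : ℤ → α) : forceInt x f = f x := by
  cases x <;> simp [forceInt]

/-- One stage of the search through short icosians. -/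
noncomputable def stage (rem base p w R : ℤ) (n : ℕ) (k : ℤ → ℤ → ℤ → Bool) : Bool :=
  forceInt ((-R - base) / p) fun lo =>
  (List.range n).all fun i =>
    forceInt (lo + (i : ℤ)) fun q =>
    forceInt (base + p * q) fun v =>
    forceInt (rem - w * (v * v)) fun rem' =>
    if 0 ≤ rem' then k rem' q v else true

theorem stage_spec {rem base p w R : ℤ} {n : ℕ} {k : ℤ → ℤ → ℤ → Bool}
    (h : stage rem base p w R n k = true) (q : ℤ) (hp : 0 < p) (hn : 2 * R + p < n * p)
    (hq : w * ((base + p * q) * (base + p * q)) ≤ rem)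
    (hR : -R ≤ base + p * q ∧ base + p * q ≤ R) :
    k (rem - w * ((base + p * q) * (base + p * q))) q (base + p * q) = true := by
  have h1 := Int.mul_ediv_add_emod (-R - base) p
  have h2 := Int.emod_nonneg (-R - base) hp.ne'
  have h3 := Int.emod_lt_of_pos (-R - base) hp
  set d := (-R - base) / p with hd
  have hlo : d ≤ q := by
    by_contra hc
    have : p * (q + 1) ≤ p * d := mul_le_mul_of_nonneg_left (by omega) hp.le
    nlinarith
  have hhi : q < d + n := by
    by_contra hc
    have : p * (d + n) ≤ p * q := mul_le_mul_of_nonneg_left (by omega) hp.le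
    nlinarith
  simp only [stage, forceInt_eq] at h
  have hi := List.all_eq_true.mp h (q - d).toNat (List.mem_range.mpr (by omega))
  simp only [← hd, show d + ((q - d).toNat : ℤ) = q by omega] at hi
  rw [if_pos (by linarith)] at hi
  exact hi

/-- All stages. -/
noncomputable def scan : Bool :=
  stage 64 0 1 1 8 18 fun r0 q0 _ =>
  stage r0 q0 2 5 3 5 fun r1 q1 _ =>
  stage r1 (2 * q0 + 2 * q1) 1 1 8 18 fun r2 q2 _ =>
  stage r2 (-q2) 2 5 3 5 fun r3 q3 _ =>
  stage r3 (-2 * q1 + q2 + q3) 2 1 8 10 fun r4 q4 _ =>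
  stage r4 (q2 - q3 + 2 * q4) 4 5 3 3 fun r5 q5 _ =>
  stage r5 (q0 + 2 * q2 - q3 + 2 * q4 + 4 * q5) 2 1 8 10 fun r6 q6 _ =>
  stage r6 (-q0 - 2 * q1 - q3 - 2 * q4 - 4 * q5 - 2 * q6) 4 5 3 3 fun _ q7 _ =>
  leafCheck ⟨q0, q1, q2, q3, q4, q5, q6, q7⟩

theorem scan_ok : scan = true := by decide +kernel

theorem sq_bound {v R : ℤ} (hR : 0 ≤ R) (h : v * v < (R + 1) * (R + 1)) : -R ≤ v ∧ v ≤ R :=
  ⟨by nlinarith, by nlinarith⟩

theorem leaf_ok {c : V8} (hc : cA c ≤ 64) : leafCheck c = true := by
  obtain ⟨q0, q1, q2, q3, q4, q5, q6, q7⟩ := c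
  have hs := scan_ok
  unfold scan at hs
  unfold cA nA vec at hc
  simp only at hc
  have m0 := mul_self_nonneg (1 * q0)
  have m1 := mul_self_nonneg (1 * q0 + 2 * q1)
  have m2 := mul_self_nonneg (2 * q0 + 2 * q1 + 1 * q2)
  have m3 := mul_self_nonneg (-1 * q2 + 2 * q3)
  have m4 := mul_self_nonneg (-2 * q1 + 1 * q2 + 1 * q3 + 2 * q4)
  have m5 := mul_self_nonneg (1 * q2 + -1 * q3 + 2 * q4 + 4 * q5)
  have m6 := mul_self_nonneg (1 * q0 + 2 * q2 + -1 * q3 + 2 * q4 + 4 * q5 + 2 * q6)
  have m7 := mul_self_nonneg
    (-1 * q0 + -2 * q1 + -1 * q3 + -2 * q4 + -4 * q5 + -2 * q6 + 4 * q7)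
  replace hs := stage_spec hs q0 (by norm_num) (by norm_num) (by linarith only [hc, m0, m1, m2, m3, m4, m5, m6, m7])
    (sq_bound (R := 8) (by norm_num)
      (by linarith only [hc, m0, m1, m2, m3, m4, m5, m6, m7]))
  replace hs := stage_spec hs q1 (by norm_num) (by norm_num) (by linarith only [hc, m0, m1, m2, m3, m4, m5, m6, m7])
    (sq_bound (R := 3) (by norm_num)
      (by linarith only [hc, m0, m1, m2, m3, m4, m5, m6, m7]))
  replace hs := stage_spec hs q2 (by norm_num) (by norm_num) (by linarith only [hc, m0, m1, m2, m3, m4, m5, m6, m7])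
    (sq_bound (R := 8) (by norm_num)
      (by linarith only [hc, m0, m1, m2, m3, m4, m5, m6, m7]))
  replace hs := stage_spec hs q3 (by norm_num) (by norm_num) (by linarith only [hc, m0, m1, m2, m3, m4, m5, m6, m7])
    (sq_bound (R := 3) (by norm_num)
      (by linarith only [hc, m0, m1, m2, m3, m4, m5, m6, m7]))
  replace hs := stage_spec hs q4 (by norm_num) (by norm_num) (by linarith only [hc, m0, m1, m2, m3, m4, m5, m6, m7])
    (sq_bound (R := 8) (by norm_num)
      (by linarith only [hc, m0, m1, m2, m3, m4, m5, m6, m7]))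
  replace hs := stage_spec hs q5 (by norm_num) (by norm_num) (by linarith only [hc, m0, m1, m2, m3, m4, m5, m6, m7])
    (sq_bound (R := 3) (by norm_num)
      (by linarith only [hc, m0, m1, m2, m3, m4, m5, m6, m7]))
  replace hs := stage_spec hs q6 (by norm_num) (by norm_num) (by linarith only [hc, m0, m1, m2, m3, m4, m5, m6, m7])
    (sq_bound (R := 8) (by norm_num)
      (by linarith only [hc, m0, m1, m2, m3, m4, m5, m6, m7]))
  replace hs := stage_spec hs q7 (by norm_num) (by norm_num) (by linarith only [hc, m0, m1, m2, m3, m4, m5, m6, m7])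
    (sq_bound (R := 3) (by norm_num)
      (by linarith only [hc, m0, m1, m2, m3, m4, m5, m6, m7]))
  exact hs

theorem listed_ok : (List.range (17 * 256)).all (fun s =>
    decide (status s = 0) || (presentOf (s / 16 % 16)).contains s) = true := by
  decide +kernel

theorem leaf_spec {c : V8} (hc : cA c ≤ 64) :
    abList.getD (abIdx (cA c) (cB c)) (0, 0) = (cA c, cB c) ∧
      stateOf c ∈ presentOf (clsJ c) ∧ (status (stateOf c) = 1 ∨ c ∈ bk (stateOf c)) := by
  have h := leaf_ok hc
  simp only [leafCheck, forceNat_eq, Bool.and_eq_true, Bool.or_eq_true, decide_eq_true_eq,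
    List.contains_iff_mem] at h
  refine ⟨?_, ?_, h.2.2⟩
  · have hl : abIdx (cA c) (cB c) < abList.length := by
      have : abList.length = 17 := by decide
      have h2 := h.1
      unfold stateOf at h2
      omega
    rw [List.getD_eq_getElem _ _ hl]
    exact List.getElem_idxOf hl
  · have h3 := listed_ok
    simp only [List.all_eq_true, List.mem_range, Bool.or_eq_true, decide_eq_true_eq,
      List.contains_iff_mem] at h3
    rcases h3 _ h.1 with h4 | h4
    · exact absurd h4 h.2.1
    · have e : stateOf c / 16 % 16 = clsJ c := by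
        have : clsJ c < 16 := by unfold clsJ; omega
        have : clsJb c < 16 := by unfold clsJb; omega
        unfold stateOf; omega
      rwa [e] at h4

/-- The second class of a sum. -/
def comb (m n : ℕ) : ℕ :=
  1 * ((m + n) % 2) + 2 * ((m / 2 + n / 2) % 2) + 4 * ((m / 4 + n / 4) % 2) +
    8 * ((m / 8 + n / 8) % 2)

theorem bits_comb {p q r t p' q' r' t' p'' q'' r'' t'' : ℤ}
    (h1 : (p + p' + p'') % 2 = 0) (h2 : (q + q' + q'') % 2 = 0) (h3 : (r + r' + r'') % 2 = 0)
    (h4 : (t + t' + t'') % 2 = 0) :
    bits p'' q'' r'' t'' = comb (bits p q r t) (bits p' q' r' t') := by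
  have hp := Int.emod_two_eq_zero_or_one p
  have hq := Int.emod_two_eq_zero_or_one q
  have hr := Int.emod_two_eq_zero_or_one r
  have ht := Int.emod_two_eq_zero_or_one t
  have hp' := Int.emod_two_eq_zero_or_one p'
  have hq' := Int.emod_two_eq_zero_or_one q'
  have hr' := Int.emod_two_eq_zero_or_one r'
  have ht' := Int.emod_two_eq_zero_or_one t'
  have ep : p'' % 2 = (p % 2 + p' % 2) % 2 := by omega
  have eq : q'' % 2 = (q % 2 + q' % 2) % 2 := by omega
  have er : r'' % 2 = (r % 2 + r' % 2) % 2 := by omega
  have et : t'' % 2 = (t % 2 + t' % 2) % 2 := by omega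
  unfold bits
  rw [ep, eq, er, et]
  generalize p % 2 = a, q % 2 = b, r % 2 = c, t % 2 = d at *
  generalize p' % 2 = a', q' % 2 = b', r' % 2 = c', t' % 2 = d' at *
  rcases hp with rfl | rfl <;> rcases hq with rfl | rfl <;> rcases hr with rfl | rfl <;>
    rcases ht with rfl | rfl <;> rcases hp' with rfl | rfl <;> rcases hq' with rfl | rfl <;>
    rcases hr' with rfl | rfl <;> rcases ht' with rfl | rfl <;> rfl

theorem clsJb_comb {x y z : V8} (h : clsJb (add (add x y) z) = 0) :
    clsJb z = comb (clsJb x) (clsJb y) := by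
  have h' : bits (parJb0 (add (add x y) z)) (parJb1 (add (add x y) z))
    (parJb2 (add (add x y) z)) (parJb3 (add (add x y) z)) = 0 := h
  rw [bits_eq_zero] at h'
  obtain ⟨h1, h2, h3, h4⟩ := h'
  simp only [parJb0, parJb1, parJb2, parJb3, V8.add] at h1 h2 h3 h4
  exact bits_comb (by unfold parJb0; omega) (by unfold parJb1; omega) (by unfold parJb2; omega)
    (by unfold parJb3; omega)

/-- The third state, for two states. -/
noncomputable def thirdOf (a b : ℕ) : ℕ :=
  thirdTree.get 5 (a / 256 * 17 + b / 256) * 256 + a / 16 % 16 * 16 + Nat.xor (a % 16) (b % 16)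

theorem third_ok : (List.range 17).all (fun i => (List.range 17).all fun j =>
    Nat.beq (thirdTree.get 5 (i * 17 + j))
      (abIdx (64 - (abList.getD i (0, 0)).1 - (abList.getD j (0, 0)).1)
        (-(abList.getD i (0, 0)).2 - (abList.getD j (0, 0)).2))) = true := by
  decide +kernel

theorem xor_ok : (List.range 16).all (fun i => (List.range 16).all fun j =>
    Nat.beq (Nat.xor i j) (comb i j)) = true := by
  decide +kernel

/-- The check made at each pair of states. -/
noncomputable def pairCheck (a b : ℕ) : Bool :=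
  forceNat (thirdOf a b) fun d =>
  Nat.ble 4352 d || (forceNat (status d) fun t => Nat.beq t 0 ||
    (Nat.ble 2 t && Nat.ble 2 (status a) && Nat.ble 2 (status b)))

/-- The number of triples of icosians for a pair of states. -/
noncomputable def pairCount (a b : ℕ) : ℕ :=
  forceNat (thirdOf a b) fun d =>
    if 4352 ≤ d then 0 else (bk a).length * ((bk b).length * (bk d).length)

theorem pairs_ok : presentBy.all (fun l => l.all fun a => l.all fun b => pairCheck a b) = true := by
  decide +kernel

theorem present_ok : presentBy.all (fun l => l.all fun a => decide (status a ≠ 0)) = true := by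
  decide +kernel

theorem count_ok :
    (presentBy.map fun l => (l.map fun a => (l.map fun b => pairCount a b).sum).sum).sum =
      37800 := by
  decide +kernel

theorem presentOf_mem {j a : ℕ} (h : a ∈ presentOf j) :
    ∃ l ∈ presentBy, presentOf j = l := by
  unfold presentOf at h ⊢
  by_cases hj : j < presentBy.length
  · exact ⟨_, List.getElem_mem hj, List.getD_eq_getElem _ _ hj⟩
  · rw [List.getD_eq_default _ _ (not_lt.mp hj)] at h
    exact absurd h List.not_mem_nil

/-- A superset of the minimal vectors, as a list. -/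
noncomputable def candidates : List (V8 × V8 × V8) :=
  presentBy.flatMap fun l => l.flatMap fun a => l.flatMap fun b =>
    if 4352 ≤ thirdOf a b then []
    else (bk a).flatMap fun x => (bk b).flatMap fun y => (bk (thirdOf a b)).map fun z => (x, y, z)

theorem flatMap_length {α β : Type} (g : α → List β) (n : α → ℕ) (L : List α)
    (h : ∀ a ∈ L, (g a).length = n a) : (L.flatMap g).length = (L.map n).sum := by
  rw [List.length_flatMap, List.map_congr_left h]

theorem candidates_length : candidates.length = 37800 := by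
  refine Eq.trans ?_ count_ok
  unfold candidates
  refine flatMap_length _ _ _ fun l _ => ?_
  refine flatMap_length _ _ _ fun a _ => ?_
  refine flatMap_length _ _ _ fun b _ => ?_
  simp only [pairCount, forceNat_eq]
  generalize bk a = A, bk b = B, bk (thirdOf a b) = D
  split
  · simp
  · simp [List.length_flatMap]

/-- The coordinates of a minimal vector are among the candidates. -/
theorem mem_candidates {x y z : V8} (hA : cA x + cA y + cA z = 64) (hB : cB x + cB y + cB z = 0)
    (hxy : clsJ x = clsJ y) (hyz : clsJ y = clsJ z) (hb : clsJb (add (add x y) z) = 0) :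
    (x, y, z) ∈ candidates := by
  have nx := nA_nonneg (vec x)
  have ny := nA_nonneg (vec y)
  have nz := nA_nonneg (vec z)
  simp only [cA] at hA
  obtain ⟨ex, px, sx⟩ := leaf_spec (c := x) (by simp only [cA]; omega)
  obtain ⟨ey, py, sy⟩ := leaf_spec (c := y) (by simp only [cA]; omega)
  obtain ⟨ez, pz, sz⟩ := leaf_spec (c := z) (by simp only [cA]; omega)
  have hJ : ∀ c : V8, clsJ c < 16 := fun c => by unfold clsJ; omega
  have hJb : ∀ c : V8, clsJb c < 16 := fun c => by unfold clsJb; omega
  have hd : ∀ c : V8, stateOf c / 256 = abIdx (cA c) (cB c) ∧ stateOf c / 16 % 16 = clsJ c ∧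
      stateOf c % 16 = clsJb c := fun c => by
    have := hJ c
    have := hJb c
    unfold stateOf
    omega
  have hthird : thirdOf (stateOf x) (stateOf y) = stateOf z := by
    have hlen : abList.length = 17 := by decide
    have hi : ∀ c : V8, cA c ≤ 64 → abIdx (cA c) (cB c) < 17 := fun c hc => by
      have := leaf_ok hc
      simp only [leafCheck, forceNat_eq, Bool.and_eq_true, decide_eq_true_eq] at this
      have h2 := this.1
      unfold stateOf at h2
      omega
    have h3 := Nat.eq_of_beq_eq_true (List.all_eq_true.mp (List.all_eq_true.mp third_ok _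
      (List.mem_range.mpr (hi x (by simp only [cA]; omega)))) _
      (List.mem_range.mpr (hi y (by simp only [cA]; omega))))
    have h4 := Nat.eq_of_beq_eq_true (List.all_eq_true.mp (List.all_eq_true.mp xor_ok _
      (List.mem_range.mpr (hJb x))) _ (List.mem_range.mpr (hJb y)))
    unfold thirdOf
    rw [(hd x).1, (hd y).1, (hd x).2.2, (hd y).2.2, h3, h4]
    rw [(hd x).2.1, ex, ey, hxy, hyz,
      ← clsJb_comb hb, stateOf]
    dsimp only
    rw [show 64 - cA x - cA y = cA z by simp only [cA]; omega,
      show -cB x - cB y = cB z by omega]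
  obtain ⟨l, hl, hle⟩ := presentOf_mem px
  rw [← hxy, hle] at py
  rw [← hyz, ← hxy, hle] at pz
  rw [hle] at px
  have hp := List.all_eq_true.mp (List.all_eq_true.mp (List.all_eq_true.mp pairs_ok l hl) _ px) _ py
  have hzlt : ¬ 4352 ≤ stateOf z := by
    have hlen : abList.length = 17 := by decide
    have h1 : abIdx (cA z) (cB z) < abList.length := by
      have := leaf_ok (c := z) (by simp only [cA]; omega)
      simp only [leafCheck, forceNat_eq, Bool.and_eq_true, decide_eq_true_eq] at this
      have hl : abList.length = 17 := by decide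
      have h2 := this.1
      unfold stateOf at h2
      omega
    have := hJ z
    have := hJb z
    unfold stateOf
    omega
  have hz0 : status (stateOf z) ≠ 0 :=
    decide_eq_true_eq.mp (List.all_eq_true.mp (List.all_eq_true.mp present_ok l hl) _ pz)
  simp only [pairCheck, forceNat_eq, hthird, Bool.or_eq_true, Bool.and_eq_true, Nat.ble_eq,
    hzlt, false_or] at hp
  replace hp := hp.resolve_left (fun h => hz0 (Nat.eq_of_beq_eq_true h))
  simp only [candidates, List.mem_flatMap, List.mem_map]
  refine ⟨l, hl, _, px, _, py, ?_⟩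
  rw [hthird, if_neg hzlt]
  simp only [List.mem_flatMap, List.mem_map]
  exact ⟨x, sx.resolve_left (by omega), y, sy.resolve_left (by omega), z,
    sz.resolve_left (by omega), rfl⟩

/-- The set of minimal vectors. -/
def minimal : Set (Fin 3 → ℍ[ℝ]) := {r | r ∈ icoLeech ∧ qip r r = 4}

/-- The vector with given coordinates. -/
noncomputable def vecOf (t : V8 × V8 × V8) : Fin 3 → ℍ[ℝ] := ![ico t.1, ico t.2.1, ico t.2.2]

theorem minimal_subset : minimal ⊆ vecOf '' {t | t ∈ candidates} := by
  rintro r ⟨hr, h4⟩
  obtain ⟨x, y, z, hx, hy, hz, h1, h2, h3⟩ := mem_icoLeech.mp hr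
  obtain ⟨hA, hB⟩ := (qip_self_eq_four hx hy hz).mp h4
  refine ⟨(x, y, z), mem_candidates hA hB h1 h2 h3, ?_⟩
  funext t
  fin_cases t
  exacts [hx.symm, hy.symm, hz.symm]

theorem minimal_finite : minimal.Finite :=
  ((List.finite_toSet candidates).image vecOf).subset minimal_subset

theorem minimal_ncard_le : minimal.ncard ≤ 37800 := by
  refine (Set.ncard_le_ncard minimal_subset ((List.finite_toSet candidates).image vecOf)).trans ?_
  refine (Set.ncard_image_le (List.finite_toSet candidates)).trans ?_
  classical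
  rw [← List.coe_toFinset, Set.ncard_coe_finset, ← candidates_length]
  exact List.toFinset_card_le _

end Cfsg.Agent.Steiner.Ico
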